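import Cfsg.Agent.Lib.MX.Defs

/-!
# S5267: `Ω₁ Z(E)` and linear models (see notes/MX.md)
-/

set_option autoImplicit false
set_option linter.unusedSectionVars false
set_option linter.unusedVariables false

namespace Cfsg.Agent.MX

open Subgroup Cfsg.Agent.H9 Cfsg.Agent.FT
open Cfsg.Agent.EX (pw PAct NC Sec)
open scoped commutatorElement

universe u

variable {G : Type u} [Group G] {p : ℕ} [hp : Fact p.Prime] {S E A K Γ : Subgroup G} {n : ℕ}

/-- `Ω₁ Z(E)`. -/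
def Om (p : ℕ) (E : Subgroup G) : Subgroup G where
  carrier := {y | y ∈ E ∧ y ∈ 𝒞(E) ∧ y ^ p = 1}
  one_mem' := ⟨one_mem _, one_mem _, one_pow _⟩
  mul_mem' {a b} ha hb := ⟨mul_mem ha.1 hb.1, mul_mem ha.2.1 hb.2.1, by
    rw [Commute.mul_pow (mem_cent.1 hb.2.1 a ha.1), ha.2.2, hb.2.2, one_mul]⟩
  inv_mem' {a} ha := ⟨inv_mem ha.1, inv_mem ha.2.1, by rw [inv_pow, ha.2.2, inv_one]⟩

theorem Om_le : Om p E ≤ E := fun _ h => h.1

theorem le_cent_Om : E ≤ 𝒞(Om p E) := fun x hx => mem_cent.2 fun y hy => (mem_cent.1 hy.2.1 x hx).symm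

theorem norm_le_norm_Om [Finite G] : 𝒩(E) ≤ 𝒩(Om p E) := fun g hg =>
  mem_normalizer_of_conj_mem fun y hy => ⟨H9.conj_mem_of_mem_normalizer hg hy.1,
    H9.conj_mem_of_mem_normalizer (H1.le_normalizer_centralizer le_rfl hg) hy.2.1, by
      rw [conj_pow, hy.2.2]; simp⟩

theorem mem_norm_bot (g : G) : g ∈ 𝒩((⊥ : Subgroup G)) := le_normalizer_of_normal' inferInstance g

theorem exists_sec_Om [Finite G] (p : ℕ) [Fact p.Prime] (E : Subgroup G) :
    ∃ (V : Type u) (_ : AddCommGroup V) (_ : Module (ZMod p) V) (_ : Finite V),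
      Nonempty (Sec p (Om p E) ⊥ V) :=
  EX.exists_sec (fun g _ => mem_norm_bot g)
    (fun a ha b hb => commutator_mem_of_comm _ (mem_cent.1 hb.2.1 a ha.1))
    fun a ha => mem_bot.2 ha.2.2

variable {V : Type u} [AddCommGroup V] [Module (ZMod p) V]

/-- The representation of a subgroup normalizing the section. -/
def secHom (σ : Sec p A K V) (hA : Γ ≤ 𝒩(A)) (hK : Γ ≤ 𝒩(K)) : Γ →* Module.End (ZMod p) V where
  toFun g := σ.ρ g
  map_one' := σ.ρ_one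
  map_mul' a b := σ.ρ_mul (hA a.2) (hK a.2) (hA b.2) (hK b.2)

theorem sec_inj (σ : Sec p A ⊥ V) {a b : G} (ha : a ∈ A) (hb : b ∈ A) (h : σ.π a = σ.π b) :
    a = b := by
  rwa [σ.π_eq_iff ha hb, mem_bot, mul_inv_eq_one] at h

theorem sec_eq_one_iff (σ : Sec p A ⊥ V) {g : G} (hg : g ∈ 𝒩(A)) : σ.ρ g = 1 ↔ g ∈ 𝒞(A) := by
  refine ⟨fun h => mem_cent.2 fun a ha => ?_, fun h => σ.ρ_eq_one hg (mem_norm_bot g) fun a ha =>
    commutator_mem_of_comm _ (mem_cent.1 h a ha).symm⟩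
  have := σ.ρ_π g hg (mem_norm_bot g) a ha
  rw [h] at this
  exact (mul_inv_eq_iff_eq_mul.1 (sec_inj σ ha (H9.conj_mem_of_mem_normalizer hg ha) this).symm).symm

theorem sec_nil [Finite G] (h : MaxCl p S n) (h4 : 4 ≤ n) {i : ℕ} (σ : Sec p (lv S i) ⊥ V) {s : G}
    (hs : s ∈ S) : (σ.ρ s - 1) ^ (n - i) = 0 := by
  have hN := lv_norm S i hs
  have hpow : ∀ j, ∀ a ∈ lv S i, ∃ b ∈ lv S (i + j), ((σ.ρ s - 1) ^ j) (σ.π a) = σ.π b := fun j => by
    induction j with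
    | zero => exact fun a ha => ⟨a, ha, rfl⟩
    | succ j ih =>
      intro a ha
      obtain ⟨b, hb, e⟩ := ih a ha
      refine ⟨⁅s, b⁆, comm_mem_succ' hs hb, ?_⟩
      rw [pow_succ', Module.End.mul_apply, e, σ.π_comm hN (mem_norm_bot s)
        (lv_anti S (by omega) hb)]
      rfl
  ext v
  obtain ⟨a, ha, rfl⟩ := σ.surj v
  obtain ⟨b, hb, e⟩ := hpow (n - i) a ha
  rw [e, eq_one_of_mem h h4 (by omega) hb, σ.π_one]; rfl

/-- An element outside `γ₁` acts as a single Jordan block on a normal section below `γ₁`. -/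
theorem M5.exists_cyc [Finite G] (h : M5 p S n) {i : ℕ} (hi : 1 ≤ i) (σ : Sec p (lv S i) ⊥ V)
    {s : G} (hs : Unif S n s) :
    ∃ v₀ w, H3.MC.Cyc (σ.ρ s - 1) v₀ w ∧ w ≤ n - i := by
  have hN := lv_norm S i hs.mem
  have h0 := sec_nil h.mc h.h4 σ hs.mem
  have hr : ∀ d j, j + d = n → i ≤ j → ∀ b ∈ lv S (j + 1),
      σ.π b ∈ LinearMap.range (σ.ρ s - 1) := fun d => by
    induction d with
    | zero =>
      intro j hj _ b hb
      rw [eq_one_of_mem h.mc h.h4 (by omega) hb, σ.π_one]; exact zero_mem _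
    | succ d ih =>
      intro j hj hij b hb
      by_cases hjn : j + 2 ≤ n
      swap
      · rw [eq_one_of_mem h.mc h.h4 (by omega) hb, σ.π_one]; exact zero_mem _
      obtain ⟨u, hu⟩ := exists_lev_of_lt h.mc h.h4 (i := j) (by omega)
      have h1 := (hu.comm_unif h.mc h.h4 hs (by omega) hjn).comm_symm
      obtain ⟨c, hc⟩ := exists_cong h.mc h.h4 h1 hb
      have h2 := ih (j + 1) (by omega) (by omega) _ hc
      have h3 := lv_anti S (show i ≤ j + 1 by omega) h1.1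
      rw [σ.π_mul _ (inv_mem (EX.pw_mem h3 c)) _ (lv_anti S (by omega) hb),
        σ.π_inv (EX.pw_mem h3 c), σ.π_pw h3, σ.π_comm hN (mem_norm_bot s) (lv_anti S hij hu.1)] at h2
      have h4 : σ.ρ s (σ.π u) - σ.π u ∈ LinearMap.range (σ.ρ s - 1) := ⟨σ.π u, rfl⟩
      simpa using add_mem (Submodule.smul_mem _ c h4) h2
  by_cases hin : i < n
  · obtain ⟨u, hu⟩ := exists_lev_of_lt h.mc h.h4 hin
    obtain ⟨w, hw⟩ := H3.MC.exists_cyc (v₀ := σ.π u) ⟨_, h0⟩ fun v => by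
      obtain ⟨a, ha, rfl⟩ := σ.surj v
      obtain ⟨c, hc⟩ := exists_cong h.mc h.h4 hu ha
      have h2 := hr (n - i) i (by omega) le_rfl _ hc
      rw [σ.π_mul _ (inv_mem (EX.pw_mem hu.1 c)) _ ha, σ.π_inv (EX.pw_mem hu.1 c), σ.π_pw hu.1,
        neg_add_eq_sub] at h2
      exact ⟨c, h2⟩
    exact ⟨_, w, hw, (hw.nil _).1 h0⟩
  · obtain ⟨w, hw⟩ := H3.MC.exists_cyc (v₀ := 0) ⟨_, h0⟩ fun v => by
      obtain ⟨a, ha, rfl⟩ := σ.surj v
      rw [eq_one_of_mem h.mc h.h4 (not_lt.1 hin) ha, σ.π_one]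
      exact ⟨0, by simp⟩
    exact ⟨_, w, hw, (hw.nil _).1 h0⟩

/-- An elementary abelian term below `γ₁` has rank less than `p`. -/
theorem M5.sub_lt [Finite G] (h : M5 p S n) {i : ℕ} (hi : 2 ≤ i) (hp' : ∀ x ∈ lv S i, x ^ p = 1) :
    n - i < p := by
  by_contra hlt
  have := h.h5
  obtain ⟨u, hu⟩ := exists_lev_of_lt h.mc h.h4 (i := i) (by omega)
  obtain ⟨s, hs⟩ := h.exists_unif
  exact hu.pow_ne_one h.mc h.h4 hs hi (by omega) (hp' u hu.1)

end Cfsg.Agent.MX
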