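import Cfsg.Agent.Lib.H1.Fpf
import Cfsg.Agent.Lib.H3.MC3
import Cfsg.Agent.Lib.FT.BG02

/-!
# S5267: first steps towards Lemma Q (see notes/MX.md)
-/

set_option autoImplicit false
set_option linter.unusedSectionVars false
set_option linter.unusedVariables false

namespace Cfsg.Agent.MX

open Subgroup Cfsg.Agent.FT Cfsg.Agent.H3.MC Polynomial

variable {p : ℕ} [hp : Fact p.Prime]

theorem q_hh {X R : Type*} [Group X] [Finite X] [Ring R] (hR : (p : R) = 0) (ρ : X →* R)
    {K : Subgroup X} (hK : ¬ p ∣ Nat.card K) {s : X} (hs : s ^ p = 1) (hn : s ∈ 𝒩(K))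
    (hc : ∀ k ∈ K, k * s = s * k → k = 1) (h0 : ∑ i ∈ Finset.range p, ρ s ^ i = 0) :
    ∀ k ∈ K, ρ k = 1 := by
  classical
  have := Fintype.ofFinite K
  let ι : Multiplicative (ZMod p) →* 𝒩(K) := MonoidHom.mk' (fun γ => ⟨s, hn⟩ ^ γ.toAdd.val)
    fun a b => Subtype.ext (by
      show s ^ (a.toAdd + b.toAdd).val = s ^ a.toAdd.val * s ^ b.toAdd.val
      rw [ZMod.val_add, ← pow_eq_pow_mod _ hs, pow_add])
  have hι : ∀ γ, (ι γ : X) = s ^ γ.toAdd.val := fun _ => rfl
  have hf : H1.Fpf (K.normalizerMonoidHom.comp ι) := fun γ hγ x hx => Subtype.ext <|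
    hc x x.2 (by
      have h1 : Commute (ι γ : X) x := mul_inv_eq_iff_eq_mul.1 (congrArg Subtype.val hx)
      have h2 := h1.pow_left (γ.toAdd⁻¹).val
      rw [hι, ← pow_mul, pow_eq_pow_mod _ hs, ← ZMod.val_mul, mul_inv_cancel₀ (a := γ.toAdd) hγ,
        ZMod.val_one, pow_one] at h2
      exact h2.eq.symm)
  have h1 := H1.sum_eq_card_of_fpf hf (ρ.comp K.subtype) (ρ.comp ((𝒩(K)).subtype.comp ι))
    (fun γ t => by
      show ρ (ι γ) * ρ t = ρ (ι γ * t * (ι γ : X)⁻¹) * ρ (ι γ)
      rw [← map_mul, ← map_mul, inv_mul_cancel_right]) (by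
      rw [← h0]
      exact Finset.sum_bij' (fun γ _ => γ.toAdd.val) (fun i _ => Multiplicative.ofAdd (i : ZMod p))
        (fun γ _ => Finset.mem_range.2 (ZMod.val_lt _)) (fun _ _ => Finset.mem_univ _)
        (fun γ _ => by simp) (fun i hi => ZMod.val_cast_of_lt (Finset.mem_range.1 hi))
        fun γ _ => map_pow ρ _ _)
  intro k hk
  have h2 : (ρ.comp K.subtype) ⟨k, hk⟩ * ∑ t, (ρ.comp K.subtype) t = ∑ t, (ρ.comp K.subtype) t := by
    rw [Finset.mul_sum]
    simp only [← map_mul]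
    exact (Group.mulLeft_bijective _).sum_comp (ρ.comp K.subtype)
  rw [h1, ← Nat.card_eq_fintype_card] at h2
  obtain ⟨m, -, hm⟩ := Nat.exists_mul_mod_eq_one_of_coprime
    ((Nat.Prime.coprime_iff_not_dvd hp.out).2 hK).symm hp.out.one_lt
  have h3 : ((Nat.card K : ℕ) : R) * m = 1 := by
    rw [← Nat.cast_mul, ← Nat.div_add_mod (Nat.card K * m) p, hm, Nat.cast_add, Nat.cast_mul, hR,
      zero_mul, zero_add, Nat.cast_one]
  calc ρ k = ρ k * (Nat.card K : ℕ) * m := by rw [mul_assoc, h3, mul_one]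
    _ = 1 := by rw [← h3]; exact congrArg (· * (m : R)) h2

section Syl

variable {X : Type*} [Group X] [Finite X] {s : X}

theorem q_exists_conj (hs : orderOf s = p) (hsyl : ¬ p ∣ (zpowers s).index) {K : Subgroup X}
    (hK : p ∣ Nat.card K) : ∃ g, ∃ y ∈ K, g * y * g⁻¹ = s := by
  have hc : Nat.card (zpowers s) = p := by rw [Nat.card_zpowers, hs]
  have hS : H7.SylowIn p (zpowers s) ⊤ := H7.sylowIn_of_not_dvd_relIndex le_top
    (IsPGroup.of_card (n := 1) (by rw [hc, pow_one])) (by rwa [relIndex_top_right])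
  obtain ⟨y, hy⟩ := exists_prime_orderOf_dvd_card' p hK
  have hyp : y.1 ^ p ^ 1 = 1 := by rw [pow_one, ← hy, ← orderOf_coe, pow_orderOf_eq_one]
  obtain ⟨g, -, hg⟩ := hS.exists_conj (H7.isPGroup_zpowers_of_pow hyp) le_top
  have e := H9.zpowers_eq_of_card_prime hp.out hc (hg _ (mem_zpowers _)) (fun e => hp.out.ne_one (by
    rw [← hy, orderOf_eq_one_iff]; exact Subtype.ext (by simpa using e)))
  obtain ⟨i, hi⟩ : s ∈ zpowers (g * y.1 * g⁻¹) := e ▸ mem_zpowers s
  exact ⟨g, y.1 ^ i, K.zpow_mem y.2 i, by rw [← hi]; exact conj_zpow.symm⟩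

theorem q_index (hs : orderOf s = p) (hsyl : ¬ p ∣ (zpowers s).index) {L : Subgroup X}
    (hL : s ∈ L) : ¬ p ∣ (zpowers (⟨s, hL⟩ : L)).index := fun h => hsyl (h.trans (by
  rw [← relIndex_mul_index (zpowers_le.2 hL)]
  refine Dvd.dvd.mul_right (Eq.dvd ?_) _
  rw [relIndex]; congr 1
  ext x
  exact ⟨fun ⟨i, hi⟩ => ⟨i, congrArg Subtype.val hi⟩, fun ⟨i, hi⟩ => ⟨i, Subtype.ext hi⟩⟩))

theorem q_mem (hs : orderOf s = p) (hsyl : ¬ p ∣ (zpowers s).index) {x : X}
    (hx : x ∈ 𝒩(zpowers s)) (hxp : x ^ p = 1) : x ∈ zpowers s :=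
  (H7.sylowIn_of_not_dvd_relIndex le_top (IsPGroup.of_card (n := 1)
    (by rw [Nat.card_zpowers, hs, pow_one])) (by rwa [relIndex_top_right])).mem_of_mem_normalizer
    (mem_top x) hx (k := 1) (by rwa [pow_one])

/-- A quadratic self-centralizing Sylow subgroup of order `p` is normal. -/
theorem q_normal {R : Type*} [Ring R] [Finite R] (h5 : 5 ≤ p) (hR : (p : R) = 0) (ρ : X →* R)
    (hρ : Function.Injective ρ) (hs : orderOf s = p) (hsyl : ¬ p ∣ (zpowers s).index)
    (hcs : ∀ x, x * s = s * x → x ∈ zpowers s) (hA : (ρ s - 1) * (ρ s - 1) = 0) :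
    (zpowers s).Normal := by
  have hsp : s ^ p = 1 := hs ▸ pow_orderOf_eq_one s
  have hs1 : s ≠ 1 := fun e => hp.out.ne_one (by rw [← hs, e, orderOf_one])
  have hc : Nat.card (zpowers s) = p := by rw [Nat.card_zpowers, hs]
  have key : ∀ g, g * s * g⁻¹ ∈ zpowers s := fun g => by
    refine q_mem hs hsyl (by_contra fun hg => ?_) (by rw [conj_pow, hsp]; simp)
    obtain ⟨h, e, -, -, h1, h2, h3, h4, -⟩ := exists_neg h5 hR ρ hρ (H := 𝒩(zpowers s))
      (fun x hx hx1 hxp g hg => by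
        have h1 := q_mem hs hsyl hx hxp
        have h2 := q_mem hs hsyl hg (by rw [conj_pow, hxp]; simp)
        rw [← H9.zpowers_eq_of_card_prime hp.out hc h1 hx1] at h2 ⊢
        exact mem_normalizer_fintype (by
          rintro _ ⟨i, rfl⟩
          simpa only [conj_zpow, SetLike.mem_coe] using zpow_mem h2 i))
      (le_normalizer (mem_zpowers s)) hs1 hA (fun x κ h1 h2 => hcs x (hρ (by
        rw [map_mul, map_mul, h1]
        have : ρ s = 1 + (ρ s - 1) := by abel
        rw [this, add_sub_cancel_left]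
        generalize ρ s - 1 = A at hA h2
        simp only [add_mul, mul_add, one_mul, mul_one, mul_assoc, hA, mul_zero]
        rw [h2, ← mul_assoc, hA, zero_mul]; abel))) hg
    have h6 : h ∈ zpowers s := hcs h (hρ (by
      rw [map_mul, map_mul, h1]
      have : ρ s = 1 + (ρ s - 1) := by abel
      rw [this]
      generalize ρ s - 1 = A at h3 h4
      simp only [two_mul, add_mul, mul_add, sub_mul, mul_sub, one_mul, mul_one, h3, h4]; abel))
    have h7 : h ^ 2 = 1 := hρ (by
      rw [map_pow, h1, map_one, sq]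
      simp only [two_mul, add_mul, mul_add, sub_mul, mul_sub, one_mul, mul_one, h2]; abel)
    have h8 : h = 1 := by
      have := pow_gcd_eq_one.2 ⟨h7, (by
        obtain ⟨i, rfl⟩ := h6
        rw [← zpow_natCast, ← zpow_mul, mul_comm, zpow_mul, zpow_natCast, hsp, one_zpow] :
          h ^ p = 1)⟩
      rwa [show Nat.gcd 2 p = 1 from (Nat.coprime_primes Nat.prime_two hp.out).2 (by omega),
        pow_one] at this
    rw [h8, map_one, eq_comm, sub_eq_self] at h1
    obtain ⟨j, hj⟩ := hp.out.odd_of_ne_two (by omega)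
    have h9 : e = 0 := by
      have : (p : R) * e = (j : R) * (2 * e) + e := by
        rw [hj]; push_cast; rw [add_mul, one_mul, ← mul_assoc, (Nat.cast_commute j (2 : R)).eq]
      rwa [hR, h1, zero_mul, mul_zero, zero_add, eq_comm] at this
    rw [h9, mul_zero, eq_comm, sub_eq_zero] at h3
    exact hs1 (hρ (h3.trans (map_one ρ).symm))
  exact ⟨by
    rintro _ ⟨i, rfl⟩ g
    simpa only [conj_zpow] using zpow_mem (key g) i⟩

end Syl

theorem q_pow {k R : Type*} [CommRing k] [Ring R] [Algebra k R] {e : R} (he : e * e = e) (c : k)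
    (n : ℕ) : (1 + (c - 1) • e) ^ n = 1 + (c ^ n - 1) • e := by
  induction n with
  | zero => simp
  | succ n ih =>
    rw [pow_succ, ih]
    simp only [add_mul, mul_add, one_mul, mul_one, smul_mul_assoc, mul_smul_comm, he, pow_succ]
    module

theorem q_binom {R : Type*} [Ring R] (N : R) (l : ℕ) :
    ∃ B, Commute N B ∧ (1 + N) ^ l = 1 + (l : R) * N + N * N * B := by
  induction l with
  | zero => exact ⟨0, Commute.zero_right _, by simp⟩
  | succ l ih =>
    obtain ⟨B, h1, h2⟩ := ih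
    refine ⟨l + B + B * N, ((Nat.cast_commute l N).symm.add_right h1).add_right
      (h1.mul_right (Commute.refl N)), ?_⟩
    rw [pow_succ, h2]
    push_cast
    simp only [add_mul, mul_add, one_mul, mul_one, mul_assoc, (Nat.cast_commute l _).eq]
    abel

section Q

variable {X V : Type*} [Group X] [Finite X] [AddCommGroup V] [Module (ZMod p) V] [Finite V]
  (h5 : 5 ≤ p) (ρ : X →* Module.End (ZMod p) V) (hρ : Function.Injective ρ) {s : X}
  (hs : orderOf s = p) (hsyl : ¬ p ∣ (zpowers s).index)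
  (hcs : ∀ x, x * s = s * x → x ∈ zpowers s) {v₀ : V} {w : ℕ}
  (hcyc : Cyc (ρ s - 1) v₀ w) (hw : w < p) {c : ZMod p} (hc : orderOf c = p - 1)

include hρ hs hcs hcyc hw in
theorem q_triv {K : Subgroup X} (hK : ¬ p ∣ Nat.card K) (hn : s ∈ 𝒩(K)) : ∀ k ∈ K, k = 1 :=
  fun k hk => hρ ((q_hh natCast_end ρ hK (hs ▸ pow_orderOf_eq_one s) hn (fun k hk h => by
    by_contra h1
    have h2 := H9.zpowers_eq_of_card_prime hp.out (by rw [Nat.card_zpowers, hs]) (hcs k h) h1
    exact hK (hs ▸ K.orderOf_dvd_natCard (zpowers_le.2 hk (h2 ▸ mem_zpowers s)))) (by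
    have h1 : ∑ i ∈ Finset.range p, (Polynomial.X + 1 : (ZMod p)[X]) ^ i =
        Polynomial.X ^ (p - 1) := by
      refine mul_right_cancel₀ X_ne_zero ?_
      have := geom_sum_mul_add (Polynomial.X : (ZMod p)[X]) p
      rw [add_pow_char, one_pow, add_left_inj] at this
      rw [this, ← pow_succ, Nat.sub_add_cancel hp.out.one_le]
    have h2 := congrArg (aeval (ρ s - 1)) h1
    simp only [map_sum, map_pow, map_add, aeval_X, map_one, sub_add_cancel] at h2
    rw [h2, hcyc.nil]; omega) k hk).trans (map_one ρ).symm)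

include h5 hρ hs hcs hcyc hc in
theorem q_one {a : X} (ha1 : a ≠ 1) {e : Module.End (ZMod p) V} (he : e * e = e)
    (ha : ρ a = 1 + (c - 1) • e) (hn : a ∈ 𝒩(zpowers s)) : (ρ s - 1) * (ρ s - 1) = 0 := by
  have hsp : s ^ p = 1 := hs ▸ pow_orderOf_eq_one s
  obtain ⟨l, hl⟩ := mem_powers_iff_mem_zpowers.2 ((mem_normalizer_iff.1 hn s).1 (mem_zpowers s))
  replace hl : s ^ l = a * s * a⁻¹ := hl
  have hl1 : (l : ZMod p) ≠ 1 := fun h => by
    have h1 : s ^ l = s ^ 1 := by
      rw [pow_eq_pow_iff_modEq, hs, ← ZMod.natCast_eq_natCast_iff, h, Nat.cast_one]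
    obtain ⟨i, rfl⟩ := hcs a (by rw [← mul_inv_eq_iff_eq_mul, ← hl, h1, pow_one])
    have h2 : ρ (s ^ i) ^ p = ρ (s ^ i) := by rw [ha, q_pow he, ZMod.pow_card]
    rw [← map_pow, ← zpow_natCast, ← zpow_mul, mul_comm, zpow_mul, zpow_natCast, hsp,
      one_zpow] at h2
    exact ha1 (hρ h2).symm
  obtain ⟨B, hB, hb⟩ := q_binom (ρ s - 1) l
  have hAN : ρ a * (ρ s - 1) = ((l : ZMod p) • (ρ s - 1) + (ρ s - 1) * (ρ s - 1) * B) * ρ a := by
    rw [add_sub_cancel, ← map_pow, hl, add_assoc, ← sub_eq_iff_eq_add', ← nsmul_eq_mul,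
      ← Nat.cast_smul_eq_nsmul (ZMod p)] at hb
    rw [← hb, sub_mul, ← map_mul, inv_mul_cancel_right, map_mul, mul_sub, mul_one, one_mul]
  have hq : (ρ a - 1) * (ρ a - c • 1) = 0 := by
    rw [ha, add_sub_cancel_left, smul_mul_assoc, mul_sub, mul_add, mul_one, mul_smul_comm,
      mul_smul_comm, he, mul_one]
    module
  generalize ρ a = A at hAN hq
  generalize ρ s - 1 = N at hcyc hAN hB
  have hstep : ∀ j, ∀ v ∈ LinearMap.range (N ^ j), (N * N * B) v ∈ LinearMap.range (N ^ (j + 2)) := by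
    rintro j _ ⟨u, rfl⟩
    refine ⟨B u, ?_⟩
    rw [← Module.End.mul_apply, ← Module.End.mul_apply, mul_assoc, (hB.pow_left j).symm.eq,
      ← mul_assoc, ← sq, ← pow_add, add_comm]
  have hinv : ∀ j, ∀ v ∈ LinearMap.range (N ^ j), A v ∈ LinearMap.range (N ^ j) := fun j => by
    induction j with
    | zero => simp
    | succ j ih =>
      rintro _ ⟨u, rfl⟩
      rw [pow_succ', Module.End.mul_apply, ← Module.End.mul_apply, hAN, Module.End.mul_apply,
        LinearMap.add_apply, LinearMap.smul_apply, ← pow_succ']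
      have := ih _ ⟨u, rfl⟩
      exact add_mem (Submodule.smul_mem _ _ (apply_mem_range_succ this))
        (range_pow_anti N (by omega) (hstep j _ this))
  obtain ⟨μ, hμ⟩ := hcyc.exists_smul (j := 0) (v := A v₀) (by simp)
  have hwt : ∀ j, A ((N ^ j) v₀) - (μ * l ^ j) • (N ^ j) v₀ ∈ LinearMap.range (N ^ (j + 1)) :=
    fun j => by
    induction j with
    | zero => simpa using hμ
    | succ j ih =>
      have e1 : A ((N ^ (j + 1)) v₀) - (μ * l ^ (j + 1)) • (N ^ (j + 1)) v₀ =
          (l : ZMod p) • N (A ((N ^ j) v₀) - (μ * l ^ j) • (N ^ j) v₀) +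
            (N * N * B) (A ((N ^ j) v₀)) := by
        rw [pow_succ' N, Module.End.mul_apply, ← Module.End.mul_apply A, hAN, Module.End.mul_apply,
          LinearMap.add_apply, LinearMap.smul_apply, map_sub, map_smul, pow_succ]
        module
      rw [e1]
      exact add_mem (Submodule.smul_mem _ _ (apply_mem_range_succ ih))
        (hstep j _ (hinv j _ ⟨v₀, rfl⟩))
  have hroot : ∀ j < w, μ * l ^ j = 1 ∨ μ * l ^ j = c := fun j hj => by
    by_contra h
    rw [not_or] at h
    have h1 := hwt j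
    have h2 := hcyc.not_mem_range hj
    generalize μ * (l : ZMod p) ^ j = t at h h1
    generalize (N ^ j) v₀ = x at h1 h2
    have h3 : ((t - 1) * (t - c)) • x = -(A (A x - t • x) + (t - c - 1) • (A x - t • x)) := by
      have := LinearMap.congr_fun hq x
      simp only [Module.End.mul_apply, LinearMap.sub_apply, LinearMap.smul_apply,
        Module.End.one_apply, map_sub, map_smul, LinearMap.zero_apply] at this ⊢
      rw [← sub_eq_zero, ← this]; module
    refine h2 ((Submodule.smul_mem_iff _ (mul_ne_zero (sub_ne_zero.2 h.1) (sub_ne_zero.2 h.2))).1 ?_)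
    rw [h3]
    exact neg_mem (add_mem (hinv _ _ h1) (Submodule.smul_mem _ _ h1))
  rw [← sq, hcyc.nil]
  by_contra hw
  have h0 := hroot 0 (by omega)
  have h1 := hroot 1 (by omega)
  have h2 := hroot 2 (by omega)
  have hd : ∀ n, c ^ n = 1 → p - 1 ∣ n := fun n h => hc ▸ orderOf_dvd_of_pow_eq_one h
  have hc0 : c ≠ 0 := fun h => by
    have := pow_orderOf_eq_one c
    rw [hc, h, zero_pow (by omega)] at this
    exact zero_ne_one this
  have hc2 : c ^ 2 ≠ 1 := fun h => by have := Nat.le_of_dvd (by omega) (hd 2 h); omega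
  have hl2 : (l : ZMod p) - 1 ≠ 0 := sub_ne_zero.2 hl1
  rw [pow_zero, mul_one] at h0
  rcases h0 with rfl | rfl <;> rcases h1 with h1 | h1
  · exact hl1 (by simpa using h1)
  · rw [pow_one, one_mul] at h1
    rw [h1, one_mul] at h2
    rcases h2 with h2 | h2
    · exact hc2 h2
    · exact hl1 (h1.trans (mul_left_cancel₀ hc0 (by rw [← sq, h2, mul_one])))
  · rcases h2 with h2 | h2
    · exact hl1 (by linear_combination h2 - l * h1)
    · refine hc2 ?_
      have : (l : ZMod p) ^ 2 = 1 := mul_left_cancel₀ hc0 (by rw [h2, mul_one])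
      linear_combination (μ * l + 1) * h1 - μ ^ 2 * this
  · exact hl1 (mul_left_cancel₀ hc0 (by rw [← pow_one (l : ZMod p), h1, mul_one]))

end Q

end Cfsg.Agent.MX
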