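import Cfsg.Agent.Lib.MX.Q2
import Cfsg.Agent.Lib.H1.Fpf
import Cfsg.Agent.Lib.H2.Subnormal
import Cfsg.Agent.Lib.H3.MC3
import Cfsg.Agent.Lib.FT.BG02
import Cfsg.Agent.Lib.MX.Q1a

/-!
# S5267: Lemma Q (see notes/MX.md)
-/

set_option autoImplicit false
set_option linter.unusedSectionVars false
set_option linter.unusedVariables false

namespace Cfsg.Agent.MX

open Subgroup Cfsg.Agent.FT Cfsg.Agent.H3.MC

variable {p : ℕ} [hp : Fact p.Prime]

/-- A Frobenius group `K ⟨s⟩` with `1 + s + ⋯ + s ^ (p - 1) = 0` has `K` acting trivially. -/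
theorem hh {X R : Type*} [Group X] [Finite X] [Ring R] (hR : (p : R) = 0) (ρ : X →* R)
    {K : Subgroup X} (hK : ¬ p ∣ Nat.card K) {s : X} (hs : s ^ p = 1) (hn : s ∈ 𝒩(K))
    (hc : ∀ k ∈ K, k * s = s * k → k = 1) (h0 : ∑ i ∈ Finset.range p, ρ s ^ i = 0) :
    ∀ k ∈ K, ρ k = 1 :=
  q_hh hR ρ hK hs hn hc h0

theorem q_comm {R : Type*} [Ring R] {e f : R} (he : e * e = e) (hf : f * f = f) :
    Commute ((e - f) * (e - f)) e ∧ e * f * e = e - (e - f) * (e - f) * e := by
  have a1 : ∀ x, e * (e * x) = e * x := fun x => by rw [← mul_assoc, he]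
  constructor
  · show _ * _ = _ * _
    simp only [mul_sub, sub_mul, mul_assoc, he, hf, a1]; abel
  · simp only [mul_sub, sub_mul, mul_assoc, he, hf, a1]; abel

theorem q_span {k V : Type*} [Field k] [AddCommGroup V] [Module k V] {N e f : Module.End k V}
    (hN : IsNilpotent N) (he : e * e = e) (hf : f * f = f)
    (h : ∀ U : Submodule k V, (∀ v ∈ U, e v ∈ U) → (∀ v ∈ U, f v ∈ U) → ∀ v ∈ U, N v ∈ U)
    {δ : k} {v : V} (hv : ((e - f) * (e - f)) v = δ • v) : (N * N) (e v) = 0 := by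
  classical
  let U := Submodule.span k (({e v, f (e v)} : Finset V) : Set V)
  have h1 : e v ∈ U := Submodule.subset_span (by simp)
  have h2 : f (e v) ∈ U := Submodule.subset_span (by simp)
  have key : ∀ g : Module.End k V, g (e v) ∈ U → g (f (e v)) ∈ U → ∀ u ∈ U, g u ∈ U :=
    fun g g1 g2 => (Submodule.span_le (p := U.comap g)).2 (by
      intro x hx
      simp only [Finset.coe_insert, Finset.coe_singleton, Set.mem_insert_iff,
        Set.mem_singleton_iff] at hx
      rcases hx with rfl | rfl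
      exacts [g1, g2])
  have hU := h U (key e (by rwa [← Module.End.mul_apply, he]) (by
      rw [← Module.End.mul_apply f, ← Module.End.mul_apply, ← mul_assoc, (q_comm he hf).2,
        (q_comm he hf).1.eq, LinearMap.sub_apply, Module.End.mul_apply, hv, map_smul]
      exact sub_mem h1 (U.smul_mem _ h1)))
    (key f h2 (by rwa [← Module.End.mul_apply f f, hf]))
  have : Module.Finite k U := Module.Finite.span_of_finite k (Finset.finite_toSet _)
  have hr : Module.finrank k U ≤ 2 := (finrank_span_finset_le_card _).trans Finset.card_le_two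
  have hn : IsNilpotent (N.restrict hU) := Module.End.isNilpotent.restrict hU hN
  have h3 := LinearMap.aeval_self_charpoly (N.restrict hU)
  rw [hn.charpoly_eq_X_pow_finrank, map_pow, Polynomial.aeval_X] at h3
  have h4 := congrArg Subtype.val (LinearMap.congr_fun (pow_eq_zero_of_le hr h3) ⟨_, h1⟩)
  rwa [sq] at h4

theorem q_two {X V : Type*} [Group X] [Finite X] [AddCommGroup V] [Module (ZMod p) V] [Finite V]
    (h5 : 5 ≤ p) (ρ : X →* Module.End (ZMod p) V) (hρ : Function.Injective ρ) {s : X}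
    (hs : orderOf s = p) (hsyl : ¬ p ∣ (zpowers s).index)
    (hcs : ∀ x, x * s = s * x → x ∈ zpowers s) {v₀ : V} {w : ℕ}
    (hcyc : Cyc (ρ s - 1) v₀ w) (hw : w < p) {e f : Module.End (ZMod p) V} (he : e * e = e)
    (hf : f * f = f) (h : ∀ U : Submodule (ZMod p) V, (∀ v ∈ U, e v ∈ U) → (∀ v ∈ U, f v ∈ U) →
      ∀ x, ∀ v ∈ U, ρ x v ∈ U) (hc : Commute ((e - f) * (e - f)) (ρ s)) :
    (zpowers s).Normal := by
  have hN : ∀ U : Submodule (ZMod p) V, (∀ v ∈ U, e v ∈ U) → (∀ v ∈ U, f v ∈ U) →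
      ∀ v ∈ U, (ρ s - 1) v ∈ U := fun U h1 h2 v hv => sub_mem (h U h1 h2 s v hv) hv
  obtain ⟨g, hg⟩ := hcyc.exists_aeval (hc.sub_right (Commute.one_right _))
  have c1 := (q_comm he hf).1
  have c2 : Commute ((e - f) * (e - f)) f := by
    have := (q_comm hf he).1
    rwa [← neg_sub e f, neg_mul_neg] at this
  have key : ∀ v, ((e - f) * (e - f) - g.coeff 0 • 1) v = 0 → ((ρ s - 1) * (ρ s - 1)) v = 0 :=
    fun v hv => by
    rw [LinearMap.sub_apply, sub_eq_zero] at hv
    have h1 := q_span hcyc.isNilpotent he hf hN hv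
    have h2 := q_span (e := 1 - e) (f := 1 - f) (δ := g.coeff 0) (v := v) hcyc.isNilpotent
      (by rw [mul_sub, sub_mul, sub_mul, he]; simp) (by rw [mul_sub, sub_mul, sub_mul, hf]; simp)
      (fun U h1 h2 => hN U (fun v hv => by simpa using sub_mem hv (h1 v hv))
        fun v hv => by simpa using sub_mem hv (h2 v hv))
      (by rwa [sub_sub_sub_cancel_left, ← neg_sub e f, neg_mul_neg])
    rwa [LinearMap.sub_apply, map_sub, h1, sub_zero] at h2
  have hz : (e - f) * (e - f) - g.coeff 0 • 1 = Polynomial.aeval (ρ s - 1) g.divX * (ρ s - 1) := by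
    rw [hg, sub_eq_iff_eq_add]
    conv_lhs => rw [← Polynomial.divX_mul_X_add g, map_add, map_mul, Polynomial.aeval_X,
      Polynomial.aeval_C, Algebra.algebraMap_eq_smul_one]
  obtain ⟨z, hz1, hz2, hz3⟩ : ∃ z : Module.End (ZMod p) V, Commute z e ∧ Commute z f ∧
      ∀ v, z v = 0 ↔ ((ρ s - 1) * (ρ s - 1)) v = 0 := by
    have d1 : Commute ((e - f) * (e - f) - g.coeff 0 • 1) e :=
      c1.sub_left ((Commute.one_left e).smul_left _)
    have d2 : Commute ((e - f) * (e - f) - g.coeff 0 • 1) f :=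
      c2.sub_left ((Commute.one_left f).smul_left _)
    by_cases h0 : g.divX.coeff 0 = 0
    · refine ⟨_, d1, d2, fun v => ⟨key v, fun hv => ?_⟩⟩
      rw [hz, ← Polynomial.divX_mul_X_add g.divX, h0, map_zero, add_zero, map_mul,
        Polynomial.aeval_X, mul_assoc, Module.End.mul_apply, hv, map_zero]
    · refine ⟨_, d1.mul_left d1, d2.mul_left d2, fun v => ?_⟩
      have hu := isUnit_aeval hcyc.isNilpotent h0
      rw [hz, (commute_aeval (Commute.refl _) g.divX).mul_mul_mul_comm, Module.End.mul_apply]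
      exact map_eq_zero_iff _ ((Module.End.isUnit_iff _).1 (hu.mul hu)).1
  let W := LinearMap.ker ((ρ s - 1) * (ρ s - 1))
  have inv : ∀ g : Module.End (ZMod p) V, Commute z g → ∀ v ∈ W, g v ∈ W := fun g hg v hv =>
    (hz3 _).1 (by rw [← Module.End.mul_apply, hg.eq, Module.End.mul_apply, (hz3 v).2 hv, map_zero])
  have hW := h W (inv e hz1) (inv f hz2)
  let σ : X →* Module.End (ZMod p) W :=
    { toFun := fun x => (ρ x).restrict (hW x)
      map_one' := LinearMap.ext fun v => Subtype.ext (by simp)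
      map_mul' := fun x y => LinearMap.ext fun v => Subtype.ext (by simp) }
  have : Finite (Module.End (ZMod p) V) := DFunLike.finite _
  by_cases hw2 : w ≤ 2
  · exact q_normal h5 natCast_end ρ hρ hs hsyl hcs (by rwa [← sq, hcyc.nil])
  have hs1 : s ∉ σ.toHomUnits.ker := fun h1 => by
    have h2 : ((ρ s - 1) ^ (w - 2)) v₀ ∈ W := by
      rw [LinearMap.mem_ker, ← Module.End.mul_apply, ← sq, ← pow_add, (hcyc.nil _).2 (by omega)]
      rfl
    have h3 : ρ s (((ρ s - 1) ^ (w - 2)) v₀) = ((ρ s - 1) ^ (w - 2)) v₀ :=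
      congrArg Subtype.val (LinearMap.congr_fun (congrArg Units.val h1) ⟨_, h2⟩)
    have h4 := hcyc.eq_zero ((Commute.refl _).pow_left (w - 2 + 1)) (by
      rw [pow_succ', Module.End.mul_apply, LinearMap.sub_apply, h3, Module.End.one_apply, sub_self])
    rw [hcyc.nil] at h4
    omega
  have : Finite (Module.End (ZMod p) W) := DFunLike.finite _
  refine q_normal h5 natCast_end σ ((injective_iff_map_eq_one _).2 fun x hx =>
    q_triv ρ hρ hs hcs hcyc hw (K := σ.toHomUnits.ker) (fun hd => ?_)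
      (le_normalizer_of_normal (mem_top s)) x (Units.ext hx)) hs hsyl hcs
    (LinearMap.ext fun v => Subtype.ext v.2)
  obtain ⟨g, y, hy, e⟩ := q_exists_conj hs hsyl hd
  exact hs1 (e ▸ σ.toHomUnits.normal_ker.conj_mem y hy g)

theorem lemQ {X V : Type*} [Group X] [Finite X] [AddCommGroup V] [Module (ZMod p) V] [Finite V]
    (h5 : 5 ≤ p) (ρ : X →* Module.End (ZMod p) V) (hρ : Function.Injective ρ) {s : X}
    (hs : orderOf s = p) (hsyl : ¬ p ∣ (zpowers s).index)
    (hcs : ∀ x, x * s = s * x → x ∈ zpowers s) (hn : ¬ (zpowers s).Normal) {v₀ : V} {w : ℕ}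
    (hcyc : Cyc (ρ s - 1) v₀ w) (hw : w < p) {c : ZMod p} (hc : orderOf c = p - 1) {a : X}
    (ha1 : a ≠ 1) (ha : (ρ a - 1) * (ρ a - c • 1) = 0) : False := by
  have : Finite (Module.End (ZMod p) V) := DFunLike.finite _
  have hc1 : c - 1 ≠ 0 := sub_ne_zero.2 fun h => by rw [h, orderOf_one] at hc; omega
  let E : X → Module.End (ZMod p) V := fun g => (c - 1)⁻¹ • (ρ (g * a * g⁻¹) - 1)
  have hE : ∀ g, ρ (g * a * g⁻¹) = 1 + (c - 1) • E g := fun g => by
    rw [smul_smul, mul_inv_cancel₀ hc1, one_smul, add_sub_cancel]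
  have hEE : ∀ g, E g * E g = E g := fun g => by
    have h1 : (ρ a - 1) * (ρ a - 1) = (c - 1) • (ρ a - 1) := by
      rw [← sub_eq_zero, ← ha]
      simp only [mul_sub, sub_mul, mul_one, one_mul, mul_smul_comm]; module
    have h2 : ∀ r, ρ g⁻¹ * (ρ g * r) = r := fun r => by
      rw [← mul_assoc, ← map_mul, inv_mul_cancel, map_one, one_mul]
    simp only [E, map_conj_sub]
    simp only [smul_mul_assoc, mul_smul_comm, mul_assoc, h2]
    rw [← mul_assoc (ρ a - 1), h1, smul_mul_assoc, mul_smul_comm, smul_smul (c - 1)⁻¹ (c - 1),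
      inv_mul_cancel₀ hc1, one_smul]
  have hL : ∀ g h, s ∉ closure {g * a * g⁻¹, h * a * h⁻¹} := fun g h hsL => by
    have ind : ∀ P : X → Prop, P 1 → (∀ x y, P x → P y → P (x * y)) → P (g * a * g⁻¹) →
        P (h * a * h⁻¹) → ∀ x ∈ closure {g * a * g⁻¹, h * a * h⁻¹}, P x := fun P p1 p2 p3 p4 x hx => by
      rw [← mem_toSubmonoid, closure_toSubmonoid_of_finite] at hx
      induction hx using Submonoid.closure_induction with
      | mem x hx => rcases hx with rfl | rfl; exacts [p3, p4]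
      | one => exact p1
      | mul x y _ _ hx hy => exact p2 x y hx hy
    have c2 : Commute ((E g - E h) * (E g - E h)) (E h) := by
      have := (q_comm (hEE h) (hEE g)).1
      rwa [← neg_sub (E g), neg_mul_neg] at this
    have hn' := q_two h5 (ρ.comp (closure {g * a * g⁻¹, h * a * h⁻¹}).subtype)
      (hρ.comp Subtype.val_injective) (s := ⟨s, hsL⟩) (by rw [← hs, ← orderOf_coe])
      (q_index hs hsyl hsL) (fun x hx => by
        obtain ⟨i, hi⟩ := hcs x (congrArg Subtype.val hx)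
        exact ⟨i, Subtype.ext hi⟩) hcyc hw (hEE g) (hEE h)
      (fun U h1 h2 x => ind (fun x => ∀ v ∈ U, ρ x v ∈ U) (by simp)
        (fun x y hx hy v hv => by rw [map_mul]; exact hx _ (hy v hv))
        (fun v hv => by rw [hE]; exact add_mem hv (U.smul_mem _ (h1 v hv)))
        (fun v hv => by rw [hE]; exact add_mem hv (U.smul_mem _ (h2 v hv))) x x.2)
      (ind (fun x => Commute ((E g - E h) * (E g - E h)) (ρ x)) (by simp)
        (fun x y hx hy => by rw [map_mul]; exact hx.mul_right hy)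
        (by rw [hE]; exact (Commute.one_right _).add_right ((q_comm (hEE g) (hEE h)).1.smul_right _))
        (by rw [hE]; exact (Commute.one_right _).add_right (c2.smul_right _)) s hsL)
    refine hn (q_normal h5 natCast_end ρ hρ hs hsyl hcs
      (q_one h5 ρ hρ hs hcs hcyc hc (a := g * a * g⁻¹) (by simpa using ha1) (hEE g) (hE g) ?_))
    obtain ⟨j, hj⟩ := hn'.conj_mem _ (mem_zpowers _) ⟨g * a * g⁻¹, subset_closure (by simp)⟩
    refine mem_normalizer_fintype ?_
    rintro _ ⟨i, rfl⟩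
    have : g * a * g⁻¹ * s * (g * a * g⁻¹)⁻¹ ∈ zpowers s := ⟨j, congrArg Subtype.val hj⟩
    simpa only [conj_zpow, SetLike.mem_coe] using zpow_mem this i
  obtain ⟨m, hm⟩ := hp.out.odd_of_ne_two (by omega)
  have hcm : c ^ m = -1 := by
    have h1 : c ^ m * c ^ m = 1 := by
      rw [← pow_add, show m + m = p - 1 by omega, ← hc, pow_orderOf_eq_one]
    refine (mul_self_eq_one_iff.1 h1).resolve_left fun h => ?_
    have := Nat.le_of_dvd (by omega) (hc ▸ orderOf_dvd_of_pow_eq_one h)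
    omega
  have hι : ∀ g, ρ (g * a ^ m * g⁻¹) = 1 - 2 * E g := fun g => by
    rw [← conj_pow, map_pow, hE, q_pow (hEE g), hcm, two_mul]; module
  have hι1 : ρ (a ^ m) = 1 - 2 * E 1 := by simpa using hι 1
  have h2 : a ^ m * a ^ m = 1 := hρ (by
    rw [map_mul, hι1, map_one]
    simp only [two_mul, mul_sub, sub_mul, mul_add, add_mul, one_mul, mul_one, hEE]; abel)
  have : Fact (Nat.Prime 2) := ⟨Nat.prime_two⟩
  have hO : a ^ m ∈ pCore 2 X := H2.baer_suzuki _ fun g => by
    have h4 : (a ^ m * (g * a ^ m * g⁻¹)) ^ 2 ^ 2 = 1 := hρ (by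
      rw [map_pow, map_mul, hι1, hι, map_one]
      refine four_of_coprime h5 (X := closure {1 * a * 1⁻¹, g * a * g⁻¹}) (fun hd => ?_)
        (ρ.comp (Subgroup.subtype _)) hc (a := ⟨_, subset_closure (Set.mem_insert _ _)⟩)
        (b := ⟨g * a * g⁻¹, subset_closure (by simp)⟩) (hEE 1) (hEE g) (hE 1) (hE g)
      obtain ⟨u, y, hy, e⟩ := q_exists_conj hs hsyl hd
      refine hL (u * 1) (u * g) (e ▸ ?_)
      have : (closure {1 * a * 1⁻¹, g * a * g⁻¹}).map (MulAut.conj u).toMonoidHom =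
          closure {u * 1 * a * (u * 1)⁻¹, u * g * a * (u * g)⁻¹} := by
        rw [MonoidHom.map_closure, Set.image_pair]; simp [mul_assoc]
      exact this ▸ ⟨y, hy, rfl⟩)
    have h3 : g * a ^ m * g⁻¹ * (g * a ^ m * g⁻¹) = 1 := by
      rw [conj_mul, h2, mul_one, mul_inv_cancel]
    generalize g * a ^ m * g⁻¹ = σ at h3 h4
    generalize a ^ m = τ at h2 h4
    have e : τ * (τ * σ) * τ⁻¹ = (τ * σ)⁻¹ := by
      rw [← mul_assoc, h2, one_mul, mul_inv_rev, inv_eq_of_mul_eq_one_left h3]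
    have hn : τ ∈ 𝒩(zpowers (τ * σ)) := mem_normalizer_fintype fun _ ⟨i, hi⟩ => ⟨-i, by
      simp only [← hi, ← conj_zpow, e, inv_zpow']⟩
    refine ((H7.isPGroup_zpowers_of_pow h4).to_sup_of_normal_left'
      (H7.isPGroup_zpowers_of_pow (k := 1) (b := τ) (by rw [pow_one, pow_two, h2]))
      (zpowers_le.2 hn)).to_le ((closure_le _).2 ?_)
    rintro _ (rfl | rfl)
    · exact mem_sup_right (mem_zpowers _)
    · simpa using mul_mem (inv_mem (mem_sup_right (mem_zpowers τ)))
        (mem_sup_left (mem_zpowers (τ * _)))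
  have h6 := q_triv ρ hρ hs hcs hcyc hw (K := pCore 2 X) (fun hd => by
    obtain ⟨k, hk⟩ := (H1.pCore_isPGroup 2 X).exists_card_eq
    have := Nat.le_of_dvd (by omega) (hp.out.dvd_of_dvd_pow (hk ▸ hd))
    omega) (le_normalizer_of_normal (mem_top s)) _ hO
  rw [h6, map_one, eq_comm, sub_eq_self, two_mul, ← two_smul (ZMod p), smul_eq_zero] at hι1
  rcases hι1 with h | h
  · have := Nat.le_of_dvd (by omega) ((ZMod.natCast_eq_zero_iff 2 p).1 h)
    omega
  · have := hE 1
    rw [h, smul_zero, add_zero, ← map_one ρ] at this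
    exact ha1 (by simpa using hρ this)

end Cfsg.Agent.MX
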