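import Cfsg.Agent.Lib.MX.W
import Cfsg.Agent.Lib.MX.Q1
import Cfsg.Agent.Lib.MX.Om

/-!
# S5267: the torus element normalizes `S C(γ₁)` (see notes/MX.md)
-/

set_option autoImplicit false
set_option linter.unusedSectionVars false
set_option linter.unusedVariables false

namespace Cfsg.Agent.MX

open Subgroup Cfsg.Agent.H9 Cfsg.Agent.FT
open Cfsg.Agent.EX (pw PAct NC Sec)
open scoped commutatorElement

universe u

variable {G : Type u} [Group G] [Finite G] {p : ℕ} [hp : Fact p.Prime] {S Δ : Subgroup G}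
  {n : ℕ} {m : G} {c : ZMod p}

/-- The quotient `Δ / γ₁ C(γ₁)`. -/
structure QCtx (S Δ : Subgroup G) {X : Type u} [Group X] (φ : Δ →* X) : Prop where
  surj : Function.Surjective φ
  ker : ∀ a : Δ, φ a = 1 ↔ (a : G) ∈ gam S ⊔ 𝒞(gam S)

theorem DCtx.exists_qctx (h : DCtx p n S Δ) :
    ∃ (X : Type u) (_ : Group X) (_ : Finite X) (φ : Δ →* X), QCtx S Δ φ := by
  have : ((gam S ⊔ 𝒞(gam S)).subgroupOf Δ).Normal :=
    ⟨fun a ha g => H9.conj_mem_of_mem_normalizer (K := gam S ⊔ 𝒞(gam S)) (norm_QC (h.ΔN g.2)) ha⟩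
  exact ⟨_, inferInstance, inferInstance, QuotientGroup.mk' ((gam S ⊔ 𝒞(gam S)).subgroupOf Δ),
    QuotientGroup.mk'_surjective _, fun a => QuotientGroup.eq_one_iff a⟩

theorem gen_of_pow {l : ZMod p} (hc : orderOf c = p - 1) (hl : l ≠ 0) {N : ℕ} (h : l ^ N = c) :
    orderOf l = p - 1 ∧ ∀ l' : ZMod p, l' ≠ 0 → l' ^ N = 1 → l' = 1 := by
  have h1 : orderOf l = p - 1 := Nat.dvd_antisymm
    (orderOf_dvd_of_pow_eq_one (ZMod.pow_card_sub_one_eq_one hl))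
    (by rw [← hc, ← h]; exact orderOf_pow_dvd N)
  have hp1 : 0 < p - 1 := by have := hp.out.two_le; omega
  refine ⟨h1, fun l' h2 h3 => ?_⟩
  have h4 : orderOf (l ^ N) = orderOf l / (orderOf l).gcd N :=
    (isOfFinOrder_iff_pow_eq_one.2 ⟨p - 1, hp1, ZMod.pow_card_sub_one_eq_one hl⟩).orderOf_pow l N
  rw [h, hc, h1, eq_comm, Nat.div_eq_self] at h4
  rw [← orderOf_eq_one_iff, ← Nat.dvd_one, ← h4.resolve_left hp1.ne']
  exact Nat.dvd_gcd (orderOf_dvd_of_pow_eq_one (ZMod.pow_card_sub_one_eq_one h2))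
    (orderOf_dvd_of_pow_eq_one h3)

namespace QCtx

variable {X : Type u} [Group X] [Finite X] {φ : Δ →* X} (q : QCtx S Δ φ)
include q

theorem exists_lift {R : Type*} [Monoid R] (ψ : Δ →* R)
    (h : ∀ a : Δ, (a : G) ∈ gam S ⊔ 𝒞(gam S) → ψ a = 1) : ∃ ρ : X →* R, ∀ a, ρ (φ a) = ψ a := by
  let e := QuotientGroup.liftEquiv φ.ker q.surj rfl
  refine ⟨(QuotientGroup.lift φ.ker ψ fun a ha => h a ((q.ker a).1 ha)).comp e.symm.toMonoidHom,
    fun a => ?_⟩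
  have : e.symm (φ a) = a := by rw [MulEquiv.symm_apply_eq]; rfl
  simp only [MonoidHom.comp_apply, MulEquiv.coe_toMonoidHom, this]; rfl

variable (h : DCtx p n S Δ) {s : G} (hs : Unif S n s)
include h hs

theorem lev : Lev S 0 s := ⟨hs.mem, h.mc.not_mem_gam h.h4 hs⟩

theorem pow : φ ⟨s, h.SΔ hs.mem⟩ ^ p = 1 := by
  rw [← map_pow, q.ker]; exact mem_sup_left (pow_mem_succ h.mc h.h4 (i := 0) hs.mem)

theorem ne_one : φ ⟨s, h.SΔ hs.mem⟩ ≠ 1 := fun e =>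
  h.toM5.not_mem_QC hs.mem (q.lev h hs).2 ((q.ker _).1 e)

theorem order : orderOf (φ ⟨s, h.SΔ hs.mem⟩) = p := orderOf_eq_prime (q.pow h hs) (q.ne_one h hs)

theorem SC_eq : SC S = (gam S ⊔ 𝒞(gam S)) ⊔ zpowers s := by
  rw [sup_right_comm, SC]; congr 1; exact ((q.lev h hs).sup_eq h.mc h.h4).symm

theorem mem_iff (a : Δ) : φ a ∈ zpowers (φ ⟨s, h.SΔ hs.mem⟩) ↔ (a : G) ∈ SC S := by
  rw [q.SC_eq h hs, mem_sup_zpowers (norm_QC (lv_norm S 1 hs.mem))]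
  constructor
  · rintro ⟨i, hi⟩
    refine ⟨a * (s ^ i)⁻¹, (q.ker (a * (⟨s, h.SΔ hs.mem⟩ ^ i)⁻¹)).1 ?_, i, by simp⟩
    rw [map_mul, map_inv, map_zpow, ← hi, mul_inv_cancel]
  · rintro ⟨k, hk, i, e⟩
    have hkΔ : k ∈ Δ := (mul_mem_cancel_right (zpow_mem (h.SΔ hs.mem) i)).1 (e ▸ a.2)
    rw [show a = ⟨k, hkΔ⟩ * ⟨s, h.SΔ hs.mem⟩ ^ i from Subtype.ext e, map_mul, (q.ker ⟨k, hkΔ⟩).2 hk,
      one_mul, map_zpow]
    exact zpow_mem_zpowers _ _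

theorem not_dvd : ¬ p ∣ (zpowers (φ ⟨s, h.SΔ hs.mem⟩)).index := by
  rw [← index_comap_of_surjective _ q.surj,
    show comap φ (zpowers (φ ⟨s, h.SΔ hs.mem⟩)) = (SC S).subgroupOf Δ from
      Subgroup.ext fun a => q.mem_iff h hs a]
  exact h.sylΔ

theorem norm {a : Δ} (ha : φ a * φ ⟨s, h.SΔ hs.mem⟩ * (φ a)⁻¹ ∈ zpowers (φ ⟨s, h.SΔ hs.mem⟩)) :
    (a : G) ∈ 𝒩(SC S) := by
  rw [← map_inv, ← map_mul, ← map_mul, q.mem_iff h hs] at ha
  refine mem_normalizer_of_conj_mem fun x hx => ?_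
  rw [q.SC_eq h hs, mem_sup_zpowers (norm_QC (lv_norm S 1 hs.mem))] at hx
  obtain ⟨k, hk, i, rfl⟩ := hx
  have := mul_mem (QC_le_SC (H9.conj_mem_of_mem_normalizer (norm_QC (h.ΔN a.2)) hk)) (zpow_mem ha i)
  rw [coe_mul, coe_mul, coe_inv, conj_zpow] at this
  simpa [mul_assoc] using this

theorem lam_one {a : Δ} (ha : φ a * φ ⟨s, h.SΔ hs.mem⟩ = φ ⟨s, h.SΔ hs.mem⟩ * φ a) {l : ZMod p}
    (hl : Lam S a l) : l = 1 := by
  have h1 : s⁻¹ * (a * s * (a : G)⁻¹) ∈ gam S ⊔ 𝒞(gam S) :=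
    (q.ker ((⟨s, h.SΔ hs.mem⟩ : Δ)⁻¹ * (a * ⟨s, h.SΔ hs.mem⟩ * a⁻¹))).1 (by
      simp only [map_mul, map_inv, ha]; group)
  have h2 := cong_trans (hl s hs.mem) (cong_symm h1)
  refine cong_uniq h.mc h.h4 (q.lev h hs) (x := s) ?_ (by simp [EX.pw_one])
  by_contra h3
  exact h.toM5.not_mem_QC (mul_mem (inv_mem (EX.pw_mem hs.mem l)) hs.mem) h3 h2

theorem not_dvd_card {K : Subgroup X} [hK : K.Normal] (hsK : φ ⟨s, h.SΔ hs.mem⟩ ∉ K) :
    ¬ p ∣ Nat.card K := fun e => by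
  have h1 := relIndex_dvd_index_of_normal' (zpowers (φ ⟨s, h.SΔ hs.mem⟩)) K
  rw [← inf_relIndex_right, inf_eq_bot_of_card_prime hp.out (by rw [Nat.card_zpowers, q.order h hs])
    (fun e => hsK (e (mem_zpowers _))), relIndex_bot_left] at h1
  exact q.not_dvd h hs (e.trans h1)

/-- Hall–Higman on the Frattini quotient of `γ₁`. -/
theorem eq_bot (hw : ∀ w ∈ S, w ∉ gam S → w ^ p ∈ Phi p (gam S)) {K : Subgroup X}
    (hK : ¬ p ∣ Nat.card K) (hn : φ ⟨s, h.SΔ hs.mem⟩ ∈ 𝒩(K))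
    (hc : ∀ k ∈ K, k * φ ⟨s, h.SΔ hs.mem⟩ = φ ⟨s, h.SΔ hs.mem⟩ * k → k = 1) : K = ⊥ := by
  obtain ⟨V, _, _, _, ⟨σ⟩⟩ := EX.exists_sec (p := p) (le_normalizer_Phi (gam S))
    (fun a ha b hb => commutator_mem_Phi ha hb) fun a ha => pow_mem_Phi ha
  have hΦ : Δ ≤ 𝒩(Phi p (gam S)) := h.ΔN.trans (normalizer_le_normalizer_Phi _)
  obtain ⟨ρ, hρ⟩ := q.exists_lift (secHom σ h.ΔN hΦ) fun a ha =>
    σ.ρ_eq_one (h.ΔN a.2) (hΦ a.2) fun x hx => by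
      obtain ⟨b, hb, c, hc, e⟩ := mem_QC.1 ha
      rw [← e]
      exact commutator_mem_comm (by rw [comm_mul_cent hx hc]; exact commutator_mem_Phi hx hb)
  have hsN := lv_norm S 1 hs.mem
  have key : ∀ x ∈ gam S, ∀ j : ℕ, (x * s) ^ j * (s ^ j)⁻¹ ∈ gam S ∧
      (∑ i ∈ Finset.range j, ρ (φ ⟨s, h.SΔ hs.mem⟩) ^ i) (σ.π x) = σ.π ((x * s) ^ j * (s ^ j)⁻¹) :=
    fun x hx j => ⟨EX.mul_pow_mul_inv_mem hsN hx j, by
      induction j with
      | zero => simp [σ.π_one]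
      | succ j ih =>
        have e : (x * s) ^ (j + 1) * (s ^ (j + 1))⁻¹ =
            (x * s) ^ j * (s ^ j)⁻¹ * (s ^ j * x * (s ^ j)⁻¹) := by rw [pow_succ, pow_succ]; group
        rw [Finset.sum_range_succ, LinearMap.add_apply, ih, e, σ.π_mul _
          (EX.mul_pow_mul_inv_mem hsN hx j) _ (H9.conj_mem_of_mem_normalizer (pow_mem hsN j) hx),
          ← map_pow, ← map_pow, hρ]
        exact congrArg _ (σ.ρ_π _ (pow_mem hsN j) (hΦ (pow_mem (h.SΔ hs.mem) j)) x hx)⟩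
  have h0 : ∑ i ∈ Finset.range p, ρ (φ ⟨s, h.SΔ hs.mem⟩) ^ i = 0 := by
    ext v
    obtain ⟨x, hx, rfl⟩ := σ.surj v
    rw [(key x hx p).2]
    exact (σ.π_eq_zero _ (key x hx p).1).2 (mul_mem (hw _ (mul_mem hx.1 hs.mem) fun e =>
      (q.lev h hs).2 ((mul_mem_cancel_left hx).1 e)) (inv_mem (hw s hs.mem (q.lev h hs).2)))
  refine eq_bot_iff.2 fun k hk => mem_bot.2 ?_
  have h1 := hh H3.MC.natCast_end ρ hK (q.pow h hs) hn hc h0 k hk
  obtain ⟨a, rfl⟩ := q.surj k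
  obtain ⟨j, b, hb, e⟩ := Nat.exists_eq_pow_mul_and_not_dvd (orderOf_pos (a : G)).ne' p
    hp.out.one_lt.ne'
  have h2 : ((a : G) ^ p ^ j) ^ b = 1 := by rw [← pow_mul, ← e, pow_orderOf_eq_one]
  obtain ⟨r, hr⟩ := exists_card_eq_pow (h.mc.hS.to_le (lv_le S 1))
  have h3 : zpowers ((a : G) ^ p ^ j) ≤ 𝒞(gam S) := coprime_cent_Phi hp.out
    (h.mc.hS.to_le (lv_le S 1)) (by
      rw [Nat.card_zpowers, show Nat.card (gam S) = p ^ r from hr]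
      exact (Nat.Coprime.coprime_dvd_right (orderOf_dvd_of_pow_eq_one h2)
        ((Nat.Prime.coprime_iff_not_dvd hp.out).2 hb)).pow_left r)
    (commutator_le.2 fun x hx y hy => by
      have k1 : zpowers ((a : G) ^ p ^ j) ≤ cmod (Phi p (gam S)) x := zpowers_le.2 (pow_mem
        (show (a : G) ∈ cmod _ x from ⟨hΦ a.2, (σ.π_eq_zero _ (by
          simpa [commutatorElement_def] using mul_mem
            (H9.conj_mem_of_mem_normalizer (h.ΔN a.2) hx) (inv_mem hx))).1 (by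
          rw [σ.π_comm (h.ΔN a.2) (hΦ a.2) hx, show σ.ρ a = 1 from (hρ a).symm.trans h1]
          simp)⟩) _)
      exact commutator_mem_comm (k1 hy).2)
  have h4 : φ a ^ p ^ j = 1 := by
    rw [← map_pow, q.ker]; exact mem_sup_right (h3 (mem_zpowers _))
  rw [← orderOf_eq_one_iff]
  exact Nat.eq_one_of_dvd_coprimes (((Nat.Prime.coprime_iff_not_dvd hp.out).2 hK).pow_left j)
    (orderOf_dvd_of_pow_eq_one h4) (orderOf_dvd_natCard _ hk)

end QCtx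

theorem M5.le_Phi (h : M5 p S n) {r : ℕ} (hr : ¬ ⁅gam S, gam S⁆ ≤ lv S (r + 1)) :
    lv S r ≤ Phi p (gam S) := by
  obtain ⟨k, -, -, e⟩ := eq_lv_of_normal h.mc h.h4
    (H1.le_normalizer_commutator (lv_norm S 1) (lv_norm S 1)) (commutator_le.2 fun a ha b hb =>
        lv_le_gam (by omega) (gam_comm h.mc h.h4 ha hb))
  have hkr : k ≤ r := not_lt.1 fun hle => hr (e.le.trans (lv_anti S hle))
  exact (lv_anti S hkr).trans (e.ge.trans (commutator_le_Phi _))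

theorem DCtx.norm_of_ne (h : DCtx p n S Δ) (hne : NE S n) (hna : ¬ gam S ≤ 𝒞(gam S)) (hm : m ∈ Δ)
    (hc : orderOf c = p - 1)
    (hq : ∀ v ∈ gam S, v ∈ 𝒞(gam S) → v ^ p = 1 →
      m * (m * v * m⁻¹ * v⁻¹) * m⁻¹ = pw (m * v * m⁻¹ * v⁻¹) c)
    (hz : ∃ z ∈ lv S (n - 1), m * z * m⁻¹ ≠ z) : m ∈ 𝒩(SC S) := by
  have h5 := h.toM5
  have hm0 := h.mc
  have h4 := h.h4
  have hp5 := h.h5
  obtain ⟨X, _, _, φ, q⟩ := h.exists_qctx
  obtain ⟨s, hs⟩ := h5.exists_unif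
  have hna' : ¬ ⁅gam S, gam S⁆ ≤ lv S (n - 1 + 1) := fun e => hna fun x hx => mem_cent.2 fun y hy =>
    commutatorElement_eq_one_iff_mul_comm.1
      (eq_one_of_mem hm0 h4 (by omega) (e (commutator_mem_commutator hy hx)))
  have hcs : ∀ x, x * φ ⟨s, h.SΔ hs.mem⟩ = φ ⟨s, h.SΔ hs.mem⟩ * x →
      x ∈ zpowers (φ ⟨s, h.SΔ hs.mem⟩) := fun x hx => by
    obtain ⟨a, rfl⟩ := q.surj x
    have ha := h.ΔN a.2
    have ha' := q.norm h hs (a := a) (by rw [hx, mul_inv_cancel_right]; exact mem_zpowers _)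
    obtain ⟨l, -, hl⟩ := h5.exists_lam ha ha'
    obtain rfl := q.lam_one h hs hx hl
    obtain ⟨μ, hμ0, hμ⟩ := h5.exists_wt ha ha' (i := 1) le_rfl
    have hw : ∀ i, 1 ≤ i → Wt S a i μ := fun i hi => by
      have := h5.wt_add ha ha' hl le_rfl (j := i - 1) (Or.inr hne) hμ
      rwa [show 1 + (i - 1) = i by omega, one_pow, one_mul] at this
    obtain ⟨i, j, k, h1, h2, h3, -, -, -, e⟩ := h5.exists_triple hna'
    obtain rfl : μ = 1 := mul_left_cancel₀ hμ0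
      (by rw [mul_one]; exact (e a ha ha' μ μ μ (hw i h1) (hw j h2) (hw k (by omega))).symm)
    exact (q.mem_iff h hs a).2 (h.mem_of_wt_one a.2 ha' fun i hi _ => hw i hi)
  by_contra hm'
  obtain ⟨j, hj1, hjn, e⟩ := eq_lv_of_normal hm0 h4 ((lv_norm S 1).trans
    (norm_le_norm_Om (p := p))) Om_le
  have hj2 : 2 ≤ j := by
    by_contra h3
    obtain rfl : j = 1 := by omega
    exact hna fun x hx => (e.ge hx).2.1
  have hw0 := h5.sub_lt hj2 fun x hx => (e.ge hx).2.2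
  have hΔ : Δ ≤ 𝒩(lv S j) := e ▸ h.ΔN.trans norm_le_norm_Om
  have hC : gam S ⊔ 𝒞(gam S) ≤ 𝒞(lv S j) := e ▸ sup_le le_cent_Om (cent_le_cent Om_le)
  have h2 : lv S (n - 2) ≤ lv S j := e ▸ fun x hx => ⟨lv_le_gam (by omega) hx,
    mem_cent.2 fun y hy => (mem_cent.1 ((ne_iff hm0 h4).1 hne hy) x hx).symm,
    pow_eq_one_of_le hm0 h4 hs (by omega) (by omega) hx⟩
  have hq' : ∀ v ∈ lv S j, m * (m * v * m⁻¹ * v⁻¹) * m⁻¹ = pw (m * v * m⁻¹ * v⁻¹) c := fun v hv =>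
    hq v (e.ge hv).1 (e.ge hv).2.1 (e.ge hv).2.2
  have hs0 := exists_sec_Om p (lv S 1)
  rw [e] at hs0
  obtain ⟨V, _, _, _, ⟨σ⟩⟩ := hs0
  obtain ⟨ρ, hρ⟩ := q.exists_lift (secHom σ hΔ fun g _ => mem_norm_bot g) fun a ha =>
    (sec_eq_one_iff σ (hΔ a.2)).2 (hC ha)
  have hsK : φ ⟨s, h.SΔ hs.mem⟩ ∉ ρ.ker := fun e => by
    obtain ⟨u, hu⟩ := exists_lev_of_lt hm0 h4 (i := n - 2) (by omega)
    exact (hu.comm_unif hm0 h4 hs (by omega) (by omega)).ne_one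
      (commutatorElement_eq_one_iff_mul_comm.2 (mem_cent.1
        ((sec_eq_one_iff σ (hΔ (h.SΔ hs.mem))).1 ((hρ _).symm.trans e)) u (h2 hu.1)))
  have hker : ρ.ker = ⊥ := q.eq_bot h hs
    (fun w hw hw' => h5.le_Phi hna' (by
      rw [lv_of_two (by omega)]; exact hm0.pow_mem_center (h5.unif_of_ne hne hw hw')))
    (q.not_dvd_card h hs hsK) (le_normalizer_of_normal' inferInstance _) fun k hk e =>
      mem_bot.1 ((inf_eq_bot_of_card_prime hp.out (by rw [Nat.card_zpowers, q.order h hs])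
        (fun e => hsK (e (mem_zpowers _)))).le ⟨hcs k e, hk⟩)
  have hinj : Function.Injective ρ := fun a b e => by
    have : a⁻¹ * b ∈ ρ.ker := by
      rw [MonoidHom.mem_ker, map_mul, ← e, ← map_mul, inv_mul_cancel, map_one]
    rwa [hker, mem_bot, inv_mul_eq_one] at this
  obtain ⟨v₀, w, hcyc, hw⟩ := h5.exists_cyc hj1 σ hs
  refine lemQ hp5 ρ hinj (q.order h hs) (q.not_dvd h hs) hcs
    (fun hN => hm' (q.norm h hs (a := ⟨m, hm⟩) (hN.conj_mem _ (mem_zpowers _) _))) (v₀ := v₀) (w := w)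
    (by rw [hρ]; exact hcyc) (by omega) hc (a := φ ⟨m, hm⟩) (fun e => ?_) ?_
  · obtain ⟨z, hz, hz'⟩ := hz
    exact hz' (by rw [← mem_cent.1 (hC ((q.ker _).1 e)) z (h2 (lv_anti S (by omega) hz)),
      mul_inv_cancel_right])
  · have hcm : (ρ (φ ⟨m, hm⟩) - 1) * (ρ (φ ⟨m, hm⟩) - c • 1) =
        (ρ (φ ⟨m, hm⟩) - c • 1) * (ρ (φ ⟨m, hm⟩) - 1) := by
      simp only [mul_sub, sub_mul, mul_smul_comm, smul_mul_assoc, mul_one, one_mul, smul_sub]; abel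
    rw [hcm, hρ]
    ext v
    obtain ⟨a, ha, rfl⟩ := σ.surj v
    have k1 := σ.π_comm (hΔ hm) (mem_norm_bot m) ha
    have k2 : ⁅m, a⁆ ∈ lv S j := by
      simpa [commutatorElement_def] using mul_mem
        (H9.conj_mem_of_mem_normalizer (hΔ hm) ha) (inv_mem ha)
    have k3 := σ.ρ_π m (hΔ hm) (mem_norm_bot m) _ k2
    rw [commutatorElement_def, hq' a ha, ← commutatorElement_def, σ.π_pw k2, k1] at k3
    show (σ.ρ m - c • 1) (σ.ρ m (σ.π a) - σ.π a) = 0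
    rw [LinearMap.sub_apply, k3]; simp

theorem DCtx.norm_of_exc (h : DCtx p n S Δ) (hne : ¬ NE S n)
    (hna : ¬ ⁅gam S, gam S⁆ ≤ lv S (n - 1)) (hm : m ∈ Δ) (hc : orderOf c = p - 1)
    (hz : Wt S m (n - 1) c) : m ∈ 𝒩(SC S) ∧ ∀ l : ZMod p, Lam S m l → orderOf l = p - 1 := by
  have h5 := h.toM5
  have hm0 := h.mc
  have h4 := h.h4
  have hp5 := h.h5
  obtain ⟨-, h6, -, hpair⟩ := h5.exc hne
  obtain ⟨X, _, _, φ, q⟩ := h.exists_qctx
  obtain ⟨s, hs⟩ := h5.exists_unif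
  obtain ⟨i, j, k, h1, h2, h3, h7, h8, -, e⟩ := h5.exists_triple hna
  obtain ⟨N, hN⟩ : ∃ N : ℕ, ∀ a ∈ Δ, a ∈ 𝒩(SC S) → ∀ l ζ : ZMod p, Lam S a l → Wt S a (n - 1) ζ →
      l ^ N = ζ ∧ (l = 1 → a ∈ SC S) := by
    refine ⟨2 * (k - 1 + (p - 2) * (i - 1 + (j - 1))) + (n - 3), fun a ha ha' l ζ hl hζ => ?_⟩
    have haN := h.ΔN ha
    obtain ⟨μ, hμ0, hμ⟩ := h5.exists_wt haN ha' (i := 1) le_rfl
    obtain ⟨l', hl0, hl'⟩ := h5.exists_lam haN ha'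
    have hw : ∀ l : ZMod p, Lam S a l → ∀ i, 1 ≤ i → i + 2 ≤ n → Wt S a i (l ^ (i - 1) * μ) :=
      fun l hl i hi hi' => by
      have := h5.wt_add haN ha' hl le_rfl (j := i - 1) (Or.inl (by omega)) hμ
      rwa [show 1 + (i - 1) = i by omega] at this
    obtain rfl : l = l' := by
      have := h5.wt_uniq haN ha' (hw l hl 2 (by omega) (by omega)) (hw l' hl' 2 (by omega) (by omega))
        (by omega)
      simpa [hμ0] using this
    have k1 := e a haN ha' _ _ _ (hw l hl i h1 (by omega)) (hw l hl j h2 (by omega))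
      (hw l hl k (by omega) (by omega))
    have k2 : μ = l ^ (k - 1 + (p - 2) * (i - 1 + (j - 1))) := by
      have k3 : l ^ (k - 1) = l ^ (i - 1 + (j - 1)) * μ :=
        mul_right_cancel₀ hμ0 (by rw [k1, pow_add]; ring)
      have k4 : l ^ ((p - 1) * (i - 1 + (j - 1))) = 1 := by
        rw [pow_mul, ZMod.pow_card_sub_one_eq_one hl0, one_pow]
      rw [pow_add, k3, mul_right_comm, ← pow_add, show i - 1 + (j - 1) + (p - 2) * (i - 1 + (j - 1))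
        = (p - 1) * (i - 1 + (j - 1)) by rw [show p - 1 = p - 2 + 1 by omega]; ring, k4, one_mul]
    have k5 := h5.wt_pair haN ha' hne le_rfl (j := n - 2) (by omega) (by omega) hμ
      (hw l hl (n - 2) (by omega) (by omega))
    have k6 := h5.wt_uniq haN ha' k5 hζ (by omega)
    refine ⟨?_, fun hl1 => h.mem_of_wt_one ha ha' fun r hr hr' => ?_⟩
    · rw [← k6, pow_add, mul_comm 2, pow_mul, ← k2, show n - 2 - 1 = n - 3 by omega]; ring
    · rw [hl1, one_pow] at k2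
      by_cases hr2 : r + 2 ≤ n
      · simpa [hl1, k2] using hw l hl r hr hr2
      · rw [show r = n - 1 by omega]; simpa [hl1, k2] using k5
  have hZ : gam S ⊓ 𝒞(gam S) = lv S (n - 1) := by
    refine le_antisymm (fun x hx => by_contra fun hx' => ?_) (le_inf (lv_le_gam (by omega))
      fun x hx => mem_cent.2 fun y hy => commute_center hm0 h4 hx hy.1)
    obtain ⟨a, ha, ha'⟩ := exists_lev_of_not_mem hx.1.1 hx'
    have ha1 := ha'.le_of_mem (j := 1) hx.1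
    obtain ⟨y, hy⟩ := exists_lev_of_lt hm0 h4 (i := n - 1 - a) (by omega)
    exact hpair a _ ha1 (by omega) (by omega) x y ha' hy (commutatorElement_eq_one_iff_mul_comm.2
      (mem_cent.1 hx.2 y (lv_le_gam (by omega) hy.1)).symm)
  have hΔZ : Δ ≤ 𝒩(lv S (n - 1)) :=
    hZ ▸ H1.le_normalizer_inf h.ΔN (H1.le_normalizer_centralizer h.ΔN)
  have hSC : SC S ≤ 𝒞(lv S (n - 1)) :=
    sup_le (le_cent_center hm0 h4) (cent_le_cent (lv_le_gam (by omega)))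
  have hsD : s ∈ Δ ⊓ 𝒞(lv S (n - 1)) := ⟨h.SΔ hs.mem, hSC (mem_sup_left hs.mem)⟩
  have hDn : Δ ≤ 𝒩(Δ ⊓ 𝒞(lv S (n - 1))) :=
    H1.le_normalizer_inf le_normalizer (H1.le_normalizer_centralizer hΔZ)
  have hnorm : ∀ a ∈ Δ, a * s * a⁻¹ ∈ SC S → a ∈ 𝒩(SC S) := fun a ha e =>
    q.norm h hs (a := ⟨a, ha⟩) (by rw [← map_inv, ← map_mul, ← map_mul, q.mem_iff h hs]; exact e)
  obtain ⟨b, hb, eb⟩ := h.syl (K := Δ ⊓ 𝒞(lv S (n - 1))) inf_le_left (inf_le_inf_left _ hSC)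
    (zpowers_le.2 (H9.conj_mem_of_mem_normalizer (hDn hm) hsD)) (by
      obtain ⟨k, hk⟩ := H9.exists_pow_eq_one hm0.hS hs.mem
      rintro _ ⟨i, rfl⟩
      refine ⟨k, ?_⟩
      rw [← zpow_natCast, ← zpow_mul, mul_comm, zpow_mul, zpow_natCast, conj_pow, hk]; simp)
  have hbm := hnorm _ (mul_mem hb.1 hm) (by simpa [mul_assoc] using eb _ (mem_zpowers _))
  obtain ⟨l₀, hl0, hl₀⟩ := h5.exists_lam (h.ΔN (mul_mem hb.1 hm)) hbm
  have hco := (gen_of_pow hc hl0 (hN _ (mul_mem hb.1 hm) hbm l₀ c hl₀ fun y hy => by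
    have := mem_cent.1 hb.2 _ (H9.conj_mem_of_mem_normalizer (hΔZ hm) hy)
    rw [show b * m * y * (b * m)⁻¹ = b * (m * y * m⁻¹) * b⁻¹ by group, ← this, mul_inv_cancel_right]
    exact hz y hy).1).2
  have key : ∀ a ∈ Δ ⊓ 𝒞(lv S (n - 1)), a ∈ 𝒩(SC S) → a ∈ SC S := fun a ha ha' => by
    obtain ⟨l, k1, k2⟩ := h5.exists_lam (h.ΔN ha.1) ha'
    have := hN a ha.1 ha' l 1 k2 fun y hy => by
      rw [← mem_cent.1 ha.2 y hy]; simp [EX.pw_one]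
    exact this.2 (hco l k1 this.1)
  let M := ((Δ ⊓ 𝒞(lv S (n - 1))).subgroupOf Δ).map φ
  have hsM : zpowers (φ ⟨s, h.SΔ hs.mem⟩) ≤ M := zpowers_le.2 ⟨_, hsD, rfl⟩
  have key' : M ⊓ 𝒩(zpowers (φ ⟨s, h.SΔ hs.mem⟩)) ≤ zpowers (φ ⟨s, h.SΔ hs.mem⟩) := by
    rintro _ ⟨⟨a, ha, rfl⟩, ha'⟩
    exact (q.mem_iff h hs a).2 (key a ha
      (q.norm h hs (H9.conj_mem_of_mem_normalizer ha' (mem_zpowers _))))
  have hsd := Burnside_normal_complement hp.out (M := M) ⟨hsM,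
    IsPGroup.of_card (n := 1) (by rw [Nat.card_zpowers, q.order h hs, pow_one]),
    fun e => q.not_dvd h hs (e.trans (relIndex_dvd_index_of_le hsM))⟩
    (key'.trans (zpowers_le.2 (mem_cent.2 (by rintro _ ⟨i, rfl⟩; exact (Commute.refl _).zpow_left i))))
  have hK : ¬ p ∣ Nat.card (Op' p M) := (piN_compl_singleton_iff hp.out).1 (core_pi _ _)
  have hbot : Op' p M = ⊥ := q.eq_bot h hs
    (fun w hw hw' => h5.le_Phi (r := n - 2) (by rwa [show n - 2 + 1 = n - 1 by omega]) (by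
      rw [lv_of_two (by omega)]; exact hm0.pow_mem_tw hp5 hw hw' (by omega)))
    hK (hsd.normal.norm (hsM (mem_zpowers _))) fun k hk e => by
      have k1 := key' ⟨hsd.left_le hk, cent_le_norm (mem_cent.2 (by
        rintro _ ⟨i, rfl⟩; exact (Commute.symm e).zpow_left i))⟩
      exact mem_bot.1 (hsd.inf_eq.le ⟨hk, k1⟩)
  have hM := hsd.sup_eq
  rw [hbot, bot_sup_eq] at hM
  have hm' := hnorm m hm ((q.mem_iff h hs ⟨_, (H9.conj_mem_of_mem_normalizer (hDn hm) hsD).1⟩).1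
    (hM.ge ⟨⟨_, (H9.conj_mem_of_mem_normalizer (hDn hm) hsD).1⟩,
      H9.conj_mem_of_mem_normalizer (hDn hm) hsD, rfl⟩))
  refine ⟨hm', fun l hl => (gen_of_pow hc ?_ (hN m hm hm' l c hl hz).1).1⟩
  rintro rfl
  refine h5.not_mem_QC hs.mem (q.lev h hs).2 ?_
  simpa [EX.pw_zero, mul_assoc] using
    H9.conj_mem_of_mem_normalizer' (norm_QC (h.ΔN hm)) (hl s hs.mem)

end Cfsg.Agent.MX
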