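import Cfsg.Agent.Lib.EX.Loc

/-!
# S5267: a relative Sylow theorem (see notes/MX.md)
-/

set_option autoImplicit false
set_option linter.unusedSectionVars false
set_option linter.unusedVariables false

namespace Cfsg.Agent.MX

open Subgroup Cfsg.Agent.FT
open Cfsg.Agent.EX (PAct)

variable {G : Type*} [Group G] [Finite G] {p : ℕ} [hp : Fact p.Prime] {Γ K X A R : Subgroup G}

/-- Relative Sylow theorem. -/
theorem exists_conj_of_pAct (hK : K ≤ 𝒩(R)) (hA : K ⊓ 𝒞(R) ≤ A) (hi : ¬ p ∣ A.relIndex K)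
    (hX : X ≤ K) (hp : PAct p X R) : ∃ h ∈ K, ∀ x ∈ X, h * x * h⁻¹ ∈ A := by
  let φ : K →* Equiv.Perm (K ⧸ A.subgroupOf K) := MulAction.toPermHom K _
  have hker : ∀ c : K, (c : G) ∈ 𝒞(R) → φ c = 1 := fun c hc => by
    ext q
    obtain ⟨g, rfl⟩ := QuotientGroup.mk_surjective q
    show ((c * g : K) : K ⧸ A.subgroupOf K) = g
    refine (QuotientGroup.eq.2 ?_).symm
    refine mem_subgroupOf.2 (hA ⟨(g⁻¹ * (c * g)).2, ?_⟩)
    have := H6.conj_mem_of_mem_normalizer' (H1.le_normalizer_centralizer hK g.2) hc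
    simpa [mul_assoc] using this
  have hP : IsPGroup p ((X.subgroupOf K).map φ) := by
    rintro ⟨_, x, hx, rfl⟩
    obtain ⟨k, hk⟩ := hp x (mem_subgroupOf.1 hx)
    exact ⟨k, Subtype.ext (by
      show φ x ^ p ^ k = 1
      rw [← map_pow]; exact hker _ hk)⟩
  obtain ⟨q, hq⟩ := hP.nonempty_fixed_point_of_prime_not_dvd_card (K ⧸ A.subgroupOf K) hi
  obtain ⟨g, rfl⟩ := QuotientGroup.mk_surjective q
  refine ⟨g⁻¹, inv_mem g.2, fun x hx => ?_⟩
  have h1 := hq ⟨φ ⟨x, hX hx⟩, ⟨x, hX hx⟩, hx, rfl⟩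
  have h2 : ((⟨x, hX hx⟩ * g : K) : K ⧸ A.subgroupOf K) = g := h1
  have h3 := mem_subgroupOf.1 (QuotientGroup.eq.1 h2.symm)
  simpa [mul_assoc] using h3

theorem not_dvd_relIndex_of_le (hK : K ≤ Γ) (hA : Γ ⊓ A ≤ K) (hi : ¬ p ∣ A.relIndex Γ) :
    ¬ p ∣ A.relIndex K := fun h => hi (by
  have e : A ⊓ K = A ⊓ Γ := le_antisymm (inf_le_inf_left A hK)
    (le_inf inf_le_left fun x hx => hA ⟨hx.2, hx.1⟩)
  rw [← inf_relIndex_right, ← e, ← relIndex_mul_relIndex _ K Γ inf_le_right hK,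
    inf_relIndex_right]
  exact h.mul_right _)

theorem relIndex_dvd_index_of_normal' (H N : Subgroup G) [N.Normal] : H.relIndex N ∣ H.index := by
  have h1 := H9.card_eq_relIndex_mul' (K := N) (L := H ⊔ N)
  have h2 := H9.card_eq_relIndex_mul' (K := H) (L := H ⊔ N)
  have h3 := H9.card_eq_relIndex_mul' (K := N) (L := H)
  have h4 := H9.card_eq_relIndex_mul' (K := H) (L := N)
  rw [inf_eq_left.2 le_sup_right, relIndex_sup_right] at h1
  rw [inf_eq_left.2 le_sup_left] at h2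
  rw [inf_comm] at h3
  have h5 : H.relIndex N = H.relIndex (H ⊔ N) := by
    have hp : 0 < N.relIndex H * Nat.card (H ⊓ N : Subgroup G) := h3 ▸ Nat.card_pos
    refine Nat.eq_of_mul_eq_mul_right hp ?_
    rw [← h3, ← h2, h1, h4, h3]; ring
  rw [h5]; exact relIndex_dvd_index_of_le le_sup_left

theorem not_dvd_relIndex_of_normal (hK : K ≤ Γ) (hn : Γ ≤ 𝒩(K)) (hi : ¬ p ∣ A.relIndex Γ) :
    ¬ p ∣ A.relIndex K := fun h => hi (by
  have hN : (K.subgroupOf Γ).Normal := (normal_subgroupOf_iff_le_normalizer hK).2 hn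
  have h1 : A.relIndex K = (A.subgroupOf Γ).relIndex (K.subgroupOf Γ) :=
    (relIndex_subgroupOf hK).symm
  rw [h1] at h
  exact h.trans (relIndex_dvd_index_of_normal' _ _))

end Cfsg.Agent.MX
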