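import Cfsg.Agent.Lib.H9.McEss
import Cfsg.Agent.Lib.H9.Tower
import Cfsg.Agent.Lib.H3.MC6
import Cfsg.Agent.Lib.EX.Dict
import Cfsg.Agent.Lib.MX.Syl

/-!
# S5267: definitions and level calculus (see notes/MX.md)
-/

set_option autoImplicit false
set_option linter.unusedSectionVars false
set_option linter.unusedVariables false

namespace Cfsg.Agent.MX

open Subgroup Cfsg.Agent.H9 Cfsg.Agent.FT
open Cfsg.Agent.EX (pw PAct NC)
open scoped commutatorElement

universe u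

section Defs

variable {G : Type*} [Group G]

/-- The series `γ₀ = S`, `γ₁ = gam S`, `γ_i = L (i - 1)`. -/
def lv (S : Subgroup G) : ℕ → Subgroup G
  | 0 => S
  | 1 => gam S
  | i + 2 => S.lowerCentralSeries (i + 1)

/-- `x` has level `i`. -/
def Lev (S : Subgroup G) (i : ℕ) (x : G) : Prop := x ∈ lv S i ∧ x ∉ lv S (i + 1)

/-- `S` is not exceptional. -/
def NE (S : Subgroup G) (n : ℕ) : Prop := gam S = cst S (n - 3)

/-- Maximal class, `p ≥ 5`, order at least `p ^ 4`. -/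
structure M5 (p : ℕ) (S : Subgroup G) (n : ℕ) : Prop where
  mc : MaxCl p S n
  h5 : 5 ≤ p
  h4 : 4 ≤ n

/-- The first two alternatives of S5267. -/
def PearlT (p : ℕ) (E : Subgroup G) : Prop :=
  (Nat.card E = p ^ 2 ∧ IsElementaryAbelian p E) ∨
    (Nat.card E = p ^ 3 ∧ IsExtraspecial p E ∧ (p ≠ 2 → Monoid.exponent E = p) ∧
      (p = 2 → Nonempty (E ≃* QuaternionGroup 2)))

/-- The elements acting on `γ₁` like elements of `S`. -/
def SC (S : Subgroup G) : Subgroup G := S ⊔ 𝒞(gam S)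

/-- `Δ` acts on `γ₁` with `S` as a Sylow subgroup. -/
structure DCtx (p n : ℕ) (S Δ : Subgroup G) : Prop extends M5 p S n where
  SΔ : S ≤ Δ
  ΔN : Δ ≤ 𝒩(gam S)
  sylΔ : ¬ p ∣ (SC S).relIndex Δ

/-- The local configuration of a maximal counterexample `E < γ₁`; `Γ` induces `Aut_F(E)` and `Δ`
induces `Aut_F(γ₁)`. -/
structure Loc (p n : ℕ) (S E Γ Δ : Subgroup G) : Prop extends DCtx p n S Δ where
  le : E ≤ gam S
  nn : ¬ S ≤ 𝒩(E)
  cen : S ⊓ 𝒞(E) ≤ E
  NΓ : S ⊓ 𝒩(E) ≤ Γ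
  ΓN : Γ ≤ 𝒩(E)
  sylΓ : ¬ p ∣ (NC S E).relIndex Γ
  ext : ∀ g ∈ Γ, ∀ x ∈ S ⊓ 𝒩(E), x ∉ E → g * x * g⁻¹ ∈ NC S E →
    ∃ m ∈ Δ, ∀ r ∈ E, g * r * g⁻¹ = m * r * m⁻¹
  bad : ∃ g ∈ Γ, ∃ x ∈ S ⊓ 𝒩(E), g * x * g⁻¹ ∉ NC S E
  big : ¬ NE S n → p ^ 4 ≤ Nat.card E

/-- All conjugates of `N_S(E)` centralize `Z(S)`. -/
def RC (n : ℕ) (S E Γ : Subgroup G) : Prop :=
  ∀ g ∈ Γ, ∀ x ∈ S ⊓ 𝒩(E), g * x * g⁻¹ ∈ 𝒞(lv S (n - 1))

/-- `k` is the top level missing from `E`. -/
structure Top (n : ℕ) (S E : Subgroup G) (k : ℕ) : Prop where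
  two : 2 ≤ k
  le : k + 2 ≤ n
  succ : lv S (k + 1) ≤ E
  not_le : ¬ lv S k ≤ E

variable {p : ℕ} [Fact p.Prime]

/-- `m` acts on the level `i` as the scalar `w`. -/
def Wt (S : Subgroup G) (m : G) (i : ℕ) (w : ZMod p) : Prop :=
  ∀ y ∈ lv S i, (pw y w)⁻¹ * (m * y * m⁻¹) ∈ lv S (i + 1)

/-- `m` acts on `S C(γ₁) / γ₁ C(γ₁)` as the scalar `l`. -/
def Lam (S : Subgroup G) (m : G) (l : ZMod p) : Prop :=
  ∀ s ∈ S, (pw s l)⁻¹ * (m * s * m⁻¹) ∈ gam S ⊔ 𝒞(gam S)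

/-- The torus element given by Lemma T. -/
structure Tor (n : ℕ) (S E Δ : Subgroup G) (t : G) (c : ZMod p) (m y : G) : Prop where
  mem : m ∈ Δ
  yE : y ∈ E
  yC : y ∈ 𝒞(E)
  yp : y ^ p = 1
  ne : ⁅t, y⁆ ≠ 1
  comm : Commute t ⁅t, y⁆
  my : m * y * m⁻¹ = pw y c⁻¹
  mz : m * ⁅t, y⁆ * m⁻¹ = pw ⁅t, y⁆ c
  quad : ∀ v ∈ E, v ∈ 𝒞(E) → v ^ p = 1 → Commute t v →
    m * (m * v * m⁻¹ * v⁻¹) * m⁻¹ = pw (m * v * m⁻¹ * v⁻¹) c
  move : c ≠ 1 → ∃ z ∈ lv S (n - 1), m * z * m⁻¹ ≠ z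

end Defs

section Levels

variable {G : Type u} [Group G] {p : ℕ} [hp : Fact p.Prime] {S : Subgroup G} [Finite S]
  {n i j : ℕ} {x y s g u : G}

local notation "L" => Subgroup.lowerCentralSeries S

theorem exists_not_mem_two {E A B : Subgroup G} (hA : ¬ E ≤ A) (hB : ¬ E ≤ B) :
    ∃ s ∈ E, s ∉ A ∧ s ∉ B := by
  obtain ⟨a, ha, ha'⟩ := SetLike.not_le_iff_exists.1 hA
  obtain ⟨b, hb, hb'⟩ := SetLike.not_le_iff_exists.1 hB
  by_cases h1 : a ∈ B
  · by_cases h2 : b ∈ A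
    · exact ⟨a * b, mul_mem ha hb, fun e => ha' ((mul_mem_cancel_right h2).1 e),
        fun e => hb' ((mul_mem_cancel_left h1).1 e)⟩
    · exact ⟨b, hb, h2, hb'⟩
  · exact ⟨a, ha, ha', h1⟩

theorem lv_zero : lv S 0 = S := rfl

theorem lv_one : lv S 1 = gam S := rfl

theorem lv_succ (hi : 1 ≤ i) : lv S (i + 1) = L i := by
  obtain ⟨i, rfl⟩ := Nat.exists_eq_add_of_le' hi
  rfl

theorem lv_of_two (hi : 2 ≤ i) : lv S i = L (i - 1) := by
  obtain ⟨i, rfl⟩ := Nat.exists_eq_add_of_le' hi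
  rfl

theorem lv_le (S : Subgroup G) (i : ℕ) : lv S i ≤ S := by
  match i with
  | 0 => exact le_rfl
  | 1 => exact fun _ h => h.1
  | i + 2 => exact H9.lcs_le S _

theorem lv_succ_le (S : Subgroup G) (i : ℕ) : lv S (i + 1) ≤ lv S i := by
  match i with
  | 0 => exact lv_le S 1
  | 1 => exact fun x hx => ⟨H9.lcs_le S 1 hx, fun y hy => commutator_mem_lcs_add (i := 1) (j := 1) hx hy⟩
  | i + 2 => exact fun x hx => lcs_anti S (Nat.le_succ _) hx

theorem lv_anti (S : Subgroup G) (h : i ≤ j) : lv S j ≤ lv S i :=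
  antitone_nat_of_succ_le (lv_succ_le S) h

theorem lv_le_gam (hi : 1 ≤ i) : lv S i ≤ gam S := lv_anti S hi

theorem lv_le_lcs (S : Subgroup G) (i : ℕ) : lv S i ≤ S.lowerCentralSeries (i - 1) := by
  match i with
  | 0 => exact le_rfl
  | 1 => exact lv_le S 1
  | i + 2 => exact le_rfl

theorem lcs_le_lv (S : Subgroup G) (i : ℕ) : S.lowerCentralSeries i ≤ lv S i := by
  match i with
  | 0 => exact le_rfl
  | i + 1 => exact lv_succ_le S (i + 1)

theorem lv_norm (S : Subgroup G) (i : ℕ) : S ≤ 𝒩(lv S i) := by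
  match i with
  | 0 => exact le_normalizer
  | 1 =>
    exact le_normalizer_of_commutator_le (lv_le S 1) (commutator_le.2 fun a ha b hb =>
      lv_succ_le S 1 (commutator_mem_lcs (k := 0) ha hb))
  | i + 2 => exact fun g hg => lcs_norm S _ hg

theorem comm_mem_succ (hx : x ∈ lv S i) (hg : g ∈ S) : ⁅x, g⁆ ∈ lv S (i + 1) := by
  match i with
  | 0 => exact lv_succ_le S 1 (commutator_mem_lcs (k := 0) hx hg)
  | 1 => exact commutator_mem_lcs (k := 0) hx.1 hg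
  | i + 2 => exact commutator_mem_lcs hx hg

theorem comm_mem_succ' (hg : g ∈ S) (hx : x ∈ lv S i) : ⁅g, x⁆ ∈ lv S (i + 1) :=
  commutator_mem_comm (comm_mem_succ hx hg)

theorem conj_mem_lv (hg : g ∈ S) (hx : x ∈ lv S i) : g * x * g⁻¹ ∈ lv S i :=
  H9.conj_mem_of_mem_normalizer (lv_norm S i hg) hx

theorem Lev.mem (h : Lev S i x) : x ∈ S := lv_le S i h.1

theorem Lev.le_of_mem (h : Lev S i x) (hx : x ∈ lv S j) : j ≤ i :=
  not_lt.1 fun hlt => h.2 (lv_anti S hlt hx)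

theorem Lev.uniq (h : Lev S i x) (h' : Lev S j x) : i = j :=
  le_antisymm (h'.le_of_mem h.1) (h.le_of_mem h'.1)

theorem Lev.ne_one (h : Lev S i x) : x ≠ 1 := fun e => h.2 (e ▸ one_mem _)

theorem Lev.inv (h : Lev S i x) : Lev S i x⁻¹ := ⟨inv_mem h.1, fun e => h.2 (inv_mem_iff.1 e)⟩

theorem Lev.mul (h : Lev S i x) (hy : y ∈ lv S (i + 1)) : Lev S i (x * y) :=
  ⟨mul_mem h.1 (lv_succ_le S i hy), fun e => h.2 ((mul_mem_cancel_right hy).1 e)⟩

theorem Lev.mul' (h : Lev S i x) (hy : y ∈ lv S (i + 1)) : Lev S i (y * x) :=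
  ⟨mul_mem (lv_succ_le S i hy) h.1, fun e => h.2 ((mul_mem_cancel_left hy).1 e)⟩

theorem Lev.of_cong (h : Lev S i x) (hy : x⁻¹ * y ∈ lv S (i + 1)) : Lev S i y := by
  simpa using h.mul hy

theorem Lev.comm_symm (h : Lev S i ⁅x, y⁆) : Lev S i ⁅y, x⁆ := by
  simpa using h.inv

theorem lev_iff (hi : 2 ≤ i) : Lev S i x ↔ x ∈ L (i - 1) ∧ x ∉ L (i - 1 + 1) := by
  rw [Lev, lv_of_two hi, lv_succ (by omega), show i - 1 + 1 = i by omega]

theorem exists_lev_of_not_mem (hx : x ∈ S) (h1 : x ∉ lv S j) : ∃ i < j, Lev S i x := by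
  induction j with
  | zero => exact absurd hx h1
  | succ j ih =>
    by_cases h : x ∈ lv S j
    · exact ⟨j, by omega, h, h1⟩
    · obtain ⟨i, hi, h2⟩ := ih h
      exact ⟨i, by omega, h2⟩

section MaxCl

variable (h : MaxCl p S n) (h4 : 4 ≤ n)
include h h4

theorem lv_eq_bot (hi : n ≤ i) : lv S i = ⊥ := by
  rw [lv_of_two (by omega), h.eq_bot (by omega)]

theorem eq_one_of_mem (hi : n ≤ i) (hx : x ∈ lv S i) : x = 1 := by
  rwa [lv_eq_bot h h4 hi, mem_bot] at hx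

theorem card_lv (hi : i ≤ n) : Nat.card (lv S i) = p ^ (n - i) := by
  match i with
  | 0 => exact h.card
  | 1 => exact h.card_gam h4
  | i + 2 => exact (h.card_lcs (k := i + 1) (by omega) (by omega)).trans (by congr 1; omega)

theorem relIndex_lv (hi : i < n) : (lv S (i + 1)).relIndex (lv S i) = p := by
  match i with
  | 0 => exact h.relIndex_gam h4
  | 1 => exact h.relIndex_one_gam h4
  | i + 2 => exact h.relIndex_lcs (k := i + 1) (by omega) (by omega)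

theorem center_eq : S ⊓ 𝒞(S) = lv S (n - 1) := by
  rw [lv_of_two (by omega)]; exact h.center_eq

theorem commute_center (hx : x ∈ lv S (n - 1)) (hg : g ∈ S) : g * x = x * g :=
  h.comm_of_mem (by rwa [lv_of_two (by omega)] at hx) hg

theorem le_cent_center : S ≤ 𝒞(lv S (n - 1)) := fun g hg =>
  mem_cent.2 fun x hx => (commute_center h h4 hx hg).symm

theorem cst_eq : cst S (n - 3) = S ⊓ 𝒞(lv S (n - 2)) := by
  rw [lv_of_two (by omega), show n - 2 - 1 = n - 3 by omega]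
  ext x
  refine and_congr_right fun _ => forall₂_congr fun y _ => ?_
  rw [h.eq_bot (by omega), Subgroup.mem_bot, commutatorElement_eq_one_iff_mul_comm, eq_comm]

theorem Lev.lt (hx : Lev S i x) : i < n :=
  not_le.1 fun hi => hx.ne_one (eq_one_of_mem h h4 hi hx.1)

theorem exists_lev (hx : x ∈ S) (h1 : x ≠ 1) : ∃ i < n, Lev S i x :=
  exists_lev_of_not_mem hx fun e => h1 (eq_one_of_mem h h4 le_rfl e)

theorem lv_lt (hi : i < n) : lv S (i + 1) < lv S i :=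
  lt_of_le_of_ne (lv_succ_le S i) fun e => hp.out.one_lt.ne' (by
    rw [← relIndex_lv h h4 hi, e, relIndex_self])

theorem exists_lev_of_lt (hi : i < n) : ∃ x, Lev S i x :=
  SetLike.exists_of_lt (lv_lt h h4 hi)

theorem lev_center (hx : x ∈ lv S (n - 1)) (h1 : x ≠ 1) : Lev S (n - 1) x :=
  ⟨hx, fun e => h1 (eq_one_of_mem h h4 (by omega) e)⟩

theorem pow_mem_succ (hx : x ∈ lv S i) : x ^ p ∈ lv S (i + 1) := by
  by_cases hi : i < n
  · exact pow_mem_of_relIndex_eq (lv_succ_le S i) ((lv_le S i).trans (lv_norm S _))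
      (relIndex_lv h h4 hi) hx
  · rw [eq_one_of_mem h h4 (not_lt.1 hi) hx, one_pow]; exact one_mem _

theorem center_pow (hx : x ∈ lv S (n - 1)) : x ^ p = 1 :=
  eq_one_of_mem h h4 (by omega) (pow_mem_succ h h4 hx)

theorem Lev.sup_eq (hx : Lev S i x) : lv S (i + 1) ⊔ zpowers x = lv S i :=
  sup_zpowers_eq_of_relIndex_prime hp.out (relIndex_lv h h4 (hx.lt h h4)) (lv_succ_le S i) hx.1 hx.2

theorem Lev.le_of_mem' {K : Subgroup G} (hx : Lev S i x) (hxK : x ∈ K) (hK : lv S (i + 1) ≤ K) :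
    lv S i ≤ K := hx.sup_eq h h4 ▸ sup_le hK (zpowers_le.2 hxK)

theorem Lev.zpow_mem_iff (hx : Lev S i x) {c : ℤ} : x ^ c ∈ lv S (i + 1) ↔ (p : ℤ) ∣ c :=
  zpow_mem_iff_dvd hx.2 (pow_mem_succ h h4 hx.1)

theorem Lev.pw (hx : Lev S i x) {c : ZMod p} (hc : c ≠ 0) : Lev S i (pw x c) := by
  refine ⟨EX.pw_mem hx.1 c, fun e => hc ?_⟩
  have := (hx.zpow_mem_iff h h4 (c := (c.val : ℤ))).1 (by rw [zpow_natCast]; exact e)
  rw [← ZMod.natCast_zmod_val c, ZMod.natCast_eq_zero_iff]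
  exact_mod_cast this

/-- Integer and modular exponents agree modulo the next level. -/
theorem pw_cong_zpow (hx : x ∈ lv S i) (c : ℤ) :
    (pw x (c : ZMod p))⁻¹ * x ^ c ∈ lv S (i + 1) := by
  have e : (p : ℤ) ∣ c - (((c : ZMod p).val : ℕ) : ℤ) := by
    rw [← ZMod.intCast_eq_intCast_iff_dvd_sub]; simp
  obtain ⟨d, hd⟩ := e
  have : (pw x (c : ZMod p))⁻¹ * x ^ c = (x ^ p) ^ d := by
    rw [EX.pw, ← zpow_natCast, ← zpow_neg, ← zpow_add, ← zpow_natCast, ← zpow_mul, ← hd]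
    congr 1; ring
  rw [this]; exact zpow_mem (pow_mem_succ h h4 hx) d

theorem exists_cong (hu : Lev S i u) (hx : x ∈ lv S i) :
    ∃ c : ZMod p, (pw u c)⁻¹ * x ∈ lv S (i + 1) := by
  rw [← hu.sup_eq h h4] at hx
  obtain ⟨k, hk, c, rfl⟩ := (mem_sup_zpowers (lv_norm S _ hu.mem)).1 hx
  refine ⟨c, cong_trans (pw_cong_zpow h h4 hu.1 c) ?_⟩
  have := H9.conj_mem_of_mem_normalizer' (lv_norm S (i + 1) (zpow_mem hu.mem c)) hk
  simpa [mul_assoc] using this

theorem cong_uniq (hu : Lev S i u) {c d : ZMod p} (hc : (pw u c)⁻¹ * x ∈ lv S (i + 1))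
    (hd : (pw u d)⁻¹ * x ∈ lv S (i + 1)) : c = d := by
  have h1 : u ^ ((d.val : ℤ) - c.val) ∈ lv S (i + 1) := by
    have := mul_mem hc (inv_mem hd)
    rw [sub_eq_neg_add, zpow_add, zpow_neg, zpow_natCast, zpow_natCast]
    simpa [EX.pw, mul_assoc] using this
  have h2 := (ZMod.intCast_eq_intCast_iff_dvd_sub _ _ _).2 ((hu.zpow_mem_iff h h4).1 h1)
  simpa using h2

theorem comm_mem_add (hi : 1 ≤ i) (hj : 1 ≤ j) (hx : x ∈ lv S i) (hy : y ∈ lv S j) :
    ⁅x, y⁆ ∈ lv S (i + j) := by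
  rw [lv_of_two (by omega)]
  exact lcs_anti S (by omega) (commutator_mem_lcs_add (lv_le_lcs S i hx) (lv_le_lcs S j hy))

theorem commute_of_le (hi : 1 ≤ i) (hj : 1 ≤ j) (hn : n ≤ i + j) (hx : x ∈ lv S i)
    (hy : y ∈ lv S j) : Commute x y :=
  commutatorElement_eq_one_iff_commute.1 (eq_one_of_mem h h4 hn (comm_mem_add h h4 hi hj hx hy))

theorem le_of_normal {N : Subgroup G} (hN : S ≤ 𝒩(N)) (hi : 1 ≤ i) (hxN : x ∈ N)
    (hx : Lev S i x) : lv S i ≤ N := by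
  refine hx.le_of_mem' h h4 hxN ?_
  rw [lv_succ hi, show i = i - 1 + 1 by omega]
  exact h.le_of_normal hN hxN (lv_le_lcs S i hx.1) (by
    rw [show i - 1 + 1 = i by omega, ← lv_succ hi]; exact hx.2)

/-- The least level of a subgroup. -/
theorem exists_min_level {K : Subgroup G} (hK : K ≤ S) :
    ∃ i ≤ n, K ≤ lv S i ∧ (i < n → ∃ x ∈ K, Lev S i x) := by
  classical
  let P : ℕ → Prop := fun i => K ≤ lv S i
  have h0 : P (Nat.findGreatest P n) := Nat.findGreatest_spec (Nat.zero_le n) hK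
  refine ⟨_, Nat.findGreatest_le n, h0, fun hlt => ?_⟩
  have h1 : ¬ P (Nat.findGreatest P n + 1) := Nat.findGreatest_is_greatest (Nat.lt_succ_self _) hlt
  obtain ⟨x, hx, hx'⟩ := SetLike.not_le_iff_exists.1 h1
  exact ⟨x, hx, h0 hx, hx'⟩

theorem eq_lv_of_normal {N : Subgroup G} (hN : S ≤ 𝒩(N)) (hle : N ≤ gam S) :
    ∃ i, 1 ≤ i ∧ i ≤ n ∧ N = lv S i := by
  obtain ⟨i, hi, h1, h2⟩ := exists_min_level h h4 (hle.trans (lv_le S 1))
  rcases hi.lt_or_eq with hi | rfl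
  · obtain ⟨x, hx, hx'⟩ := h2 hi
    have h3 : 1 ≤ i := hx'.le_of_mem (hle hx)
    exact ⟨i, h3, hi.le, le_antisymm h1 (le_of_normal h h4 hN h3 hx hx')⟩
  · exact ⟨i, by omega, le_rfl, le_antisymm h1 (by rw [lv_eq_bot h h4 le_rfl]; exact bot_le)⟩

theorem lv_le_of_levels {K : Subgroup G} (hK : ∀ m, j ≤ m → m < n → ∃ y ∈ K, Lev S m y) :
    lv S j ≤ K := by
  have key : ∀ d m, m + d = n → j ≤ m → lv S m ≤ K := fun d => by
    induction d with
    | zero => intro m hm _; rw [lv_eq_bot h h4 (by omega)]; exact bot_le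
    | succ d ih =>
      intro m hm hj
      obtain ⟨y, hy, hy'⟩ := hK m hj (by omega)
      exact hy'.le_of_mem' h h4 hy (ih (m + 1) (by omega) (by omega))
  by_cases hj : j ≤ n
  · exact key (n - j) j (by omega) le_rfl
  · rw [lv_eq_bot h h4 (by omega)]; exact bot_le

theorem card_le_of_levels {K : Subgroup G} (hK : K ≤ S) (T : Finset ℕ)
    (hT : ∀ i, ∀ x ∈ K, Lev S i x → i ∈ T) : Nat.card K ≤ p ^ T.card := by
  have key : ∀ d m, m + d = n →
      Nat.card (K ⊓ lv S m : Subgroup G) ≤ p ^ (T.filter (m ≤ ·)).card := fun d => by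
    induction d with
    | zero =>
      intro m hm
      rw [lv_eq_bot h h4 (by omega), inf_bot_eq, card_bot]
      exact Nat.one_le_pow _ _ hp.out.pos
    | succ d ih =>
      intro m hm
      have h1 := ih (m + 1) (by omega)
      by_cases hx : ∃ x ∈ K, Lev S m x
      · obtain ⟨x, hx, hx'⟩ := hx
        have e : T.filter (m ≤ ·) = insert m (T.filter (m + 1 ≤ ·)) := by
          ext a
          simp only [Finset.mem_filter, Finset.mem_insert]
          constructor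
          · rintro ⟨h2, h3⟩
            rcases h3.lt_or_eq with h3 | h3
            · exact Or.inr ⟨h2, h3⟩
            · exact Or.inl h3.symm
          · rintro (rfl | ⟨h2, h3⟩)
            · exact ⟨hT _ x hx hx', le_rfl⟩
            · exact ⟨h2, by omega⟩
        rw [e, Finset.card_insert_of_notMem (by simp), pow_succ',
          card_eq_relIndex_mul' (K := lv S (m + 1))]
        have h2 : (lv S (m + 1)).relIndex (K ⊓ lv S m) ≤ p := by
          rw [← relIndex_lv h h4 (i := m) (by omega)]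
          have := finite_of_le (lv_le S m)
          exact relIndex_le_of_le_right inf_le_right relIndex_pos.ne'
        rw [inf_left_comm, inf_eq_left.2 (lv_succ_le S m)]
        exact Nat.mul_le_mul h2 h1
      · have e : K ⊓ lv S m = K ⊓ lv S (m + 1) := le_antisymm
          (fun x hx' => ⟨hx'.1, by_contra fun e => hx ⟨x, hx'.1, hx'.2, e⟩⟩)
          (inf_le_inf_left _ (lv_succ_le S m))
        rw [e]
        refine h1.trans (Nat.pow_le_pow_right hp.out.pos (Finset.card_le_card fun a => ?_))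
        simp only [Finset.mem_filter]
        exact fun h2 => ⟨h2.1, by omega⟩
  have := key n 0 (by omega)
  rw [lv_zero, inf_eq_left.2 hK] at this
  exact this.trans (Nat.pow_le_pow_right hp.out.pos (Finset.card_filter_le _ _))

theorem Lev.comm_one (hy : Lev S 1 y) (hs : s ∈ S) (hs' : s ∉ gam S) : Lev S 2 ⁅y, s⁆ := by
  refine ⟨comm_mem_succ hy.1 hs, fun e => hs' ?_⟩
  have := h.mem_sup_of_comm hy.mem hy.2 hs (commutator_mem_comm e)
  exact (hy.sup_eq h h4).le this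

theorem Lev.comm_unif (hy : Lev S i y) (hs : Unif S n s) (hi : 1 ≤ i) (hn : i + 2 ≤ n) :
    Lev S (i + 1) ⁅y, s⁆ := by
  rcases hi.eq_or_lt with rfl | hi
  · exact hy.comm_one h h4 hs.mem (h.not_mem_gam h4 hs)
  obtain ⟨h1, h2⟩ := (lev_iff hi).1 hy
  refine ⟨comm_mem_succ hy.1 hs.mem, fun e => h2 (hs.step _ (by omega) (by omega) y h1 ?_)⟩
  rwa [lv_succ (by omega), show i + 1 = i - 1 + 2 by omega] at e

theorem pow_mem_add (hs : Unif S n s) (hi : 2 ≤ i) (hx : x ∈ lv S i) :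
    x ^ p ∈ lv S (i + (p - 1)) := by
  rw [lv_of_two hi] at hx
  rw [lv_of_two (by omega), show i + (p - 1) - 1 = i - 1 + (p - 1) by omega]
  exact h.pow_mem hs (by omega) hx

theorem pow_eq_one_of_le (hs : Unif S n s) (hi : 2 ≤ i) (hn : n + 1 ≤ i + p) (hx : x ∈ lv S i) :
    x ^ p = 1 :=
  eq_one_of_mem h h4 (by omega) (pow_mem_add h h4 hs hi hx)

theorem Lev.pow_ne_one (hx : Lev S i x) (hs : Unif S n s) (hi : 2 ≤ i) (hn : i + p ≤ n) :
    x ^ p ≠ 1 := fun e => by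
  obtain ⟨h1, h2⟩ := (lev_iff hi).1 hx
  have := hp.out.pos
  exact h.pow_not_mem hs (by omega) h1 h2 (by omega) (e ▸ one_mem _)

theorem two_le_cst : lv S 2 ≤ cst S (n - 3) := by
  rw [cst_eq h h4]
  exact le_inf (lv_le S 2) fun x hx => mem_cent.2 fun y hy =>
    commute_of_le h h4 (by omega) (by omega) (by omega) hy hx

theorem ne_iff : NE S n ↔ gam S ≤ 𝒞(lv S (n - 2)) := by
  refine ⟨fun e => (e.trans (cst_eq h h4)).le.trans inf_le_right, fun e => ?_⟩
  exact ((eq_or_eq_of_relIndex_prime hp.out (h.relIndex_gam h4)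
    (by rw [cst_eq h h4]; exact le_inf (lv_le S 1) e) (h.cst_lt (by omega)).le).resolve_right
    (h.cst_lt (by omega)).ne).symm

theorem gam_inf_cst (hne : ¬ NE S n) : gam S ⊓ cst S (n - 3) = lv S 2 := by
  refine (eq_or_eq_of_relIndex_prime hp.out (relIndex_lv h h4 (i := 1) (by omega))
    (le_inf (lv_succ_le S 1) (two_le_cst h h4)) inf_le_left).resolve_right fun e => hne ?_
  rw [ne_iff h h4]
  exact (e.ge.trans inf_le_right).trans (by rw [cst_eq h h4]; exact inf_le_right)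

theorem gam_comm (ha : x ∈ gam S) (hb : y ∈ gam S) : ⁅x, y⁆ ∈ lv S 4 := h.commutator_gam h4 ha hb

end MaxCl

namespace M5

variable (h : M5 p S n)
include h

theorem exists_unif : ∃ s, Unif S n s := h.mc.exists_unif h.h5 h.h4 fun k h1 h2 =>
  h.mc.twoStep h.h5 k h1 (by omega)

theorem unif (hs : s ∈ S) (h1 : s ∉ gam S) (h2 : s ∉ cst S (n - 3)) : Unif S n s := by
  refine ⟨hs, fun e => h1 (MaxCl.one_le_gam e), fun k hk hn y hy h3 => ?_⟩
  rcases (show k + 4 ≤ n ∨ k = n - 3 by omega) with h5 | rfl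
  · exact h.mc.step_gam h.h5 hs h1 hk h5 hy h3
  · exact h.mc.step_of_not_mem hk hs h2 hy h3

theorem unif_of_ne (hne : NE S n) (hs : s ∈ S) (h1 : s ∉ gam S) : Unif S n s :=
  h.unif hs h1 (hne ▸ h1)

theorem step (hy : Lev S i y) (hs : s ∈ S) (hs' : s ∉ gam S) (hi : 1 ≤ i)
    (hn : i + 3 ≤ n ∨ (NE S n ∧ i + 2 ≤ n)) : Lev S (i + 1) ⁅y, s⁆ := by
  rcases hn with hn | ⟨hne, hn⟩
  · rcases hi.eq_or_lt with rfl | hi
    · exact hy.comm_one h.mc h.h4 hs hs'
    obtain ⟨h1, h2⟩ := (lev_iff hi).1 hy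
    refine ⟨comm_mem_succ hy.1 hs, fun e => h2 (h.mc.step_gam h.h5 hs hs' (by omega) (by omega) h1 ?_)⟩
    rwa [lv_succ (by omega), show i + 1 = i - 1 + 2 by omega] at e
  · exact hy.comm_unif h.mc h.h4 (h.unif_of_ne hne hs hs') hi hn

theorem comm_gam (hi : 1 ≤ i) (hn : i + 3 ≤ n ∨ NE S n) (hx : x ∈ lv S i) (hy : y ∈ gam S) :
    ⁅x, y⁆ ∈ lv S (i + 2) := by
  have h4 := h.h4
  rcases hi.eq_or_lt with rfl | hi
  · exact lv_succ_le S 3 (gam_comm h.mc h4 hx hy)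
  by_cases h1 : i + 3 ≤ n
  · rw [lv_of_two hi] at hx
    rw [lv_of_two (by omega), show i + 2 - 1 = i - 1 + 2 by omega]
    exact h.mc.twoStep h.h5 _ (by omega) (by omega) x hx y hy
  · exact commutator_mem_of_comm _ (mem_cent.1 ((ne_iff h.mc h4).1 (hn.resolve_left h1) hy) x
      (lv_anti S (by omega) hx))

theorem comm_mem_add_succ (hi : 1 ≤ i) (hj : 1 ≤ j) (hn : i + j + 2 ≤ n ∨ NE S n)
    (hx : x ∈ lv S i) (hy : y ∈ lv S j) : ⁅x, y⁆ ∈ lv S (i + j + 1) := by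
  suffices H : ∀ j i, 1 ≤ i → (i + (j + 1) + 2 ≤ n ∨ NE S n) →
      ⁅lv S i, lv S (j + 1)⁆ ≤ lv S (i + (j + 1) + 1) by
    obtain ⟨j, rfl⟩ := Nat.exists_eq_add_of_le' hj
    exact H j i hi hn (commutator_mem_commutator hx hy)
  intro j
  induction j with
  | zero => exact fun i hi hn => commutator_le.2 fun a ha b hb => h.comm_gam hi hn ha hb
  | succ j ih =>
    intro i hi hn
    have e : lv S (j + 1 + 1) ≤ ⁅lv S (j + 1), S⁆ := by
      rcases Nat.eq_zero_or_pos j with rfl | hj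
      · obtain ⟨u, hu⟩ := exists_lev_of_lt h.mc h.h4 (i := 1) (by have := h.h4; omega)
        obtain ⟨s, hs⟩ := h.exists_unif
        have h1 := hu.comm_one h.mc h.h4 hs.mem (h.mc.not_mem_gam h.h4 hs)
        exact le_of_normal h.mc h.h4 (H1.le_normalizer_commutator (lv_norm S 1) le_normalizer)
          (by omega) (commutator_mem_commutator hu.1 hs.mem) h1
      · rw [lv_succ (by omega), lv_succ hj]; exact le_rfl
    refine (commutator_mono le_rfl e).trans ?_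
    rw [Subgroup.commutator_comm]
    have hK := lv_norm S (i + (j + 1 + 1) + 1)
    refine three_subgroup ((lv_le S _).trans hK) hK ((lv_le S _).trans hK) ?_ ?_
    · have h1 : ⁅S, lv S i⁆ ≤ lv S (i + 1) := commutator_le.2 fun a ha b hb => comm_mem_succ' ha hb
      refine (commutator_mono h1 le_rfl).trans ((ih (i + 1) (by omega) (hn.imp_left (by omega))).trans ?_)
      exact lv_anti S (by omega)
    · refine (commutator_mono (ih i hi (hn.imp_left (by omega))) le_rfl).trans ?_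
      exact commutator_le.2 fun a ha b hb => comm_mem_succ ha hb

/-- Exceptional groups: the levels `i` and `n - 1 - i` are paired. -/
theorem exc (hne : ¬ NE S n) : Even n ∧ 6 ≤ n ∧ n < p + 4 ∧ ∀ i j, 1 ≤ i → 1 ≤ j → i + j + 1 = n →
    ∀ x y, Lev S i x → Lev S j y → ⁅x, y⁆ ≠ 1 := by
  have h4 := h.h4
  have hm := h.mc
  obtain ⟨t, ht, ht'⟩ := SetLike.not_le_iff_exists.1 (mt (ne_iff hm h4).2 hne)
  obtain ⟨y, hy, hy'⟩ : ∃ y ∈ lv S (n - 2), ⁅y, t⁆ ≠ 1 := by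
    by_contra! hc
    exact ht' (mem_cent.2 fun y hy => commutatorElement_eq_one_iff_mul_comm.1 (hc y hy))
  obtain ⟨h1, h2, h3⟩ := hm.exc h.h5 h4 (hm.twoStep h.h5)
    (by rwa [lv_of_two (by omega)] at hy) ht hy'
  have h6 : 6 ≤ n := by
    by_contra h6
    obtain rfl : n = 4 := by obtain ⟨m, hm⟩ := h1; omega
    exact hy' (eq_one_of_mem hm h4 le_rfl (gam_comm hm h4 (lv_le_gam (by omega) hy) ht))
  have k1 : ∀ x y, Lev S 1 x → Lev S (n - 2) y → ⁅x, y⁆ ≠ 1 := fun x y hx hy e => hne (by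
    rw [ne_iff hm h4, ← lv_one, ← hx.sup_eq hm h4]
    refine sup_le ((two_le_cst hm h4).trans (by rw [cst_eq hm h4]; exact inf_le_right))
      (zpowers_le.2 (mem_cent.2 fun v hv => ?_))
    refine mul_comm_of_sup_zpowers (hy.sup_eq hm h4) (fun b hb => ?_)
      (commutatorElement_eq_one_iff_mul_comm.1 e).symm hv
    exact (commute_center hm h4 (by rwa [show n - 1 = n - 2 + 1 by omega]) hx.mem).symm)
  refine ⟨h1, h6, h2, fun i j hi hj hn x y hx hy => ?_⟩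
  rcases hi.eq_or_lt with rfl | hi
  · exact k1 x y hx (by rwa [show n - 2 = j by omega])
  rcases hj.eq_or_lt with rfl | hj
  · intro e
    exact k1 y x hy (by rwa [show n - 2 = i by omega]) (by simpa using congrArg (·⁻¹) e)
  obtain ⟨a1, a2⟩ := (lev_iff hi).1 hx
  obtain ⟨b1, b2⟩ := (lev_iff hj).1 hy
  exact fun e => h3 _ _ (by omega) (by omega) (by omega) x a1 a2 y b1 b2
    (commutatorElement_eq_one_iff_mul_comm.1 e)

/-- A subgroup of `γ₁` containing the centre and normalized by an element outside is normal. -/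
theorem normal_of_mem {E : Subgroup G} (hE : E ≤ gam S) (hZ : lv S (n - 1) ≤ E) (hs : s ∈ S)
    (hs' : s ∉ gam S) (hn : s ∈ 𝒩(E)) : S ≤ 𝒩(E) := by
  have h4 := h.h4
  have hm := h.mc
  obtain ⟨i, hi, h1, h2⟩ := exists_min_level hm h4 (hE.trans (lv_le S 1))
  suffices H : lv S i ≤ E by rw [le_antisymm h1 H]; exact lv_norm S i
  by_cases hi' : n - 1 ≤ i
  · exact (lv_anti S hi').trans hZ
  obtain ⟨x, hx, hx'⟩ := h2 (by omega)
  have h3 : 1 ≤ i := hx'.le_of_mem (hE hx)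
  have key : ∀ m, i ≤ m → m + 2 ≤ n → ∃ y ∈ E, Lev S m y := fun m hm' => by
    induction hm' with
    | refl => exact fun _ => ⟨x, hx, hx'⟩
    | step hle ih =>
      intro h5
      obtain ⟨y, hy, hy'⟩ := ih (by omega)
      refine ⟨_, ?_, h.step hy' hs hs' (h3.trans hle) (Or.inl h5)⟩
      simpa [commutatorElement_def, mul_assoc] using
        mul_mem hy (H9.conj_mem_of_mem_normalizer hn (inv_mem hy))
  refine lv_le_of_levels hm h4 fun m h5 h6 => ?_
  by_cases h7 : m + 2 ≤ n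
  · exact key m h5 h7
  · obtain ⟨z, hz⟩ := exists_lev_of_lt hm h4 h6
    exact ⟨z, hZ (lv_anti S (by omega) hz.1), hz⟩

end M5

end Levels

end Cfsg.Agent.MX
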