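import Cfsg.Agent.Lib.MX.Loc
import Cfsg.Agent.Lib.MX.D
import Cfsg.Agent.Lib.MX.Om

/-!
# S5267: the exceptional case (see notes/MX.md)
-/

set_option autoImplicit false
set_option linter.unusedSectionVars false
set_option linter.unusedVariables false

namespace Cfsg.Agent.MX

open Subgroup Cfsg.Agent.H9 Cfsg.Agent.FT Cfsg.FusionSystem
open Cfsg.Agent.EX (pw PAct NC)
open scoped commutatorElement

universe u

variable {G : Type u} [Group G] [Finite G] {p : ℕ} [hp : Fact p.Prime] {S E Γ Δ : Subgroup G}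
  {n k : ℕ}

theorem mem_norm_of_comm {A : Subgroup G} {a : G} (h : ∀ r ∈ A, ⁅a, r⁆ ∈ A) : a ∈ 𝒩(A) :=
  mem_normalizer_of_conj_mem fun r hr => by simpa [commutatorElement_def] using mul_mem (h r hr) hr

theorem pAct_pair {A B : Subgroup G} (hA : IsPGroup p A) (hBA : B ≤ A) (hAE : A ≤ E) {a b : G}
    (a1 : ∀ r ∈ E, ⁅a, r⁆ ∈ A) (b1 : ∀ r ∈ E, ⁅b, r⁆ ∈ A) (a2 : ∀ r ∈ A, ⁅a, r⁆ ∈ B)
    (b2 : ∀ r ∈ A, ⁅b, r⁆ ∈ B) (a3 : a ∈ 𝒞(B)) (b3 : b ∈ 𝒞(B)) :
    PAct p (closure ({a, b} : Set G)) E := by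
  have hC : closure ({a, b} : Set G) ≤ 𝒞(B) := (closure_le _).2 (by rintro _ (rfl | rfl) <;> assumption)
  have ha := mem_norm_of_comm fun r hr => a1 r (hAE hr)
  have hb := mem_norm_of_comm fun r hr => b1 r (hAE hr)
  exact ((EX.pAct_of_le_cent hC).step (hA.to_le hBA) (hC.trans cent_le_norm)
    (EX.closure_pair_comm (cent_le_norm a3) (cent_le_norm b3) a2 b2)).step hA
    ((closure_le _).2 (by rintro _ (rfl | rfl) <;> assumption)) (EX.closure_pair_comm ha hb a1 b1)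

theorem conj_comm (g a b : G) : ⁅g⁻¹ * a * g, b⁆ = g⁻¹ * ⁅a, g * b * g⁻¹⁆ * g := by
  simp only [commutatorElement_def]; group

theorem cent_zpowers {a b : G} (h : Commute b a) : a ∈ 𝒞(zpowers b) := mem_cent.2 (by
  rintro _ ⟨i, rfl⟩; exact h.zpow_left i)

/-- The configuration of two opposite transvections. -/
structure Opp (n k l : ℕ) (S E Γ : Subgroup G) (t g z : G) : Prop where
  top : Top n S E k
  lt : Lev S k t
  hg : g ∈ Γ
  hz : z ∈ lv S (n - 1)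
  ne : ⁅t, g⁻¹ * z * g⁆ ≠ 1
  ly : Lev S l (g⁻¹ * z * g)
  sum : l + k + 1 = n
  le : E ≤ lv S l

namespace Loc

variable (h : Loc p n S E Γ Δ)
include h

theorem conj_E {g x : G} (hg : g ∈ Γ) (hx : x ∈ E) : g⁻¹ * x * g ∈ E :=
  H9.conj_mem_of_mem_normalizer' (h.ΓN hg) hx

theorem conj_Om {g z : G} (hg : g ∈ Γ) (hz : z ∈ lv S (n - 1)) : g⁻¹ * z * g ∈ Om p E :=
  H9.conj_mem_of_mem_normalizer' (norm_le_norm_Om (h.ΓN hg)) ⟨h.Z_le hz, mem_cent.2 fun x hx =>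
    commute_center h.mc h.h4 hz (h.le_S hx), center_pow h.mc h.h4 hz⟩

theorem conj_Z {g z w : G} (hz : z ∈ lv S (n - 1)) (h1 : z ≠ 1) (hw : w ∈ lv S (n - 1)) :
    g⁻¹ * w * g ∈ zpowers (g⁻¹ * z * g) := by
  have := zpowers_eq_of_card_prime hp.out ((card_lv h.mc h.h4 (i := n - 1) (by omega)).trans (by
    rw [show n - (n - 1) = 1 by have := h.h4; omega, pow_one])) hz h1
  obtain ⟨i, rfl⟩ := this.ge hw
  exact ⟨i, by simpa using (conj_zpow (a := g⁻¹) (b := z) (i := i))⟩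

theorem eq_one_of_lev {l : ℕ} {y w : G} (hy : Lev S l y) (hyp : y ^ p = 1) (hw : w ∈ zpowers y)
    (hw' : w ∈ lv S (l + 1)) : w = 1 := by
  obtain ⟨i, rfl⟩ := hw
  exact (zpow_eq_one_iff_dvd_of_prime hy.ne_one hyp).2 ((hy.zpow_mem_iff h.mc h.h4).1 hw')

theorem exists_opp (hne : ¬ NE S n) (hr : ¬ RC n S E Γ) : ∃ k l t g z, Opp n k l S E Γ t g z := by
  have hm := h.mc
  have h4 := h.h4
  obtain ⟨-, h6, -, hpair⟩ := h.m5.exc hne
  obtain ⟨k, hk⟩ := h.exists_top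
  have hk2 := hk.two
  have hkn := hk.le
  obtain ⟨t, ht⟩ := exists_lev_of_lt hm h4 (i := k) (by omega)
  obtain ⟨g, hg, hgt⟩ := h.exists_not_cent hr (h.top_mem hk ht.1) (h.top_not_mem hk ht)
  obtain ⟨z, hz, hty⟩ : ∃ z ∈ lv S (n - 1), ⁅t, g⁻¹ * z * g⁆ ≠ 1 := by
    by_contra! hc
    refine hgt (mem_cent.2 fun z hz => ?_)
    have := commutatorElement_eq_one_iff_mul_comm.1 (hc z hz)
    calc z * (g * t * g⁻¹) = g * (g⁻¹ * z * g * t) * g⁻¹ := by group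
      _ = _ := by rw [← this]; group
  have hz1 : z ≠ 1 := fun e => hty (by simp [e])
  have hy := h.conj_Om hg hz
  have hlev : ∀ x ∈ E, x ≠ 1 → ∃ a, 1 ≤ a ∧ a < n ∧ Lev S a x := fun x hx h1 => by
    obtain ⟨a, h2, h3⟩ := exists_lev hm h4 (h.le_S hx) h1
    exact ⟨a, h3.le_of_mem (h.le hx), h2, h3⟩
  have hpart : ∀ a, 1 ≤ a → a + k + 2 ≤ n → ∀ x, Lev S a x →
      ∃ u ∈ E, ⁅x, u⁆ ≠ 1 ∧ u ∈ lv S (n - 1 - a) := fun a h1 h2 x hx => by
    obtain ⟨u, hu⟩ := exists_lev_of_lt hm h4 (i := n - 1 - a) (by omega)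
    exact ⟨u, hk.succ (lv_anti S (by omega) hu.1), hpair a _ h1 (by omega) (by omega) x u hx hu, hu.1⟩
  obtain ⟨l, hl1, -, hl⟩ := hlev _ hy.1 fun e => hty (by simp [e])
  have hkl : k + l < n := not_le.1 fun e => hty (commutatorElement_eq_one_iff_commute.2
    (commute_of_le hm h4 (by omega) hl1 e ht.1 hl.1))
  have hsum : l + k + 1 = n := by
    by_contra e
    obtain ⟨u, hu, h1, -⟩ := hpart l hl1 (by omega) _ hl
    exact h1 (commutatorElement_eq_one_iff_mul_comm.2 (mem_cent.1 hy.2.1 u hu).symm)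
  refine ⟨k, l, t, g, z, hk, ht, hg, hz, hty, hl, hsum, ?_⟩
  obtain ⟨i, hi, h1, h2⟩ := exists_min_level hm h4 h.le_S
  by_contra h3
  have hil : i < l := not_le.1 fun e => h3 (h1.trans (lv_anti S e))
  obtain ⟨r, hr, hr'⟩ := h2 (by omega)
  have hi1 : 1 ≤ i := hr'.le_of_mem (h.le hr)
  obtain ⟨v, hv, k1, k2⟩ := hpart i hi1 (by omega) r hr'
  have k3 : ∀ x ∈ E, ⁅g⁻¹ * v * g, x⁆ ∈ zpowers (g⁻¹ * z * g) := fun x hx => by
    rw [conj_comm]
    exact h.conj_Z hz hz1 (lv_anti S (by omega) (comm_mem_add hm h4 (by omega) hi1 k2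
      (h1 (H9.conj_mem_of_mem_normalizer (h.ΓN hg) hx))))
  have k4 : ⁅g⁻¹ * v * g, g⁻¹ * r * g⁆ ≠ 1 := fun e => k1 (by
    rw [conj_comm, show g * (g⁻¹ * r * g) * g⁻¹ = r by group] at e
    have : ⁅v, r⁆ = 1 := by simpa [mul_assoc] using congrArg (fun x => g * x * g⁻¹) e
    simpa using congrArg (·⁻¹) this)
  obtain ⟨a, ha1, -, ha⟩ := hlev _ (h.conj_E hg hv) fun e => k4 (by rw [e]; simp)
  have hal : a < l := not_le.1 fun e => k4 (h.eq_one_of_lev hl hy.2.2 (k3 _ (h.conj_E hg hr))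
    (lv_anti S (by omega) (comm_mem_succ ha.1 (h.le_S (h.conj_E hg hr)))))
  obtain ⟨u, hu, k5, k6⟩ := hpart a ha1 (by omega) _ ha
  exact k5 (h.eq_one_of_lev hl hy.2.2 (k3 u hu)
    (lv_anti S (by omega) (comm_mem_add hm h4 ha1 (by omega) ha.1 k6)))

variable {l : ℕ} {t g z : G} (o : Opp n k l S E Γ t g z)
include o

theorem opp_z : z ≠ 1 := fun e => o.ne (by simp [e])

theorem opp_l : 1 ≤ l := o.ly.le_of_mem (h.le (h.conj_Om o.hg o.hz).1)

theorem opp_t {x : G} (hx : x ∈ E) : ⁅t, x⁆ ∈ lv S (n - 1) :=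
  lv_anti S (by have := o.sum; omega)
    (comm_mem_add h.mc h.h4 (by have := o.top.two; omega) (h.opp_l o) o.lt.1 (o.le hx))

theorem opp_t' {x : G} (hx : x ∈ E) : ⁅g⁻¹ * t * g, x⁆ ∈ zpowers (g⁻¹ * z * g) := by
  rw [conj_comm]
  exact h.conj_Z o.hz (h.opp_z o) (h.opp_t o (H9.conj_mem_of_mem_normalizer (h.ΓN o.hg) hx))

theorem opp_mem : g⁻¹ * t * g ∈ Γ :=
  mul_mem (mul_mem (inv_mem o.hg) (h.NΓ (h.top_mem o.top o.lt.1))) o.hg

theorem opp_not_mem : g⁻¹ * t * g ∉ NC S E := fun e => o.ne (by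
  have h1 := h.ti (inv_mem o.hg) (h.top_mem o.top o.lt.1) (h.top_not_mem o.top o.lt) (by simpa using e)
  have h2 := mem_cent.1 (h.NC_le (H9.conj_mem_of_mem_normalizer' h1
    (mem_NC_of_mem (h.top_mem o.top o.lt.1)))) z o.hz
  refine commutatorElement_eq_one_iff_mul_comm.2 ?_
  calc t * (g⁻¹ * z * g) = g⁻¹ * (g⁻¹⁻¹ * t * g⁻¹ * z) * g := by group
    _ = _ := by rw [← h2]; group)

theorem opp_A : lv S (n - 1) ⊔ zpowers (g⁻¹ * z * g) ≤ Om p E :=
  sup_le (fun w hw => by simpa using h.conj_Om (one_mem _) hw) (zpowers_le.2 (h.conj_Om o.hg o.hz))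

theorem opp_comm : Commute (g⁻¹ * z * g) (g⁻¹ * t * g) := by
  have := commute_center h.mc h.h4 o.hz o.lt.mem
  calc g⁻¹ * z * g * (g⁻¹ * t * g) = g⁻¹ * (z * t) * g := by group
    _ = _ := by rw [← this]; group

theorem opp_move : ⁅g⁻¹ * t * g, z⁆ ≠ 1 := fun e => by
  have hZ : g⁻¹ * t * g ∈ 𝒞(lv S (n - 1)) := by
    rw [← zpowers_eq_of_card_prime hp.out ((card_lv h.mc h.h4 (i := n - 1) (by omega)).trans (by
      rw [show n - (n - 1) = 1 by have := h.h4; omega, pow_one])) o.hz (h.opp_z o)]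
    exact cent_zpowers (commutatorElement_eq_one_iff_commute.1 e).symm
  have hAE := (h.opp_A o).trans Om_le
  refine h.opp_not_mem o (h.le_of_pAct ((closure_le _).2 ?_) (pAct_pair (h.pE.to_le hAE) le_sup_left
    hAE (fun r hr => mem_sup_left (h.opp_t o hr)) (fun r hr => mem_sup_right (h.opp_t' o hr))
    (fun r hr => h.opp_t o (hAE hr)) (fun r hr => commutator_mem_of_comm _ ?_)
    (le_cent_center h.mc h.h4 o.lt.mem) hZ) (h.top_mem o.top o.lt.1) (h.top_not_mem o.top o.lt)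
    (subset_closure (Or.inl rfl)) (subset_closure (Or.inr rfl)))
  · rintro _ (rfl | rfl)
    · exact h.NΓ (h.top_mem o.top o.lt.1)
    · exact h.opp_mem o
  · exact mul_comm_of_sup_zpowers rfl (fun b hb => mem_cent.1 hZ b hb) (h.opp_comm o) hr |>.symm

theorem opp_nonab (hne : ¬ NE S n) : ¬ ⁅gam S, gam S⁆ ≤ lv S (n - 1) := fun hQ => by
  have hm := h.mc
  have h4 := h.h4
  obtain ⟨-, h6, -, hpair⟩ := h.m5.exc hne
  have hk2 := o.top.two
  have hsum := o.sum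
  have hy := h.conj_Om o.hg o.hz
  have hAE := (h.opp_A o).trans Om_le
  have hc : ∀ {a b : G}, a ∈ gam S → b ∈ gam S → ⁅a, b⁆ ∈ lv S (n - 1) := fun ha hb =>
    hQ (commutator_mem_commutator ha hb)
  have k1 : ∀ x ∈ gam S, Commute (g⁻¹ * z * g) x → x ∈ E := fun x hx hxy => by_contra fun hxE => by
    have hxN : x ∈ S ⊓ 𝒩(E) := ⟨hx.1, mem_norm_of_comm fun r hr => h.Z_le (hc hx (h.le hr))⟩
    refine h.opp_not_mem o (h.le_of_pAct ((closure_le _).2 ?_) (pAct_pair (h.pE.to_le hAE)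
      le_sup_right hAE (fun r hr => mem_sup_left (hc hx (h.le hr)))
      (fun r hr => mem_sup_right (h.opp_t' o hr)) (fun r hr => commutator_mem_of_comm _ ?_)
      (fun r hr => h.opp_t' o (hAE hr)) (cent_zpowers hxy) (cent_zpowers (h.opp_comm o))) hxN hxE
      (subset_closure (Or.inl rfl)) (subset_closure (Or.inr rfl)))
    · rintro _ (rfl | rfl)
      · exact h.NΓ hxN
      · exact h.opp_mem o
    · exact mul_comm_of_sup_zpowers rfl (fun b hb => (commute_center hm h4 hb hx.1).symm) hxy hr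
        |>.symm
  have htQ : t ∈ gam S := lv_le_gam (by omega) o.lt.1
  have k2 : ∀ i, 1 ≤ i → i < k → ∃ x ∈ E, Lev S i x := fun i h1 h2 => by
    obtain ⟨u, hu⟩ := exists_lev_of_lt hm h4 (i := i) (by omega)
    have huQ := lv_le_gam h1 hu.1
    have k3 := hc htQ (h.le hy.1)
    obtain ⟨c, hc'⟩ := (zpowers_eq_of_card_prime hp.out ((card_lv hm h4 (i := n - 1) (by omega)).trans
      (by rw [show n - (n - 1) = 1 by omega, pow_one])) k3 o.ne).ge (inv_mem (hc huQ (h.le hy.1)))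
    refine ⟨u * t ^ c, k1 _ (mul_mem huQ (zpow_mem htQ c)) ?_,
      hu.mul (lv_anti S h2 (zpow_mem o.lt.1 c))⟩
    refine (commutatorElement_eq_one_iff_commute.1 ?_).symm
    rw [commutator_mul_left_of_commute (commute_center hm h4 (hc (zpow_mem htQ c) (h.le hy.1)) huQ.1),
      commutator_zpow_left_of_commute (commute_center hm h4 k3 htQ.1)]
    exact (congrArg (· * _) hc').trans (inv_mul_cancel _)
  obtain ⟨x, hx, hx'⟩ := k2 1 le_rfl (by omega)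
  have hl := hx'.le_of_mem (o.le hx)
  obtain ⟨a, ha, ha'⟩ := k2 2 (by omega) (by omega)
  obtain ⟨b, hb, hb'⟩ := k2 (n - 3) (by omega) (by omega)
  have k4 := h.eq_one_of_lev o.ly hy.2.2 (h.conj_Z o.hz (h.opp_z o) (hc (h.le ha) (h.le hb)))
    (lv_anti S (j := n - 1) (by omega) (by
      have := hc (h.le (h.conj_E o.hg ha)) (h.le (h.conj_E o.hg hb))
      rwa [conj_comm, show g * (g⁻¹ * b * g) * g⁻¹ = b by group] at this))
  exact hpair 2 _ (by omega) (by omega) (by omega) a b ha' hb'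
    (by simpa [mul_assoc] using congrArg (fun x => g * x * g⁻¹) k4)

theorem opp_tor {c : ZMod p} (hc : c ≠ 0) : ∃ m ∈ Δ, m * z * m⁻¹ = pw z c ∧
    ∀ r ∈ E, ⁅m, r⁆ ∈ lv S (n - 1) ⊔ zpowers (g⁻¹ * z * g) := by
  have hA := h.opp_A o
  have hAE := hA.trans Om_le
  obtain ⟨V, _, _, _, ⟨σ⟩⟩ := EX.exists_sec (p := p) (A := lv S (n - 1) ⊔ zpowers (g⁻¹ * z * g))
    (K := ⊥) (fun g _ => mem_norm_bot g)
    (fun a ha b hb => commutator_mem_of_comm _ (mem_cent.1 (hA hb).2.1 a (hA ha).1))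
    fun a ha => mem_bot.2 (hA ha).2.2
  have a1 : ∀ r ∈ E, ⁅t, r⁆ ∈ lv S (n - 1) ⊔ zpowers (g⁻¹ * z * g) := fun r hr =>
    mem_sup_left (h.opp_t o hr)
  have b1 : ∀ r ∈ E, ⁅g⁻¹ * t * g, r⁆ ∈ lv S (n - 1) ⊔ zpowers (g⁻¹ * z * g) := fun r hr =>
    mem_sup_right (h.opp_t' o hr)
  have ha := mem_norm_of_comm fun r hr => a1 r (hAE hr)
  have hb := mem_norm_of_comm fun r hr => b1 r (hAE hr)
  have hzA : z ∈ lv S (n - 1) ⊔ zpowers (g⁻¹ * z * g) := mem_sup_left o.hz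
  have hyA : g⁻¹ * z * g ∈ lv S (n - 1) ⊔ zpowers (g⁻¹ * z * g) := mem_sup_right (mem_zpowers _)
  have hZ := zpowers_eq_of_card_prime hp.out ((card_lv h.mc h.h4 (i := n - 1) (by omega)).trans (by
      rw [show n - (n - 1) = 1 by have := h.h4; omega, pow_one])) o.hz (h.opp_z o)
  obtain ⟨c₁, e₁⟩ := (EX.mem_zpowers_iff_pw (hA hzA).2.2).1 (hZ.ge (h.opp_t o (hAE hyA)))
  obtain ⟨c₂, e₂⟩ := (EX.mem_zpowers_iff_pw (hA hyA).2.2).1 (h.opp_t' o (hAE hzA))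
  obtain ⟨τ, hτ, k1, -⟩ := σ.sl2 ha (mem_norm_bot _) hb (mem_norm_bot _) (v := σ.π z)
    (v' := σ.π (g⁻¹ * z * g)) (c := c₁) (c' := c₂)
    (fun e => o.ne (by rw [e₁, e, EX.pw_zero])) (fun e => h.opp_move o (by rw [e₂, e, EX.pw_zero]))
    (by rw [σ.ρ_π _ ha (mem_norm_bot _) _ hzA, commute_center h.mc h.h4 o.hz o.lt.mem,
      mul_inv_cancel_right])
    (by rw [← σ.π_pw hzA, ← e₁, σ.π_comm ha (mem_norm_bot _) hyA, add_sub_cancel])
    (by rw [σ.ρ_π _ hb (mem_norm_bot _) _ hyA, ← (h.opp_comm o).eq, mul_inv_cancel_right])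
    (by rw [← σ.π_pw hyA, ← e₂, σ.π_comm hb (mem_norm_bot _) hzA, add_sub_cancel])
    (inv_ne_zero hc)
  have htN := h.top_mem o.top o.lt.1
  have hτΓ : τ ∈ Γ := (closure_le _).2 (by
    rintro _ (rfl | rfl)
    · exact h.NΓ htN
    · exact h.opp_mem o) hτ
  have hτA : τ ∈ 𝒩(lv S (n - 1) ⊔ zpowers (g⁻¹ * z * g)) :=
    (closure_le _).2 (by rintro _ (rfl | rfl) <;> assumption) hτ
  have k2 : τ * z * τ⁻¹ = pw z c := by
    rw [inv_inv, σ.ρ_π _ hτA (mem_norm_bot _) _ hzA, ← σ.π_pw hzA] at k1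
    exact sec_inj σ (H9.conj_mem_of_mem_normalizer hτA hzA) (EX.pw_mem hzA c) k1
  have hτZ : τ ∈ 𝒩(lv S (n - 1)) := mem_normalizer_of_conj_mem fun w hw => by
    obtain ⟨i, rfl⟩ := hZ.ge hw
    show τ * z ^ i * τ⁻¹ ∈ _
    rw [← conj_zpow, k2]
    exact zpow_mem (EX.pw_mem o.hz c) i
  have htC := le_cent_center h.mc h.h4 o.lt.mem
  have k3 : ∀ r ∈ E, ⁅τ * t * τ⁻¹, r⁆ ∈ lv S (n - 1) := fun r hr => by
    have := H9.conj_mem_of_mem_normalizer hτZ (h.opp_t o (h.conj_E hτΓ hr))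
    convert this using 1
    simp only [commutatorElement_def]; group
  have k4 : τ * t * τ⁻¹ ∈ NC S E := h.le_of_pAct ((closure_le _).2 (by
      rintro _ (rfl | rfl)
      · exact h.NΓ htN
      · exact mul_mem (mul_mem hτΓ (h.NΓ htN)) (inv_mem hτΓ)))
    (pAct_pair (h.pE.to_le h.Z_le) le_rfl h.Z_le (fun r hr => h.opp_t o hr) k3
      (fun r hr => h.opp_t o (h.Z_le hr)) (fun r hr => k3 r (h.Z_le hr)) htC
      (H9.conj_mem_of_mem_normalizer (H1.le_normalizer_centralizer le_rfl hτZ) htC))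
    htN (h.top_not_mem o.top o.lt) (subset_closure (Or.inl rfl)) (subset_closure (Or.inr rfl))
  obtain ⟨m, hm, em⟩ := h.ext τ hτΓ t htN (h.top_not_mem o.top o.lt) k4
  refine ⟨m, hm, by rw [← em z (h.Z_le o.hz), k2], fun r hr => ?_⟩
  rw [commutatorElement_def, ← em r hr]
  exact EX.closure_pair_comm ha hb a1 b1 τ hτ r hr

end Loc

theorem Loc.rc_of_exc (h : Loc p n S E Γ Δ) (hne : ¬ NE S n) : RC n S E Γ := by
  classical
  by_contra hr
  have hm0 := h.mc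
  have h4 := h.h4
  have h5 := h.m5
  obtain ⟨-, h6, hnp, -⟩ := h5.exc hne
  obtain ⟨k, l, t, g, z, o⟩ := h.exists_opp hne hr
  obtain ⟨c, hc⟩ := exists_gen p
  obtain ⟨m, hmΔ, e1, e2⟩ := h.opp_tor o (gen_ne_zero hc)
  have hsum := o.sum
  have hl1 := h.opp_l o
  have hw : Wt S m (n - 1) c := fwt_of_lev hm0 h4 (isHomOn_conj _ m)
    (fun y hy => by rw [eq_one_of_mem hm0 h4 (by omega) hy]; simp)
    (lev_center hm0 h4 o.hz (h.opp_z o)) (by rw [e1, inv_mul_cancel]; exact one_mem _)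
  obtain ⟨hm', hgen⟩ := h.toDCtx.norm_of_exc hne (h.opp_nonab o hne) hmΔ hc hw
  have hm := h.ΔN hmΔ
  obtain ⟨a, -, ha⟩ := h5.exists_lam hm hm'
  have k1 : ∀ i, l < i → i + 2 ≤ n → ∀ x ∈ E, Lev S i x → Wt S m i (1 : ZMod p) :=
    fun i h1 h2 x hx hx' => by
    refine h5.wt_of_lev hm hm' (by omega) hx' ?_
    obtain ⟨w, hw, j, e⟩ := (mem_sup_zpowers (lv_norm S _ o.ly.mem)).1 (e2 x hx)
    have k2 : ⁅m, x⁆ ∈ lv S i := by
      simpa [commutatorElement_def] using mul_mem (h5.conj_mem hm hm' (by omega) hx'.1) (inv_mem hx'.1)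
    have k3 := h.eq_one_of_lev o.ly (h.conj_Om o.hg o.hz).2.2 (zpow_mem_zpowers _ j)
      ((mul_mem_cancel_left (lv_anti S (by omega) hw)).1 (lv_anti S h1 (e ▸ k2)))
    rw [k3, mul_one] at e
    have := H9.conj_mem_of_mem_normalizer' (lv_norm S (i + 1) hx'.mem) (lv_anti S (by omega) (e ▸ hw))
    simpa [EX.pw_one, commutatorElement_def, mul_assoc] using this
  have k2 : ∀ i j, l < i → i < j → j + 2 ≤ n → ∀ x ∈ E, Lev S i x → ∀ y ∈ E, ¬ Lev S j y :=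
    fun i j h1 h2 h3 x hx hx' y hy hy' => by
    have k3 := h5.wt_add hm hm' ha (by omega) (j := j - i) (Or.inl (by omega))
      (k1 i h1 (by omega) x hx hx')
    rw [show i + (j - i) = j by omega, mul_one] at k3
    have k4 := gen_le (hgen a ha) (by omega)
      (h5.wt_uniq hm hm' k3 (k1 j (by omega) h3 y hy hy') (by omega))
    obtain rfl : j = k := by omega
    exact h.top_not_mem o.top hy' hy
  obtain ⟨i₀, hi₀⟩ : ∃ i₀, ∀ i, l < i → i + 2 ≤ n → ∀ x ∈ E, Lev S i x → i = i₀ := by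
    by_cases hex : ∃ i, l < i ∧ i + 2 ≤ n ∧ ∃ x ∈ E, Lev S i x
    · obtain ⟨i, h1, h2, x, hx, hx'⟩ := hex
      refine ⟨i, fun j h3 h7 y hy hy' => ?_⟩
      rcases lt_trichotomy i j with e | e | e
      · exact absurd hy' (k2 i j h1 e h7 x hx hx' y hy)
      · exact e.symm
      · exact absurd hx' (k2 j i h3 e h2 y hy hy' x hx)
    · exact ⟨0, fun i h1 h2 x hx hx' => absurd ⟨i, h1, h2, x, hx, hx'⟩ hex⟩
  have k3 := card_le_of_levels hm0 h4 h.le_S {l, n - 1, i₀} fun i x hx hx' => by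
    have h1 := hx'.le_of_mem (o.le hx)
    have h2 := hx'.lt hm0 h4
    simp only [Finset.mem_insert, Finset.mem_singleton]
    by_cases h3 : l < i ∧ i + 2 ≤ n
    · exact Or.inr (Or.inr (hi₀ i h3.1 h3.2 x hx hx'))
    · omega
  have k4 := (h.big hne).trans (k3.trans (Nat.pow_le_pow_right hp.out.pos Finset.card_le_three))
  rw [Nat.pow_le_pow_iff_right hp.out.one_lt] at k4
  omega

end Cfsg.Agent.MX
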