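import Cfsg.Agent.Lib.MX.Defs

/-!
# S5267: basic facts on the local configuration (see notes/MX.md)
-/

set_option autoImplicit false
set_option linter.unusedSectionVars false
set_option linter.unusedVariables false

namespace Cfsg.Agent.MX

open Subgroup Cfsg.Agent.H9 Cfsg.Agent.FT
open Cfsg.Agent.EX (pw PAct NC)
open scoped commutatorElement

universe u

variable {G : Type u} [Group G] [Finite G] {p : ℕ} [hp : Fact p.Prime] {S E Γ Δ K X : Subgroup G}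
  {n k : ℕ} {g x t : G}

theorem NC_le_norm : NC S E ≤ 𝒩(E) := sup_le inf_le_right cent_le_norm

theorem mem_NC_of_mem (hx : x ∈ S ⊓ 𝒩(E)) : x ∈ NC S E := mem_sup_left hx

theorem pAct_of_isPGroup (hX : IsPGroup p X) : PAct p X E := fun x hx => by
  obtain ⟨k, hk⟩ := H9.exists_pow_eq_one hX hx
  exact ⟨k, hk ▸ one_mem _⟩

theorem pAct_zpowers {k : ℕ} (hx : x ^ p ^ k ∈ 𝒞(E)) : PAct p (zpowers x) E := by
  rintro _ ⟨i, rfl⟩
  refine ⟨k, ?_⟩
  rw [← zpow_natCast, ← zpow_mul, mul_comm, zpow_mul, zpow_natCast]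
  exact zpow_mem hx i

theorem pAct_zpowers_conj (hS : IsPGroup p S) (hx : x ∈ S) (g : G) :
    PAct p (zpowers (g * x * g⁻¹)) E := by
  obtain ⟨k, hk⟩ := H9.exists_pow_eq_one hS hx
  exact pAct_zpowers (k := k) (by rw [conj_pow, hk]; simp)

namespace Loc

variable (h : Loc p n S E Γ Δ)
include h

theorem m5 : M5 p S n := h.toDCtx.toM5

theorem le_S : E ≤ S := h.le.trans MaxCl.gam_le

theorem pE : IsPGroup p E := h.mc.hS.to_le h.le_S

theorem E_le_N : E ≤ S ⊓ 𝒩(E) := le_inf h.le_S le_normalizer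

theorem Z_le : lv S (n - 1) ≤ E := fun z hz =>
  h.cen ⟨lv_le S _ hz, mem_cent.2 fun x hx => commute_center h.mc h.h4 hz (h.le_S hx)⟩

theorem N_le : S ⊓ 𝒩(E) ≤ gam S := fun x hx =>
  by_contra fun e => h.nn (h.m5.normal_of_mem h.le h.Z_le hx.1 e hx.2)

theorem not_gam_le : ¬ gam S ≤ E := fun e => h.nn (le_antisymm h.le e ▸ lv_norm S 1)

theorem mem_of_cent_gam (hx : x ∈ S) (hc : x ∈ 𝒞(gam S)) : x ∈ E :=
  h.cen ⟨hx, cent_le_cent h.le hc⟩

theorem not_comm : ¬ gam S ≤ 𝒞(gam S) := fun e =>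
  h.not_gam_le fun x hx => h.mem_of_cent_gam hx.1 (e hx)

theorem five : 5 ≤ n := by
  by_contra h5
  exact h.not_comm fun x hx => mem_cent.2 fun y hy => commutatorElement_eq_one_iff_mul_comm.1
    (eq_one_of_mem h.mc h.h4 (by omega) (gam_comm h.mc h.h4 hy hx))

theorem NC_le : NC S E ≤ 𝒞(lv S (n - 1)) :=
  sup_le (inf_le_left.trans (le_cent_center h.mc h.h4)) (cent_le_cent h.Z_le)

theorem pAct_NC : PAct p (NC S E) E := fun x hx => by
  obtain ⟨m, hm, -, e⟩ := EX.mem_NC.1 hx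
  obtain ⟨k, hk⟩ := H9.exists_pow_eq_one h.mc.hS hm
  have hxN := NC_le_norm hx
  have key : ∀ j : ℕ, ∀ r ∈ E, x ^ j * r * (x ^ j)⁻¹ = m ^ j * r * (m ^ j)⁻¹ := fun j => by
    induction j with
    | zero => simp
    | succ j ih =>
      intro r hr
      have h1 := ih _ (H9.conj_mem_of_mem_normalizer hxN hr)
      calc x ^ (j + 1) * r * (x ^ (j + 1))⁻¹ = x ^ j * (x * r * x⁻¹) * (x ^ j)⁻¹ := by
            rw [pow_succ]; group
        _ = m ^ (j + 1) * r * (m ^ (j + 1))⁻¹ := by rw [h1, e r hr, pow_succ]; group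
  refine ⟨k, mem_cent.2 fun r hr => ?_⟩
  have := key (p ^ k) r hr
  rw [hk, one_mul, inv_one, mul_one, mul_inv_eq_iff_eq_mul] at this
  exact this.symm

theorem syl (hX : X ≤ Γ) (hp : PAct p X E) : ∃ a ∈ Γ, ∀ x ∈ X, a * x * a⁻¹ ∈ NC S E :=
  exists_conj_of_pAct h.ΓN (inf_le_right.trans le_sup_right) h.sylΓ hX hp

/-- The trivial intersection property. -/
theorem ti (hg : g ∈ Γ) (hx : x ∈ S ⊓ 𝒩(E)) (hxE : x ∉ E) (h1 : g * x * g⁻¹ ∈ NC S E) :
    g ∈ 𝒩(NC S E) := by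
  obtain ⟨m, hm, e⟩ := h.ext g hg x hx hxE h1
  have hmE : m ∈ 𝒩(E) := mem_normalizer_of_conj_mem fun r hr => by
    rw [← e r hr]; exact H9.conj_mem_of_mem_normalizer (h.ΓN hg) hr
  have e1 : S ⊓ 𝒩(E) = gam S ⊓ 𝒩(E) :=
    le_antisymm (le_inf h.N_le inf_le_right) (inf_le_inf_right _ MaxCl.gam_le)
  have hmN : m ∈ 𝒩(NC S E) := by
    have k1 : zpowers m ≤ 𝒩(E) := zpowers_le.2 hmE
    rw [NC, e1]
    exact H1.le_normalizer_sup (H1.le_normalizer_inf (zpowers_le.2 (h.ΔN hm))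
      (k1.trans le_normalizer)) (H1.le_normalizer_centralizer k1) (mem_zpowers m)
  have hc : m⁻¹ * g ∈ 𝒞(E) := mem_cent.2 fun r hr => by
    have := e r hr
    calc r * (m⁻¹ * g) = m⁻¹ * (m * r * m⁻¹) * g := by group
      _ = m⁻¹ * g * r := by rw [← this]; group
  have := mul_mem hmN (le_normalizer (mem_sup_right hc : m⁻¹ * g ∈ NC S E))
  simpa using this

theorem le_of_pAct (hX : X ≤ Γ) (hp : PAct p X E) (hx : x ∈ S ⊓ 𝒩(E)) (hxE : x ∉ E)
    (hxX : x ∈ X) : X ≤ NC S E := fun y hy => by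
  obtain ⟨a, ha, e⟩ := h.syl hX hp
  have := H9.conj_mem_of_mem_normalizer' (h.ti ha hx hxE (e x hxX)) (e y hy)
  simpa [mul_assoc] using this

theorem le_of_normal (hX : X ≤ Γ) (hn : Γ ≤ 𝒩(X)) (hp : PAct p X E) : X ≤ NC S E := fun y hy => by
  obtain ⟨a, ha, e⟩ := h.syl hX hp
  have := e _ (H9.conj_mem_of_mem_normalizer' (hn ha) hy)
  simpa [mul_assoc] using this

/-- Frattini argument for a normal subgroup meeting `N_S(E)` outside `E`. -/
theorem frattini (hK : K ≤ Γ) (hn : Γ ≤ 𝒩(K)) (hx : x ∈ S ⊓ 𝒩(E)) (hxE : x ∉ E) (hxK : x ∈ K)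
    (hg : g ∈ Γ) : ∃ a ∈ K, a * g ∈ 𝒩(NC S E) := by
  obtain ⟨a, ha, e⟩ := exists_conj_of_pAct (hK.trans h.ΓN) (inf_le_right.trans le_sup_right)
    (not_dvd_relIndex_of_normal hK hn h.sylΓ)
    (zpowers_le.2 (H9.conj_mem_of_mem_normalizer (hn hg) hxK)) (pAct_zpowers_conj h.mc.hS hx.1 g)
  refine ⟨a, ha, h.ti (mul_mem (hK ha) hg) hx hxE ?_⟩
  simpa [mul_assoc, NC] using e _ (mem_zpowers _)

/-- Lemma D. -/
theorem rc_of_normal (hK : K ≤ Γ) (hn : Γ ≤ 𝒩(K)) (hx : x ∈ S ⊓ 𝒩(E)) (hxE : x ∉ E) (hxK : x ∈ K)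
    (hc : K ≤ 𝒞(lv S (n - 1))) : RC n S E Γ := fun g hg y hy => by
  obtain ⟨a, ha, e⟩ := h.frattini hK hn hx hxE hxK hg
  have h1 := h.NC_le (H9.conj_mem_of_mem_normalizer e (mem_NC_of_mem hy))
  have := mul_mem (mul_mem (inv_mem (hc ha)) h1) (hc ha)
  simpa [mul_assoc] using this

theorem exists_not_cent (hr : ¬ RC n S E Γ) (hx : x ∈ S ⊓ 𝒩(E)) (hxE : x ∉ E) :
    ∃ g ∈ Γ, g * x * g⁻¹ ∉ 𝒞(lv S (n - 1)) := by
  by_contra! hc
  let K : Subgroup G :=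
    { carrier := {y | y ∈ Γ ∧ ∀ g ∈ Γ, g * y * g⁻¹ ∈ 𝒞(lv S (n - 1))}
      one_mem' := ⟨one_mem _, fun g _ => by simp⟩
      mul_mem' := fun {a b} ha hb => ⟨mul_mem ha.1 hb.1, fun g hg => by
        simpa [mul_assoc] using mul_mem (ha.2 g hg) (hb.2 g hg)⟩
      inv_mem' := fun {a} ha => ⟨inv_mem ha.1, fun g hg => by
        simpa [mul_assoc] using inv_mem (ha.2 g hg)⟩ }
  refine hr (h.rc_of_normal (K := K) (fun y hy => hy.1) (fun g hg =>
    mem_normalizer_of_conj_mem fun y hy => ⟨mul_mem (mul_mem hg hy.1) (inv_mem hg), fun a ha => ?_⟩)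
    hx hxE ⟨h.NΓ hx, hc⟩ fun y hy => by simpa using hy.2 1 (one_mem _))
  simpa [mul_assoc] using hy.2 _ (mul_mem ha hg)

theorem exists_top : ∃ k, Top n S E k := by
  classical
  have h4 := h.h4
  have hex : ∃ j, lv S j ≤ E := ⟨_, h.Z_le⟩
  have h1 := Nat.find_spec hex
  have h2 : Nat.find hex ≤ n - 1 := Nat.find_min' hex h.Z_le
  have h3 : 2 < Nat.find hex := by
    by_contra h3
    refine h.nn (le_normalizer_of_commutator_le h.le_S (commutator_le.2 fun a ha b hb => ?_))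
    exact h1 (lv_anti S (not_lt.1 h3) (commutator_mem_lcs (k := 0) ha hb))
  refine ⟨Nat.find hex - 1, by omega, by omega, ?_, Nat.find_min hex (by omega)⟩
  rwa [Nat.sub_add_cancel (by omega)]

theorem top_mem (hk : Top n S E k) (ht : t ∈ lv S k) : t ∈ S ⊓ 𝒩(E) :=
  ⟨lv_le S k ht, mem_normalizer_of_conj_mem fun r hr => by
    simpa [commutatorElement_def] using mul_mem (hk.succ (comm_mem_succ ht (h.le_S hr))) hr⟩

theorem top_not_mem (hk : Top n S E k) (ht : Lev S k t) : t ∉ E := fun e =>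
  hk.not_le (ht.le_of_mem' h.mc h.h4 e hk.succ)

end Loc

end Cfsg.Agent.MX
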