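import Cfsg.Agent.Lib.MX.W0

/-!
# S5267: weights (see notes/MX.md)
-/

set_option autoImplicit false
set_option linter.unusedSectionVars false
set_option linter.unusedVariables false

namespace Cfsg.Agent.MX

open Subgroup Cfsg.Agent.H9 Cfsg.Agent.FT Cfsg.FusionSystem
open Cfsg.Agent.EX (pw PAct NC)
open scoped commutatorElement

universe u

variable {G : Type u} [Group G] [Finite G] {p : ℕ} [hp : Fact p.Prime] {S Δ : Subgroup G}
  {n i j : ℕ} {m : G} {w w' l : ZMod p}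

theorem exists_gen (p : ℕ) [hp : Fact p.Prime] : ∃ c : ZMod p, orderOf c = p - 1 := by
  obtain ⟨u, hu⟩ := IsCyclic.exists_generator (α := (ZMod p)ˣ)
  refine ⟨u, ?_⟩
  rw [orderOf_units, orderOf_eq_card_of_forall_mem_zpowers hu, Nat.card_eq_fintype_card,
    ZMod.card_units]

theorem gen_ne_zero {c : ZMod p} (hc : orderOf c = p - 1) : c ≠ 0 := by
  rintro rfl
  have := hp.out.two_le
  have h1 := pow_orderOf_eq_one (0 : ZMod p)
  rw [hc, zero_pow (by omega)] at h1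
  exact zero_ne_one h1

theorem gen_le {c : ZMod p} (hc : orderOf c = p - 1) {j : ℕ} (hj : 0 < j) (h : c ^ j = 1) :
    p - 1 ≤ j := hc ▸ orderOf_le_of_pow_eq_one hj h

theorem mem_SC {g : G} : g ∈ SC S ↔ ∃ s ∈ S, ∃ c ∈ 𝒞(gam S), s * c = g :=
  H9.mem_sup_of_le_normalizer (H1.le_normalizer_centralizer (lv_norm S 1))

theorem mem_QC {g : G} : g ∈ gam S ⊔ 𝒞(gam S) ↔ ∃ q ∈ gam S, ∃ c ∈ 𝒞(gam S), q * c = g :=
  H9.mem_sup_of_le_normalizer (H1.le_normalizer_centralizer le_normalizer)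

theorem norm_QC (hm : m ∈ 𝒩(gam S)) : m ∈ 𝒩(gam S ⊔ 𝒞(gam S)) :=
  H1.le_normalizer_sup le_rfl (H1.le_normalizer_centralizer le_rfl) hm

theorem QC_le_SC : gam S ⊔ 𝒞(gam S) ≤ SC S := sup_le_sup_right (lv_le S 1) _

theorem SC_le_norm : SC S ≤ 𝒩(gam S) := sup_le (lv_norm S 1) cent_le_norm

theorem comm_mul_cent {x g c : G} (hx : x ∈ gam S) (hc : c ∈ 𝒞(gam S)) : ⁅x, g * c⁆ = ⁅x, g⁆ := by
  have := mem_cent.1 hc _ (inv_mem hx)
  calc ⁅x, g * c⁆ = x * g * (c * x⁻¹) * c⁻¹ * g⁻¹ := by simp only [commutatorElement_def]; group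
    _ = ⁅x, g⁆ := by rw [← this]; simp only [commutatorElement_def]; group

theorem M5.lv_succ_eq (h : M5 p S n) (hi : 1 ≤ i) : lv S (i + 1) = ⁅lv S i, S⁆ := by
  refine le_antisymm ?_ (commutator_le.2 fun a ha b hb => comm_mem_succ ha hb)
  rcases hi.eq_or_lt with rfl | hi
  · obtain ⟨u, hu⟩ := exists_lev_of_lt h.mc h.h4 (i := 1) (by have := h.h4; omega)
    obtain ⟨s, hs⟩ := h.exists_unif
    have h1 := hu.comm_one h.mc h.h4 hs.mem (h.mc.not_mem_gam h.h4 hs)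
    exact le_of_normal h.mc h.h4 (H1.le_normalizer_commutator (lv_norm S 1) le_normalizer)
      (by omega) (commutator_mem_commutator hu.1 hs.mem) h1
  · obtain ⟨i, rfl⟩ := Nat.exists_eq_add_of_le' hi
    exact le_rfl

theorem M5.not_mem_QC (h : M5 p S n) {s : G} (hs : s ∈ S) (hs' : s ∉ gam S) :
    s ∉ gam S ⊔ 𝒞(gam S) := fun e => by
  obtain ⟨q, hq, c, hc, rfl⟩ := mem_QC.1 e
  obtain ⟨u, hu⟩ := exists_lev_of_lt h.mc h.h4 (i := 1) (by have := h.h4; omega)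
  have h1 := hu.comm_one h.mc h.h4 hs hs'
  rw [comm_mul_cent hu.1 hc] at h1
  exact h1.2 (lv_succ_le S 3 (gam_comm h.mc h.h4 hu.1 hq))

namespace M5

variable (h : M5 p S n) (hm : m ∈ 𝒩(gam S)) (hm' : m ∈ 𝒩(SC S))
include h hm hm'

theorem norm_lv (hi : 1 ≤ i) : m ∈ 𝒩(lv S i) := by
  induction hi with
  | refl => exact hm
  | @step i hi ih =>
    have e : lv S (i + 1) = ⁅lv S i, SC S⁆ := by
      refine le_antisymm ((h.lv_succ_eq hi).le.trans (commutator_mono le_rfl le_sup_left))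
        (commutator_le.2 fun a ha b hb => ?_)
      obtain ⟨s, hs, c, hc, rfl⟩ := mem_SC.1 hb
      rw [comm_mul_cent (lv_le_gam hi ha) hc]
      exact comm_mem_succ ha hs
    show m ∈ 𝒩(lv S (i + 1))
    rw [e]
    exact H1.le_normalizer_commutator (zpowers_le.2 ih) (zpowers_le.2 hm') (mem_zpowers m)

theorem conj_mem (hi : 1 ≤ i) {y : G} (hy : y ∈ lv S i) : m * y * m⁻¹ ∈ lv S i :=
  H9.conj_mem_of_mem_normalizer (h.norm_lv hm hm' hi) hy

theorem conj_lev (hi : 1 ≤ i) {y : G} (hy : Lev S i y) : Lev S i (m * y * m⁻¹) :=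
  ⟨h.conj_mem hm hm' hi hy.1, fun e => hy.2 (by
    simpa [mul_assoc] using H9.conj_mem_of_mem_normalizer' (h.norm_lv hm hm' (by omega)) e)⟩

theorem wt_of_lev (hi : 1 ≤ i) {y : G} (hy : Lev S i y)
    (h1 : (pw y w)⁻¹ * (m * y * m⁻¹) ∈ lv S (i + 1)) : Wt S m i w :=
  fwt_of_lev h.mc h.h4 (isHomOn_conj _ m) (fun _ => h.conj_mem hm hm' (by omega)) hy h1

theorem exists_wt (hi : 1 ≤ i) : ∃ w : ZMod p, w ≠ 0 ∧ Wt S m i w := by
  by_cases hn : i < n
  · obtain ⟨w, hw⟩ := exists_fwt h.mc h.h4 (isHomOn_conj _ m) (fun _ => h.conj_mem hm hm' hi)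
      fun _ => h.conj_mem hm hm' (by omega)
    obtain ⟨u, hu⟩ := exists_lev_of_lt h.mc h.h4 hn
    refine ⟨w, ?_, hw⟩
    rintro rfl
    exact (h.conj_lev hm hm' hi hu).2 (by simpa [EX.pw_zero] using hw u hu.1)
  · exact ⟨1, one_ne_zero, FWt.of_le (f := fun y => m * y * m⁻¹) h.mc h.h4 (not_lt.1 hn) (by simp)⟩

/-- The weight is read off from one element. -/
theorem wt_eq (hw : Wt S m i w) {y : G} (hy : Lev S i y)
    (h1 : (pw y w')⁻¹ * (m * y * m⁻¹) ∈ lv S (i + 1)) : w = w' :=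
  cong_uniq h.mc h.h4 hy (hw y hy.1) h1

theorem wt_uniq (hw : Wt S m i w) (hw' : Wt S m i w') (hi : i < n) : w = w' :=
  FWt.uniq (f := fun y => m * y * m⁻¹) h.mc h.h4 hw hw' hi

theorem exists_lam : ∃ l : ZMod p, l ≠ 0 ∧ Lam S m l := by
  obtain ⟨u, hu⟩ := exists_lev_of_lt h.mc h.h4 (i := 0) (by have := h.h4; omega)
  obtain ⟨s, hs, c, hc, e⟩ := mem_SC.1 (H9.conj_mem_of_mem_normalizer hm' (mem_sup_left hu.1))
  obtain ⟨l, hl⟩ := exists_cong h.mc h.h4 hu hs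
  have h1 : (pw u l)⁻¹ * (m * u * m⁻¹) ∈ gam S ⊔ 𝒞(gam S) := by
    rw [← e, ← mul_assoc]; exact mul_mem (mem_sup_left hl) (mem_sup_right hc)
  refine ⟨l, ?_, fun y hy => ?_⟩
  · rintro rfl
    refine h.not_mem_QC hu.1 hu.2 ?_
    simpa [EX.pw_zero, mul_assoc] using H9.conj_mem_of_mem_normalizer' (norm_QC hm) h1
  obtain ⟨a, ha⟩ := exists_cong h.mc h.h4 hu hy
  simp only [pw_eq_zpow] at *
  have hn := fun k : ℤ => norm_QC (lv_norm S 1 (zpow_mem hu.mem k))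
  have k2 := inv_mem (cong_zpow (hn _) (mem_sup_left ha) l.val)
  have k3 := cong_zpow (hn _) h1 a.val
  have k4 := H9.conj_mem_of_mem_normalizer (norm_QC hm) (mem_sup_left ha)
  rw [← zpow_mul, mul_comm (l.val : ℤ)] at k3
  rw [mul_inv_rev, inv_inv, ← zpow_mul] at k2
  refine cong_trans (cong_trans k2 k3) ?_
  rw [conj_zpow]
  simpa [mul_assoc] using k4

theorem wt_succ (hl : Lam S m l) (hi : 1 ≤ i) (hn : i + 3 ≤ n ∨ NE S n) (hw : Wt S m i w) :
    Wt S m (i + 1) (l * w) := by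
  by_cases hin : i + 2 ≤ n
  swap
  · exact FWt.of_le (f := fun y => m * y * m⁻¹) h.mc h.h4 (by omega) (by simp)
  obtain ⟨y, hy⟩ := exists_lev_of_lt h.mc h.h4 (i := i) (by omega)
  obtain ⟨s, hs⟩ := exists_lev_of_lt h.mc h.h4 (i := 0) (by omega)
  have h1 := h.step hy hs.1 hs.2 hi (hn.imp_right fun e => ⟨e, hin⟩)
  refine h.wt_of_lev hm hm' (by omega) h1 ?_
  obtain ⟨q, hq, c, hc, e⟩ := mem_QC.1 (hl s hs.1)
  have e1 : m * s * m⁻¹ = pw s l * q * c := by rw [mul_assoc (pw s l), e]; group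
  have e2 : m * ⁅y, s⁆ * m⁻¹ = ⁅m * y * m⁻¹, pw s l * q⁆ := by
    rw [← comm_mul_cent (lv_le_gam hi (h.conj_mem hm hm' hi hy.1)) hc, ← e1]
    simp only [commutatorElement_def]; group
  rw [e2, mul_comm l]
  exact bilin h.mc h.h4 (lv_le S (i + 1)) (lv_le S 1) (lv_norm S _) (lv_norm S 1) hy.mem hs.1 h1.1
    (fun c hc => comm_mem_succ hc hs.1) (fun d hd => h.comm_gam hi hn hy.1 hd)
    (fun c hc d hd => comm_mem_succ hc hd.1) (hw y hy.1)
    (by rw [inv_mul_cancel_left]; exact hq)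

theorem wt_add (hl : Lam S m l) (hi : 1 ≤ i) (hn : i + j + 2 ≤ n ∨ NE S n) (hw : Wt S m i w) :
    Wt S m (i + j) (l ^ j * w) := by
  induction j with
  | zero => simpa using hw
  | succ j ih =>
    have := h.wt_succ hm hm' hl (by omega) (hn.imp_left (by omega)) (ih (hn.imp_left (by omega)))
    rwa [← mul_assoc, ← pow_succ'] at this

theorem wt_comm {k : ℕ} (hi : 1 ≤ i) (hj : 1 ≤ j) (hk : 1 ≤ k) {x y : G} (hx : x ∈ lv S i)
    (hy : y ∈ lv S j) (hxy : Lev S k ⁅x, y⁆) (h1 : ⁅lv S (i + 1), lv S j⁆ ≤ lv S (k + 1))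
    (h2 : ⁅lv S i, lv S (j + 1)⁆ ≤ lv S (k + 1)) (hw : Wt S m i w) (hw' : Wt S m j w') :
    Wt S m k (w * w') := by
  refine h.wt_of_lev hm hm' hk hxy ?_
  have e2 : m * ⁅x, y⁆ * m⁻¹ = ⁅m * x * m⁻¹, m * y * m⁻¹⁆ := by
    simp only [commutatorElement_def]; group
  rw [e2]
  exact bilin h.mc h.h4 (lv_le S _) (lv_le S _) (lv_norm S _) (lv_norm S _) (lv_le S _ hx)
    (lv_le S _ hy) hxy.1 (fun c hc => h1 (commutator_mem_commutator hc hy))
    (fun d hd => h2 (commutator_mem_commutator hx hd))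
    (fun c hc d hd => h1 (commutator_mem_commutator hc (lv_succ_le S _ hd))) (hw x hx) (hw' y hy)

/-- In an exceptional group the weight on the centre is a product of paired weights. -/
theorem wt_pair (hne : ¬ NE S n) (hi : 1 ≤ i) (hj : 1 ≤ j) (hn : i + j + 1 = n) (hw : Wt S m i w)
    (hw' : Wt S m j w') : Wt S m (n - 1) (w * w') := by
  obtain ⟨x, hx⟩ := exists_lev_of_lt h.mc h.h4 (i := i) (by omega)
  obtain ⟨y, hy⟩ := exists_lev_of_lt h.mc h.h4 (i := j) (by omega)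
  refine h.wt_comm hm hm' hi hj (by omega) hx.1 hy.1 (lev_center h.mc h.h4
    (lv_anti S (by omega) (comm_mem_add h.mc h.h4 hi hj hx.1 hy.1))
    ((h.exc hne).2.2.2 i j hi hj hn x y hx hy)) ?_ ?_ hw hw' <;>
  exact commutator_le.2 fun a ha b hb =>
    lv_anti S (by omega) (comm_mem_add h.mc h.h4 (by omega) (by omega) ha hb)

end M5

/-- A commutator relation between weights. -/
theorem M5.exists_triple (h : M5 p S n) {r : ℕ} (hr : ¬ ⁅gam S, gam S⁆ ≤ lv S r) :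
    ∃ i j k, 1 ≤ i ∧ 1 ≤ j ∧ i < k ∧ j < k ∧ k < r ∧ k < n ∧ ∀ m ∈ 𝒩(gam S), m ∈ 𝒩(SC S) →
      ∀ a b c : ZMod p, Wt S m i a → Wt S m j b → Wt S m k c → c = a * b := by
  classical
  obtain ⟨k, hk1, hk2, e⟩ := eq_lv_of_normal h.mc h.h4
    (H1.le_normalizer_commutator (lv_norm S 1) (lv_norm S 1)) (commutator_le.2 fun a ha b hb =>
        lv_le_gam (by omega) (gam_comm h.mc h.h4 ha hb))
  have hkr : k < r := not_le.1 fun hle => hr (e.le.trans (lv_anti S hle))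
  have hkn : k < n := lt_of_le_of_ne hk2 fun hle =>
    hr (e.le.trans (by rw [lv_eq_bot h.mc h.h4 hle.ge]; exact bot_le))
  let P : ℕ → Prop := fun t => ∃ i j, 1 ≤ i ∧ 1 ≤ j ∧ i + j = t ∧ ¬ ⁅lv S i, lv S j⁆ ≤ lv S (k + 1)
  have hP : ∀ t, P t → t ≤ k := by
    rintro t ⟨i, j, hi, hj, rfl, hn⟩
    by_contra hlt
    exact hn (commutator_le.2 fun a ha b hb =>
      lv_anti S (by omega) (comm_mem_add h.mc h.h4 hi hj ha hb))
  have h2 : P 2 := ⟨1, 1, le_rfl, le_rfl, rfl, e ▸ (lv_lt h.mc h.h4 hkn).not_ge⟩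
  obtain ⟨i, j, hi, hj, hij, hn⟩ : P (Nat.findGreatest P k) := Nat.findGreatest_spec (hP 2 h2) h2
  have hmax : ¬ P (i + j + 1) := fun hh =>
    Nat.findGreatest_is_greatest (by omega) (hP _ hh) hh
  have hle := hP _ ⟨i, j, hi, hj, rfl, hn⟩
  obtain ⟨x, hx, y, hy, hxy⟩ : ∃ x ∈ lv S i, ∃ y ∈ lv S j, ⁅x, y⁆ ∉ lv S (k + 1) := by
    by_contra! hc
    exact hn (commutator_le.2 hc)
  refine ⟨i, j, k, hi, hj, by omega, by omega, hkr, hkn, fun m hm hm' a b c ha hb hc => ?_⟩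
  refine h.wt_uniq hm hm' hc (h.wt_comm hm hm' hi hj hk1 hx hy
    ⟨e ▸ commutator_mem_commutator (lv_le_gam hi hx) (lv_le_gam hj hy), hxy⟩ ?_ ?_ ha hb) hkn
  · exact by_contra fun hh => hmax ⟨i + 1, j, by omega, hj, by omega, hh⟩
  · exact by_contra fun hh => hmax ⟨i, j + 1, hi, by omega, by omega, hh⟩

theorem DCtx.syl (h : DCtx p n S Δ) {X K : Subgroup G} (hK : K ≤ Δ) (hA : Δ ⊓ SC S ≤ K) (hX : X ≤ K)
    (hp : PAct p X (gam S)) : ∃ a ∈ K, ∀ x ∈ X, a * x * a⁻¹ ∈ SC S :=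
  exists_conj_of_pAct (hK.trans h.ΔN) (inf_le_right.trans le_sup_right)
    (not_dvd_relIndex_of_le hK hA h.sylΔ) hX hp

theorem DCtx.mem_of_pAct (h : DCtx p n S Δ) (hm : m ∈ Δ) (hm' : m ∈ 𝒩(SC S))
    (hp : PAct p (zpowers m) (gam S)) : m ∈ SC S := by
  obtain ⟨a, ha, e⟩ := h.syl (K := Δ ⊓ 𝒩(SC S)) inf_le_left (inf_le_inf_left _ le_normalizer)
    (zpowers_le.2 ⟨hm, hm'⟩) hp
  simpa [mul_assoc] using H9.conj_mem_of_mem_normalizer' ha.2 (e m (mem_zpowers m))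

theorem DCtx.mem_of_wt_one (h : DCtx p n S Δ) (hm : m ∈ Δ) (hm' : m ∈ 𝒩(SC S))
    (hw : ∀ i, 1 ≤ i → i < n → Wt S m i (1 : ZMod p)) : m ∈ SC S := by
  have h5 := h.toM5
  have hN := fun i (hi : 1 ≤ i) => h5.norm_lv (h.ΔN hm) hm' hi
  have key : ∀ d i, i + d = n → 1 ≤ i → PAct p (zpowers m) (lv S i) := fun d => by
    induction d with
    | zero =>
      intro i hi _
      rw [lv_eq_bot h.mc h.h4 (by omega)]
      exact EX.pAct_of_le_cent fun x _ => mem_cent.2 fun y hy => by simp [mem_bot.1 hy]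
    | succ d ih =>
      intro i hi h1
      refine (ih (i + 1) (by omega) (by omega)).step (h.mc.hS.to_le (lv_le S _))
        (zpowers_le.2 (hN _ (by omega))) fun y hy r hr => ?_
      have k1 : zpowers m ≤ cmod (lv S (i + 1)) r := zpowers_le.2 ⟨hN _ (by omega), by
        have := H9.conj_mem_of_mem_normalizer (lv_norm S (i + 1) (lv_le S i hr))
          (hw i h1 (by omega) r hr)
        simpa [EX.pw_one, commutatorElement_def, mul_assoc] using this⟩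
      exact (k1 hy).2
  exact h.mem_of_pAct hm hm' (key (n - 1) 1 (by have := h.h4; omega) le_rfl)

end Cfsg.Agent.MX
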