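import Cfsg.Agent.Lib.MX.Loc
import Cfsg.Agent.Lib.MX.W

/-!
# S5267: passing to `C(Z) / Z` (see notes/MX.md)
-/

set_option autoImplicit false
set_option linter.unusedSectionVars false
set_option linter.unusedVariables false

namespace Cfsg.Agent.MX

open Subgroup Cfsg.Agent.H9 Cfsg.Agent.FT
open Cfsg.Agent.EX (pw PAct NC)
open scoped commutatorElement

universe u

variable {G : Type u} [Group G] [Finite G] {p : ℕ} [hp : Fact p.Prime] {S E Γ Δ : Subgroup G}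
  {n : ℕ}

theorem coset_conj {K : Subgroup G} {g x : G} (hg : g ∈ 𝒩(K)) (hx : x ∈ 𝒩(K)) :
    coset K (g * x * g⁻¹) = coset K g * coset K x * (coset K g)⁻¹ := by
  rw [coset_mul (mul_mem hg hx) (inv_mem hg), coset_mul hg hx, coset_inv hg]

theorem quo_lcs {K : Subgroup G} (hS : S ≤ 𝒩(K)) (k : ℕ) :
    (quo K S).lowerCentralSeries k = quo K (S.lowerCentralSeries k) := by
  induction k with
  | zero => rfl
  | succ k ih =>
    rw [Subgroup.lowerCentralSeries_succ, Subgroup.lowerCentralSeries_succ, ih,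
      quo_commutator ((H9.lcs_le S k).trans hS) hS]

theorem maxCl_quo (h : MaxCl p S (n + 1)) (h4 : 4 ≤ n) : MaxCl p (quo (lv S n) S) n := by
  have hS := lv_norm S n
  refine ⟨quo_pgroup h.hS, ?_, by omega, fun e => ?_⟩
  · have h1 := card_eq_relIndex_mul' (K := lv S n) (L := S)
    rw [inf_eq_left.2 (lv_le S n), card_lv h (by omega) (by omega), h.card,
      show n + 1 - n = 1 by omega, pow_one, pow_succ] at h1
    rw [card_quo hS]
    exact (Nat.eq_of_mul_eq_mul_right hp.out.pos h1).symm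
  · rw [quo_lcs hS, quo_eq_bot_iff ((H9.lcs_le S _).trans hS), ← lv_succ (by omega)] at e
    have := lv_lt h (by omega) (i := n - 2 + 1) (by omega)
    exact this.not_ge (e.trans (lv_anti S (by omega)))

theorem lv_quo (h : MaxCl p S (n + 1)) (h4 : 4 ≤ n) (i : ℕ) :
    lv (quo (lv S n) S) i = quo (lv S n) (lv S i) := by
  have hS := lv_norm S n
  match i with
  | 0 => rfl
  | i + 2 => exact quo_lcs hS (i + 1)
  | 1 =>
    have h' := maxCl_quo h h4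
    refine (eq_or_eq_of_relIndex_prime hp.out (L := quo (lv S n) S) ?_ ?_ (lv_le _ 1)).resolve_right
      (lv_lt h' h4 (i := 0) (by omega)).ne
    · rw [relIndex_quo (lv_anti S (by omega)) hS]; exact relIndex_lv h (by omega) (i := 0) (by omega)
    · intro x hx
      obtain ⟨a, ha, ha', rfl⟩ := mem_quo.1 hx
      refine ⟨coset_mem_quo ha.1, fun y hy => ?_⟩
      rw [quo_lcs hS] at hy ⊢
      obtain ⟨b, hb, hb', rfl⟩ := mem_quo.1 hy
      have := coset_mem_quo (K := lv S n) (ha.2 b hb)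
      rwa [commutatorElement_def, coset_mul (mul_mem (mul_mem ha' hb') (inv_mem ha')) (inv_mem hb'),
        coset_conj ha' hb', coset_inv hb'] at this

theorem Loc.quot (h : Loc p (n + 1) S E Γ Δ) (hr : RC (n + 1) S E Γ) :
    ∃ (G' : Type u) (_ : Group G') (_ : Finite G') (S' E' Γ' Δ' : Subgroup G'),
      Loc p n S' E' Γ' Δ' := by
  have h4 : 4 ≤ n := by have := h.five; omega
  have hm := h.mc
  have hm' := maxCl_quo hm h4
  have hlv := lv_quo hm h4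
  have hZE : lv S n ≤ E := h.Z_le
  have hSC : S ≤ 𝒞(lv S n) := le_cent_center hm h.h4
  have hNC : NC S E ≤ 𝒞(lv S n) := h.NC_le
  have hr' : ∀ g ∈ Γ, ∀ x ∈ S ⊓ 𝒩(E), g * x * g⁻¹ ∈ 𝒞(lv S n) := hr
  have hQ : gam (quo (lv S n) S) = quo (lv S n) (gam S) := hlv 1
  have hcg : ⁅gam S, lv S (n - 2)⁆ ≤ lv S n := commutator_le.2 fun a ha b hb => commutator_mem_comm
    (lv_anti S (by omega) (h.m5.comm_gam (by omega) (Or.inl (by omega)) hb ha))
  have hSCZ : SC S ≤ 𝒞(lv S n) := sup_le hSC (cent_le_cent (lv_le_gam (by omega)))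
  have hpZ : IsPGroup p (lv S n) := hm.hS.to_le (lv_le S n)
  have hne : NE (quo (lv S n) S) n := by
    rw [ne_iff hm' h4, hQ, hlv]
    exact (quo_le_cent_iff ((lv_le S 1).trans (lv_norm S n))
      ((lv_le S _).trans (lv_norm S n))).2 hcg
  generalize lv S n = Z at *
  have hS : S ≤ 𝒩(Z) := hSC.trans cent_le_norm
  have hE : E ≤ 𝒩(Z) := h.le_S.trans hS
  have hZn : FT.NormalIn Z E := ⟨hZE, hE⟩
  have hΓ' : Γ ⊓ 𝒞(Z) ≤ 𝒩(Z) := inf_le_right.trans cent_le_norm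
  have hNΓ : S ⊓ 𝒩(E) ≤ Γ ⊓ 𝒞(Z) := le_inf h.NΓ (inf_le_left.trans hSC)
  have eN : quo Z S ⊓ 𝒩(quo Z E) = quo Z (S ⊓ 𝒩(E)) := by
    refine le_antisymm (fun x hx => ?_) (le_inf (quo_mono _ inf_le_left) (quo_le_norm inf_le_right))
    obtain ⟨a, ha, ha', rfl⟩ := mem_quo.1 hx.1
    refine coset_mem_quo ⟨ha, zpowers_le.1 ((quo_le_norm_iff (zpowers_le.2 ha') hZn).1 ?_)⟩
    rw [quo_zpowers ha']; exact zpowers_le.2 hx.2
  have syl : ∀ X ≤ Γ ⊓ 𝒞(Z), PAct p X E → ∃ a ∈ Γ ⊓ 𝒞(Z), ∀ x ∈ X, a * x * a⁻¹ ∈ NC S E :=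
    fun X hX hp => exists_conj_of_pAct (inf_le_left.trans h.ΓN) (inf_le_right.trans le_sup_right)
      (not_dvd_relIndex_of_le inf_le_left (inf_le_inf_left _ hNC) h.sylΓ) hX hp
  have hK : ∀ g ∈ Γ ⊓ 𝒞(Z), ∀ y ∈ Γ ⊓ 𝒞(Z), coset Z y ∈ 𝒞(quo Z E) → g * y * g⁻¹ ∈ NC S E :=
    fun g hg y hy hy' => by
    have hn : Γ ⊓ 𝒞(Z) ≤ 𝒩(coquo Z 𝒞(quo Z E)) := (le_norm_coquo hΓ').2
      (H1.le_normalizer_centralizer (quo_le_norm (inf_le_left.trans h.ΓN)))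
    obtain ⟨a, ha, e⟩ := syl (Γ ⊓ 𝒞(Z) ⊓ coquo Z 𝒞(quo Z E)) inf_le_left
      ((EX.pAct_of_le_cent (inf_le_left.trans inf_le_right)).step hpZ (inf_le_left.trans hΓ')
        fun y hy r hr => (quo_le_cent_iff (inf_le_left.trans hΓ') hE).1
          ((quo_le_iff (inf_le_left.trans hΓ')).2 inf_le_right) (commutator_mem_commutator hy hr))
    have hb := mul_mem (inv_mem ha) hg
    have := e _ ⟨Subgroup.mul_mem _ (Subgroup.mul_mem _ hb hy) (Subgroup.inv_mem _ hb),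
      H9.conj_mem_of_mem_normalizer (hn hb) (mem_coquo.2 ⟨hΓ' hy, hy'⟩)⟩
    simpa [mul_assoc] using this
  have key : ∀ y ∈ Γ ⊓ 𝒞(Z), coset Z y ∈ NC (quo Z S) (quo Z E) → y ∈ NC S E := fun y hy h1 => by
    obtain ⟨a, ha, c, hc, e⟩ := (H9.mem_sup_of_le_normalizer
      (H1.le_normalizer_centralizer inf_le_right)).1 h1
    rw [eN] at ha
    obtain ⟨b, hb, hb', rfl⟩ := mem_quo.1 ha
    have := hK 1 (one_mem _) _ (mul_mem (inv_mem (hNΓ hb)) hy) (by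
      rw [coset_mul (inv_mem hb') (hΓ' hy), coset_inv hb', ← e, inv_mul_cancel_left]; exact hc)
    rw [one_mul, inv_one, mul_one] at this
    exact (mul_mem_cancel_left (inv_mem (mem_NC_of_mem hb))).1 this
  have bad : ¬ Γ ⊓ 𝒞(Z) ≤ 𝒩(NC S E) := fun e => by
    obtain ⟨g, hg, x, hx, h1⟩ := h.bad
    obtain ⟨a, ha, e'⟩ := syl _ (zpowers_le.2 ⟨Γ.mul_mem (Γ.mul_mem hg (h.NΓ hx)) (Γ.inv_mem hg),
      hr' g hg x hx⟩) (pAct_zpowers_conj hm.hS hx.1 g)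
    exact h1 (by
      simpa [mul_assoc] using H9.conj_mem_of_mem_normalizer' (e ha) (e' _ (mem_zpowers _)))
  have conjΓ : ∀ g ∈ Γ ⊓ 𝒞(Z), ∀ x ∈ S ⊓ 𝒩(E), g * x * g⁻¹ ∈ Γ ⊓ 𝒞(Z) := fun g hg x hx =>
    mul_mem (mul_mem hg (hNΓ hx)) (inv_mem hg)
  refine ⟨Quo Z, inferInstance, inferInstance, quo Z S, quo Z E, quo Z (Γ ⊓ 𝒞(Z)),
    quo Z (Δ ⊓ 𝒞(Z)), ⟨⟨hm', h.h5, h4⟩, quo_mono _ (le_inf h.SΔ hSC),
      hQ ▸ quo_le_norm (inf_le_left.trans h.ΔN), fun e => ?_⟩, hQ ▸ quo_mono _ h.le,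
    fun e => h.nn ((quo_le_norm_iff hS hZn).1 e), fun x hx => ?_, eN ▸ quo_mono _ hNΓ,
    quo_le_norm (inf_le_left.trans h.ΓN), fun e => ?_, fun g hg x hx hxE h1 => ?_, ?_,
    fun e => absurd hne e⟩
  · rw [← relIndex_coquo_left (inf_le_right.trans cent_le_norm)] at e
    refine not_dvd_relIndex_of_le inf_le_left (inf_le_inf_left _ hSCZ) h.sylΔ
      (e.trans (relIndex_dvd_of_le_left _ ((quo_le_iff (hSCZ.trans cent_le_norm)).1 ?_)))
    rw [SC, SC, quo_sup hS ((le_sup_right.trans hSCZ).trans cent_le_norm), hQ]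
    exact sup_le_sup_left (quo_le_cent le_rfl) _
  · have h1 : x ∈ quo Z (S ⊓ 𝒩(E)) := eN ▸ ⟨hx.1, cent_le_norm hx.2⟩
    obtain ⟨a, ha, ha', rfl⟩ := mem_quo.1 h1
    exact coset_mem_quo (by_contra fun haE => bad fun g hg =>
      h.ti hg.1 ha haE (hK g hg a (hNΓ ha) hx.2))
  · rw [← relIndex_coquo_left hΓ'] at e
    refine not_dvd_relIndex_of_le inf_le_left (inf_le_inf_left _ hNC) h.sylΓ
      (e.trans (relIndex_dvd_of_le_left _ ((quo_le_iff (hNC.trans cent_le_norm)).1 ?_)))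
    rw [NC, NC, quo_sup (inf_le_left.trans hS) ((le_sup_right.trans hNC).trans cent_le_norm), eN]
    exact sup_le_sup_left (quo_le_cent le_rfl) _
  · rw [eN] at hx
    obtain ⟨a, ha, ha', rfl⟩ := mem_quo.1 hx
    obtain ⟨b, hb, hb', rfl⟩ := mem_quo.1 hg
    rw [← coset_conj hb' ha'] at h1
    obtain ⟨m, hm1, e⟩ := h.ext b hb.1 a ha (fun e => hxE (coset_mem_quo e))
      (key _ (conjΓ b hb a ha) h1)
    have hmZ : m ∈ 𝒞(Z) := mem_cent.2 fun z hz => by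
      have := e z (hZE hz)
      rw [← mem_cent.1 hb.2 z hz, mul_inv_cancel_right, eq_mul_inv_iff_mul_eq] at this
      exact this
    refine ⟨coset Z m, coset_mem_quo ⟨hm1, hmZ⟩, fun r hr => ?_⟩
    obtain ⟨c, hc, hc', rfl⟩ := mem_quo.1 hr
    rw [← coset_conj hb' hc', ← coset_conj (cent_le_norm hmZ) hc', e c hc]
  · obtain ⟨g, hg, hg'⟩ := SetLike.not_le_iff_exists.1 bad
    obtain ⟨x, hx, hxE, hxN, -⟩ := exists_mem_normalizer_not_mem (hm.hS.to_le (lv_le S 1)) h.le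
      h.not_gam_le
    refine ⟨coset Z g, coset_mem_quo hg, coset Z x, eN ▸ coset_mem_quo ⟨hx.1, hxN⟩, fun e => ?_⟩
    rw [← coset_conj (hΓ' hg) (hS hx.1)] at e
    exact hg' (h.ti hg.1 ⟨hx.1, hxN⟩ hxE (key _ (conjΓ g hg x ⟨hx.1, hxN⟩) e))

end Cfsg.Agent.MX
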