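import Cfsg.Agent.Lib.MX.Tor
import Cfsg.Agent.Lib.MX.D

/-!
# S5267: the non-exceptional case (see notes/MX.md)
-/

set_option autoImplicit false
set_option linter.unusedSectionVars false
set_option linter.unusedVariables false

namespace Cfsg.Agent.MX

open Subgroup Cfsg.Agent.H9 Cfsg.Agent.FT
open Cfsg.Agent.EX (pw PAct NC)
open scoped commutatorElement

universe u

variable {G : Type u} [Group G] [Finite G] {p : ℕ} [hp : Fact p.Prime] {S E Γ Δ : Subgroup G}
  {n k : ℕ}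

theorem Loc.rc_of_ne (h : Loc p n S E Γ Δ) (hne : NE S n) : RC n S E Γ := by
  by_contra hr
  have h5 := h.m5
  have hp5 := h.h5
  have hn5 := h.five
  have hm0 := h.mc
  have h4 := h.h4
  obtain ⟨k, hk⟩ := h.exists_top
  have hk2 := hk.two
  have hkn := hk.le
  obtain ⟨t, ht⟩ := exists_lev_of_lt hm0 h4 (i := k) (by omega)
  obtain ⟨c, hc⟩ := exists_gen p
  have hc0 := gen_ne_zero hc
  have hc1 : c ≠ 1 := fun e => by have := gen_le hc one_pos (by rw [pow_one, e]); omega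
  have hc2 : c ^ 2 ≠ 1 := fun e => by have := gen_le hc two_pos e; omega
  obtain ⟨m, y, T⟩ := h.exists_tor hr hk ht hc0
  obtain ⟨s, hs⟩ := h5.exists_unif
  have htQ : t ∈ gam S := lv_le_gam (by omega) ht.1
  have hq : ∀ v ∈ gam S, v ∈ 𝒞(gam S) → v ^ p = 1 →
      m * (m * v * m⁻¹ * v⁻¹) * m⁻¹ = pw (m * v * m⁻¹ * v⁻¹) c := fun v hv hv' hvp =>
    T.quad v (h.mem_of_cent_gam hv.1 hv') (cent_le_cent h.le hv') hvp (mem_cent.1 hv' t htQ)
  have hm := h.ΔN T.mem
  have hm' := h.toDCtx.norm_of_ne hne h.not_comm T.mem hc hq (T.move hc1)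
  have key : ∀ i, 2 ≤ i → i < n → n + 1 ≤ i + p → gam S ≤ 𝒞(lv S i) → ∀ w : ZMod p, Wt S m i w →
      w = 1 ∨ w = c := fun i h1 h2 h3 hC w hw => by
    refine or_iff_not_imp_left.2 fun hw1 => ?_
    obtain ⟨v, hv⟩ := exists_lev_of_lt hm0 h4 h2
    have hvp := pow_eq_one_of_le hm0 h4 hs h1 h3 hv.1
    have k1 : Lev S i (m * v * m⁻¹ * v⁻¹) := by
      refine (hv.pw hm0 h4 (sub_ne_zero.2 hw1)).of_cong ?_
      have := conj_mem_lv hv.mem (hw v hv.1)
      rw [show w = w - 1 + 1 by ring, EX.pw_add hvp, EX.pw_one] at this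
      simpa [mul_assoc] using this
    refine h5.wt_eq hm hm' hw k1 ?_
    rw [hq v (lv_le_gam (by omega) hv.1) (mem_cent.2 fun x hx => (mem_cent.1 (hC hx) v hv.1).symm)
      hvp, inv_mul_cancel]
    exact one_mem _
  obtain ⟨l, hl0, hl⟩ := h5.exists_lam hm hm'
  obtain ⟨μ, hμ0, hμ⟩ := h5.exists_wt hm hm' (i := 1) le_rfl
  have hw : ∀ i, 1 ≤ i → Wt S m i (l ^ (i - 1) * μ) := fun i hi => by
    have := h5.wt_add hm hm' hl le_rfl (j := i - 1) (Or.inr hne) hμ
    rwa [show 1 + (i - 1) = i by omega] at this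
  have hC2 := (ne_iff hm0 h4).1 hne
  -- the centre
  have e1 : l ^ (n - 2) * μ = c := by
    refine (key (n - 1) (by omega) (by omega) (by omega)
      (hC2.trans (cent_le_cent (lv_anti S (by omega)))) _ (hw _ (by omega))).resolve_left fun e => ?_
    obtain ⟨z, hz, hz'⟩ := T.move hc1
    have := eq_one_of_mem hm0 h4 (by omega) (hw (n - 1) (by omega) z hz)
    rw [e, EX.pw_one, inv_mul_eq_one] at this
    exact hz' this.symm
  have e2 := key (n - 2) (by omega) (by omega) (by omega) hC2 _ (hw _ (by omega))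
  -- the weight of `t`
  have hyS := h.le_S T.yE
  have e3 : l ^ (k - 1) * μ * c⁻¹ = c := by
    have k1 := hw k (by omega) t ht.1
    have k2 := mem_cent.1 T.yC _ (hk.succ k1)
    have hty : Commute y ⁅t, y⁆ := (mem_cent.1 T.yC _ (by
      simpa [commutatorElement_def] using mul_mem
        (H9.conj_mem_of_mem_normalizer (h.top_mem hk ht.1).2 T.yE) (inv_mem T.yE))).symm
    have hzp : ⁅t, y⁆ ^ p = 1 := by
      rw [← commutator_pow_right_of_commute hty, T.yp]; simp
    have k3 : m * ⁅t, y⁆ * m⁻¹ = ⁅pw t (l ^ (k - 1) * μ), pw y c⁻¹⁆ := by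
      have k4 : Commute ((pw t (l ^ (k - 1) * μ))⁻¹ * (m * t * m⁻¹)) (pw y c⁻¹) :=
        Commute.pow_right k2 _
      calc m * ⁅t, y⁆ * m⁻¹ = ⁅m * t * m⁻¹, m * y * m⁻¹⁆ := by
            simp only [commutatorElement_def]; group
        _ = pw t (l ^ (k - 1) * μ) * ⁅(pw t (l ^ (k - 1) * μ))⁻¹ * (m * t * m⁻¹), pw y c⁻¹⁆ *
              (pw t (l ^ (k - 1) * μ))⁻¹ * ⁅pw t (l ^ (k - 1) * μ), pw y c⁻¹⁆ := by
            rw [T.my]; simp only [commutatorElement_def]; group
        _ = _ := by rw [commutatorElement_eq_one_iff_commute.2 k4]; group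
    refine EX.pw_inj hzp T.ne ?_
    rw [← T.mz, k3, ← EX.pw_pw hzp]
    have k5 : Commute y ⁅pw t (l ^ (k - 1) * μ), y⁆ := by
      rw [EX.pw, commutator_pow_left_of_commute T.comm]; exact hty.pow_right _
    unfold EX.pw at k5 ⊢
    rw [commutator_pow_right_of_commute k5, commutator_pow_left_of_commute T.comm]
  have e4 : l = c := by
    have k1 : l * (l ^ (n - 2 - 1) * μ) = c := by
      rw [← mul_assoc, ← pow_succ', ← e1]; congr 2; omega
    rcases e2 with e | e
    · rwa [e, mul_one] at k1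
    · rw [e] at k1
      have k2 : l = 1 := mul_right_cancel₀ hc0 (by rw [k1, one_mul])
      rw [k2, one_pow, one_mul] at e1 e3
      rw [e1, mul_inv_cancel₀ hc0] at e3
      exact absurd e3.symm hc1
  subst e4
  have e5 : p - 1 ≤ n - k := by
    refine gen_le hc (by omega) (mul_right_cancel₀ hc0 ?_)
    have k1 : l ^ (k - 1) * μ = l * l := (mul_inv_eq_iff_eq_mul₀ hc0).1 e3
    have k2 : l ^ (n - 2) = l ^ (n - k - 1) * l ^ (k - 1) := by rw [← pow_add]; congr 1; omega
    have k3 : l ^ (n - k) = l ^ (n - k - 1) * l := by rw [← pow_succ]; congr 1; omega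
    rw [k3, one_mul, mul_assoc, ← k1, ← mul_assoc, ← k2, e1]
  -- the level of `y`
  obtain ⟨i, hin, hi⟩ := exists_lev hm0 h4 hyS (fun e => T.ne (by rw [e]; simp))
  have hi1 : 1 ≤ i := hi.le_of_mem (h.le T.yE)
  have hik : k + i + 1 < n := not_le.1 fun e => T.ne (eq_one_of_mem hm0 h4 e
    (h5.comm_mem_add_succ (by omega) hi1 (Or.inr hne) ht.1 hi.1))
  have e6 : l ^ (i - 1) * μ = l⁻¹ :=
    h5.wt_eq hm hm' (hw i hi1) hi (by rw [T.my, inv_mul_cancel]; exact one_mem _)
  have e7 : p - 1 ≤ n - 3 - i := by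
    refine gen_le hc (by omega) (mul_right_cancel₀ hc0 ?_)
    have k2 : l ^ (n - 2) = l ^ (n - 3 - i) * l * l * l ^ (i - 1) := by
      rw [← pow_succ, ← pow_succ, ← pow_add]; congr 1; omega
    rw [one_mul]
    calc l ^ (n - 3 - i) * l = l ^ (n - 3 - i) * l * l * (l ^ (i - 1) * μ) := by
          rw [e6, mul_inv_cancel_right₀ hc0]
      _ = l := by rw [← mul_assoc, ← k2, e1]
  obtain rfl : i = 1 := by
    by_contra h1
    exact hi.pow_ne_one hm0 h4 hs (by omega) (by omega) T.yp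
  have hC3 : gam S ≤ 𝒞(lv S (n - 3)) :=
    (MX.le_of_normal hm0 h4 (H1.le_normalizer_inf le_normalizer
      (H1.le_normalizer_centralizer (lv_norm S (n - 3)))) le_rfl
      ⟨hyS, cent_le_cent ((lv_anti S (by omega)).trans hk.succ) T.yC⟩ hi).trans inf_le_right
  have k1 : l ^ 2 * (l ^ (n - 3 - 1) * μ) = l := by
    rw [← mul_assoc, ← pow_add, show 2 + (n - 3 - 1) = n - 2 by omega, e1]
  rcases key (n - 3) (by omega) (by omega) (by omega) hC3 _ (hw _ (by omega)) with e | e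
  · rw [e, mul_one, sq] at k1
    exact hc1 (mul_right_cancel₀ hc0 (by rw [k1, one_mul]))
  · rw [e] at k1
    exact hc2 (mul_right_cancel₀ hc0 (by rw [k1, one_mul]))

end Cfsg.Agent.MX
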