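import Cfsg.Agent.Lib.MX.TW1
import Cfsg.Agent.Lib.MX.Reg
import Cfsg.Agent.Lib.MX.Exc
import Cfsg.Agent.Lib.MX.Quot
import Cfsg.Agent.Lib.EX.Red
import Cfsg.Agent.Lib.H7.Alperin
import Cfsg.Agent.Lib.H9.Weight

/-!
# S5267: essential subgroups inside `γ₁` (see notes/MX.md)
-/

set_option autoImplicit false
set_option linter.unusedSectionVars false
set_option linter.unusedVariables false

namespace Cfsg.Agent.MX

open Subgroup Cfsg.Agent.H9 Cfsg.Agent.FT Cfsg.FusionSystem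
open scoped commutatorElement

universe u

variable {Ω : Type u} [Group Ω] {S E : Subgroup Ω} [Finite S] {F : FusionSystem S} {p n : ℕ}
  [hp : Fact p.Prime]

theorem Loc.false (n : ℕ) : ∀ (G : Type u) [Group G] [Finite G] (S E Γ Δ : Subgroup G),
    ¬ Loc p n S E Γ Δ := by
  induction n with
  | zero => exact fun G _ _ S E Γ Δ h => absurd h.h4 (by omega)
  | succ n ih =>
    intro G _ _ S E Γ Δ h
    obtain ⟨G', _, _, S', E', Γ', Δ', h'⟩ := h.quot (by
      by_cases hne : NE S (n + 1)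
      · exact h.rc_of_ne hne
      · exact h.rc_of_exc hne)
    exact ih G' S' E' Γ' Δ' h'

section Realized

open Cfsg.Agent.EX (NC indAut mem_indAut indAut_le_norm norm_le_indAut exists_indAut mem_NC)

variable {R : Subgroup Ω} [Finite Ω] (hre : ∀ P f, F.IsMor P f → ∃ g : Ω, ∀ x ∈ P, f x = g * x * g⁻¹)
include hre

theorem syl_indAut (hR : F.IsFullyAutomized p R) : ¬ p ∣ (NC S R).relIndex (indAut F R hR.1) := by
  let φ : indAut F R hR.1 →* F.autGroup R :=
    (R.normalizerMonoidHom.comp (inclusion (indAut_le_norm hR.1))).codRestrict _ fun a =>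
      (mem_indAut.1 a.2).mor.mem_autGroup fun x => rfl
  have hφ : Function.Surjective φ := fun α => by
    obtain ⟨γ, h1, h2⟩ := exists_indAut hre hR.1 (isIso_of_mem_autGroup hR.1 α.2)
    refine ⟨⟨γ, h1⟩, Subtype.ext (MulEquiv.ext fun x => Subtype.ext ?_)⟩
    exact (h2 x x.2).symm.trans (equivFun_of_mem _ x.2)
  obtain ⟨P, hP⟩ := hR.2
  have e : (NC S R).subgroupOf (indAut F R hR.1) = comap φ P := by
    ext a
    rw [hP, mem_comap, mem_subgroupOf, mem_subgroupOf, mem_NC, mem_autInducedBy_iff']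
    refine exists_congr fun m => and_congr_right fun _ => and_congr_right fun _ =>
      forall₂_congr fun x hx => ?_
    rw [equivFun_of_mem _ hx]; rfl
  rw [relIndex, e, index_comap_of_surjective _ hφ]
  exact P.not_dvd_index

theorem M5.eq_gam_of_realized (h : M5 p S n) (hF : F.IsSaturated p) :
    ∀ E, E ≤ S → F.IsEssential p E → E ≤ gam S → E = gam S := by
  have hm := h.mc
  have h4 := h.h4
  have hS := hm.hS
  refine card_induction_down fun E hES ih hE hle => by_contra fun hne => ?_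
  have hcen : S ⊓ 𝒞(E) ≤ E := hE.isCentric.centralizerIn_le
  have h5 : 5 ≤ n := by
    by_contra h5
    exact hne (le_antisymm hle fun x hx => hcen ⟨hx.1, mem_cent.2 fun y hy =>
      commutatorElement_eq_one_iff_mul_comm.1
        (eq_one_of_mem hm h4 (by omega) (gam_comm hm h4 (hle hy) hx))⟩)
  have hbig := h.card_of_le_gam h5 hF hE hle
  have hnn : ¬ S ≤ 𝒩(E) := fun e => by
    rcases eq_or_eq_of_relIndex_prime hp.out (H3.MC.normal_essential hm h.h5 h4 hF hE e).1 hle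
      (lv_le S 1) with e | e
    · exact hne e.symm
    · exact (lv_lt hm h4 (i := 0) (by omega)).ne e
  have hN : S ⊓ 𝒩(E) ≤ gam S := fun x hx => by_contra fun e => hnn (h.normal_of_mem hle
    (fun z hz => hcen ⟨lv_le S _ hz, mem_cent.2 fun y hy => commute_center hm h4 hz (hES hy)⟩)
    hx.1 e hx.2)
  have hQ := F.isFullyNormalized_of_le_normalizer (lv_le S 1) (lv_norm S 1)
  have hrec := hF.isReceptive hS hE.isFullyNormalized
  have hext : ∀ P, E < P → P ≤ gam S → ∀ f, F.IsMor P f →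
      ∃ m ∈ indAut F (gam S) (lv_le S 1), ∀ y ∈ P, f y = m * y * m⁻¹ := fun P hP hPQ f hf => by
    refine hF.alperin_induction hS (P := P)
      (M := fun f => ∃ m ∈ indAut F (gam S) (lv_le S 1), ∀ y ∈ P, f y = m * y * m⁻¹)
      (fun f g ⟨m, h1, h2⟩ e => ⟨m, h1, fun y hy => (e y hy).symm.trans (h2 y hy)⟩)
      ⟨1, one_mem _, fun y _ => by simp⟩ (fun f Q g hf ⟨m, h1, h2⟩ hQ hg hPQ' => ?_) hf
    have hfQ : ∀ y ∈ P, f y ∈ gam S := fun y hy => by
      rw [h2 y hy]; exact H9.conj_mem_of_mem_normalizer (indAut_le_norm _ h1) (hPQ hy)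
    have hc : Nat.card E < Nat.card (img P f) := hf.isIso_img.card_eq ▸ card_lt_of_lt hP
    suffices H : gam S ≤ Q ∧ ∀ y ∈ gam S, g y ∈ gam S by
      obtain ⟨a, k1, k2⟩ := exists_indAut hre (lv_le S 1) ((hg.mor.mono H.1).isIso_self H.2)
      refine ⟨a * m, mul_mem k1 h1, fun y hy => ?_⟩
      rw [Function.comp_apply, k2 _ (hfQ y hy), h2 y hy]; group
    rcases hQ with rfl | hQ
    · exact ⟨lv_le _ 1, fun y hy => IsIso.map_mem_gam hg hy⟩
    have hc' := hc.trans_le (card_le_of_le (img_le_iff.2 hPQ'))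
    have key : Q ≤ gam S := by
      rcases h.eq_of_card hF hQ (hbig.trans_lt hc') with k | ⟨rfl, rfl⟩
      · exact k
      by_contra k
      have k1 : img P f ≤ lv S 2 := gam_inf_cst hm h4 (fun e => k e.ge) ▸
        le_inf (img_le_iff.2 hfQ) (img_le_iff.2 hPQ')
      exact (hbig.trans_lt hc).not_ge ((card_le_of_le k1).trans (card_lv hm h4 (by omega)).le)
    obtain rfl := ih Q hQ.le hc' hQ key
    exact ⟨le_rfl, hg.mapsTo⟩
  have hsub : ∀ g ∈ indAut F E hES, ∀ x ∈ S ⊓ 𝒩(E), g * x * g⁻¹ ∈ NC S E →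
      x ∈ extSub S E (fun x => g * x * g⁻¹) := fun g hg x hx e => by
    obtain ⟨m, hmS, -, e⟩ := mem_NC.1 e
    refine mem_extSub.2 ⟨hx.1, hx.2, m, hmS, fun r hr => ?_⟩
    rw [← e _ (H9.conj_mem_of_mem_normalizer (indAut_le_norm hES hg) hr)]; group
  refine Loc.false n Ω S E (indAut F E hES) (indAut F (gam S) (lv_le S 1))
    ⟨⟨h, fun x hx => norm_le_indAut _ ⟨hx, lv_norm S 1 hx⟩, indAut_le_norm _, ?_⟩, hle, hnn, hcen,
      norm_le_indAut _, indAut_le_norm _, syl_indAut hre (hF.isFullyAutomized hS hE.isFullyNormalized),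
      fun g hg x hx hxE e => ?_, ?_, fun _ => hbig⟩
  · have := syl_indAut hre (hF.isFullyAutomized hS hQ)
    rwa [NC, inf_eq_left.2 (lv_norm S 1)] at this
  · obtain ⟨f, k1, k2⟩ := hrec.exists_ext_of_le (mem_indAut.1 hg) (zpowers_le.2 (hsub g hg x hx e))
    obtain ⟨m, k3, k4⟩ := hext _ (lt_of_le_of_ne le_sup_left fun e => hxE
      (e ▸ mem_sup_right (mem_zpowers x))) (sup_le hle (zpowers_le.2 (hN hx))) f k1
    exact ⟨m, k3, fun r hr => (k2 r hr).symm.trans (k4 r (mem_sup_left hr))⟩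
  · by_contra! hb
    obtain ⟨x, hx, hxE⟩ := SetLike.exists_of_lt (lt_normalizerIn hS (hE.lt hF hS))
    refine (hF.isEssential_iff_extAut hS (hE.lt hF hS) hE.isFullyNormalized).1 hE
      (le_antisymm extAut_le_autGroup fun α hα => hrec.mem_extAut hα (a := x) ?_ hxE)
    obtain ⟨g, k1, k2⟩ := exists_indAut hre hES (isIso_of_mem_autGroup hES hα)
    obtain ⟨-, -, b, k3, k4⟩ := mem_extSub.1 (hsub g k1 x hx (hb g k1 x hx))
    refine mem_extSub.2 ⟨hx.1, hx.2, b, k3, fun r hr => ?_⟩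
    rw [k2 r hr, k2 _ (H9.conj_mem_of_mem_normalizer hx.2 hr)]; exact k4 r hr

end Realized

theorem img_lcs {G : Type*} [Group G] {S' : Subgroup G} {t : Ω → G} {s : G → Ω}
    (h : GrpIso S S' t s) (k : ℕ) : img (S.lowerCentralSeries k) t = S'.lowerCentralSeries k := by
  induction k with
  | zero => exact h.img_top
  | succ k ih =>
    rw [Subgroup.lowerCentralSeries_succ, Subgroup.lowerCentralSeries_succ, ← ih,
      h.img_commutator (H9.lcs_le S k) le_rfl, h.img_top]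

/-- Main theorem A. -/
theorem M5.eq_gam (h : M5 p S n) (hF : F.IsSaturated p) (hE : F.IsEssential p E)
    (hle : E ≤ gam S) : E = gam S := by
  let ι : S →* Equiv.Perm S := MulAction.toPermHom S S
  have hι : Function.Injective ι := MulAction.toPerm_injective
  obtain ⟨s, hs⟩ := GrpIso.exists_of_inj (isHomOn_homFun ι) fun x hx y hy e => by
    rw [homFun_of_mem _ hx, homFun_of_mem _ hy] at e
    exact congrArg Subtype.val (hι e)
  obtain ⟨D, hD⟩ := F.exists_isoVia hs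
  have hre : ∀ P f, D.IsMor P f → ∃ g : Equiv.Perm S, ∀ x ∈ P, f x = g * x * g⁻¹ := by
    intro P' f' hf'
    obtain ⟨P, hP, rfl⟩ := hs.exists_img hf'.le
    have hf := hD.isMor_symm hP hf'
    let φ : P.subgroupOf S →* S := MonoidHom.mk' (fun x => ⟨_, hf.mem (mem_subgroupOf.1 x.2)⟩)
      fun x y => Subtype.ext (hf.map_mul (mem_subgroupOf.1 x.2) (mem_subgroupOf.1 y.2))
    obtain ⟨σ, hσ⟩ := H7.Tree.exists_perm _ φ fun x y e => Subtype.ext (Subtype.ext
      (hf.inj (mem_subgroupOf.1 x.2) (mem_subgroupOf.1 y.2) (congrArg Subtype.val e)))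
    refine ⟨σ, fun y hy => ?_⟩
    obtain ⟨x, hx, rfl⟩ := (hs.mem_img hP).1 hy
    have e1 : ι (φ ⟨⟨x, hP hx⟩, hx⟩) = f' (homFun ι x) := by
      rw [← hs.right _ (hf'.mem hy), homFun_of_mem _ (hf.mem hx)]; rfl
    rw [← e1, homFun_of_mem _ (hP hx), eq_mul_inv_iff_mul_eq]
    exact Equiv.ext fun y => (hσ ⟨⟨x, hP hx⟩, hx⟩ y).symm
  have h' : M5 p (img S (homFun ι)) n := ⟨⟨hs.isPGroup h.mc.hS, hs.card_eq ▸ h.mc.card, h.mc.three,
    fun e => h.mc.ne ((hs.img_eq_bot_iff (H9.lcs_le S _)).1 ((img_lcs hs _).trans e))⟩, h.h5, h.h4⟩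
  have e := h'.eq_gam_of_realized hre (hD.isSaturated hF) _ (hs.img_le hE.le) (hD.isEssential hE)
    (img_le_iff.2 fun x hx => ⟨hs.mem x (hE.le hx), fun y hy => by
      rw [← img_lcs hs] at hy ⊢
      obtain ⟨z, hz, rfl⟩ := (hs.mem_img (H9.lcs_le S _)).1 hy
      rw [← hs.hom.map_commutatorElement (hE.le hx) (H9.lcs_le S _ hz)]
      exact mem_img_of_mem _ ((hle hx).2 z hz)⟩)
  have : Finite (gam S) := H9.finite_of_le (lv_le S 1)
  refine eq_of_le_of_card_ge hle ?_
  rw [← hs.card_img hE.le, e, h.mc.card_gam h.h4, h'.mc.card_gam h.h4]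

end Cfsg.Agent.MX
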