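import Cfsg.Agent.Lib.MX.Defs
import Cfsg.Agent.Lib.H9.SmallEss

/-!
# S5267: the primes two and three (see notes/MX.md)
-/

set_option autoImplicit false
set_option linter.unusedSectionVars false
set_option linter.unusedVariables false

namespace Cfsg.Agent.MX

open Subgroup Cfsg.Agent.H9 Cfsg.Agent.FT Cfsg.FusionSystem
open scoped commutatorElement

universe u

section Grp

variable {G : Type u} [Group G] {S : Subgroup G} [Finite S] {p n : ℕ} [hp : Fact p.Prime]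

local notation "L" => Subgroup.lowerCentralSeries S

theorem sm_cases (h3 : p ≤ 3) : p = 2 ∨ p = 3 := by have := hp.out.two_le; omega

theorem sm_two [Fact (Nat.Prime 2)] (h : MaxCl 2 S n) {s : G} (hs : Unif S n s) {k : ℕ}
    (hk : 1 ≤ k) : ∀ y ∈ L k, ∀ t ∈ gam S, ⁅y, t⁆ ∈ L (k + 2) := by
  induction k, hk using Nat.le_induction with
  | base => exact fun y hy t ht => commutator_mem_comm (ht.2 y hy)
  | succ j hj ih =>
    intro y hy t ht
    by_cases hn : j + 1 + 2 ≤ n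
    swap
    · rw [h.eq_bot (by omega), mem_bot] at hy
      simp [hy]
    obtain ⟨a, ha, ha'⟩ := SetLike.exists_of_lt (h.lt (k := j) (by omega))
    have h1 : a ^ 2 ∈ L (j + 1) := h.pow_mem hs hj ha
    have h2 : a ^ 2 ∉ L (j + 1 + 1) := h.pow_not_mem hs hj ha ha' hn
    refine commutator_mem_of_sup_zpowers (fun b hb => lcs_norm S _ (lcs_le S _ hb))
      (h.sup_eq (by omega) h1 h2) (fun b hb => commutator_mem_lcs hb ht.1) ?_ hy
    have hc : ⁅a, t⁆ ∈ L (j + 2) := ih a ha t ht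
    have e : ⁅a ^ 2, t⁆ = ⁅a, ⁅a, t⁆⁆ * ⁅a, t⁆ ^ 2 := by
      simp only [commutatorElement_def, pow_two, mul_inv_rev, inv_inv, mul_assoc,
        inv_mul_cancel_left, mul_inv_cancel_left]
    rw [e]
    exact mul_mem (lcs_anti S (by omega) (commutator_mem_lcs_add ha hc))
      (h.pow_mem hs (k := j + 2) (by omega) hc)

theorem sm_step (h : MaxCl p S n) (h3 : p ≤ 3) {s : G} (hs : Unif S n s) {k : ℕ} (hk : 1 ≤ k) :
    ∀ y ∈ L k, ∀ t ∈ gam S, ⁅y, t⁆ ∈ L (k + 2) := by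
  rcases sm_cases h3 with rfl | rfl
  exacts [sm_two h hs hk, h.three_commutator_gam hs hk]

theorem sm_unif (h : MaxCl p S n) (h4 : 4 ≤ n) (hr : TwoStep S n 4) : ∃ s, Unif S n s := by
  obtain ⟨s, hs, h1, h2⟩ := exists_not_mem_two (E := S) (A := gam S) (B := cst S (n - 3))
    (h.cst_lt (k := 1) h4).not_ge (h.cst_lt (by omega)).not_ge
  refine ⟨s, hs, fun e => h1 (MaxCl.one_le_gam e), fun k hk hn y hy =>
    h.step_of_not_mem hk hs ?_ hy⟩
  rcases (by omega : k + 4 ≤ n ∨ k = n - 3) with hn' | rfl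
  exacts [h.not_mem_cst hr (by omega) hk hn' h1, h2]

theorem sm_twoStep (h3 : p ≤ 3) {n : ℕ} {G : Type u} [Group G] {S : Subgroup G} [Finite S]
    (h : MaxCl p S n) : TwoStep S n 4 := by
  induction n generalizing G with
  | zero => exact fun k _ hk => by omega
  | succ n ih =>
    intro k hk hn y hy t ht
    obtain ⟨Q, _, _, π, hQ, h1, h2⟩ := h.exists_quot (by omega)
    obtain ⟨s, hs⟩ := sm_unif hQ (by omega) (ih hQ)
    have := sm_step hQ h3 hs hk _ ((h1 k (by omega) ⟨y, lcs_le S k hy⟩).2 hy) _ (h2 ⟨t, ht.1⟩ ht)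
    rwa [← map_commutatorElement, h1 _ (by omega)] at this

theorem sm_pow_one (h : MaxCl p S n) (h5 : 5 ≤ n) (h3 : p ≤ 3) {s : G} (hs : Unif S n s) {t : G}
    (ht : Lev S 1 t) : Lev S p (t ^ p) := by
  rcases sm_cases h3 with rfl | rfl
  swap
  · exact h.three_pow_gam h5 hs ht.1 ht.2
  have hsg := h.not_mem_gam (by omega) hs
  have hts : Unif S n (t * s) := h.unif_of_not_mem_gam (by omega) (fun k hk => sm_two h hs hk)
    (S.mul_mem ht.mem hs.mem) fun e => hsg ((mul_mem_cancel_left ht.1).1 e)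
  have hw : (t * s) ^ 2 * (s ^ 2)⁻¹ ∈ lv S 3 := lcs_anti S (by omega : 2 ≤ n - 2)
    (mul_mem (h.pow_mem_center hts) (inv_mem (h.pow_mem_center hs)))
  have h1 := ((ht.inv.comm_one h (by omega) hs.mem hsg).inv).mul' hw
  have e : (t * s) ^ 2 * (s ^ 2)⁻¹ * ⁅t⁻¹, s⁆⁻¹ = t ^ 2 := by
    simp only [commutatorElement_def, pow_two]; group
  rwa [e] at h1

theorem sm_pow (h : MaxCl p S n) (h5 : 5 ≤ n) (h3 : p ≤ 3) {s : G} (hs : Unif S n s) {i : ℕ}
    (hi : 1 ≤ i) {x : G} (hx : Lev S i x) :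
    x ^ p ∈ lv S (i + (p - 1)) ∧ (i + (p - 1) < n → x ^ p ∉ lv S (i + (p - 1) + 1)) := by
  have := hp.out.two_le
  rcases hi.eq_or_lt with rfl | hi
  · rw [show 1 + (p - 1) = p by omega]
    exact ⟨(sm_pow_one h h5 h3 hs hx).1, fun _ => (sm_pow_one h h5 h3 hs hx).2⟩
  refine ⟨pow_mem_add h (by omega) hs hi hx.1, fun hn => ?_⟩
  obtain ⟨h1, h2⟩ := (lev_iff hi).1 hx
  rw [lv_succ (by omega), show i + (p - 1) = i - 1 + (p - 1) + 1 by omega]
  exact h.pow_not_mem hs (by omega) h1 h2 (by omega)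

theorem sm_iff (h : MaxCl p S n) (h5 : 5 ≤ n) (h3 : p ≤ 3) {s : G} (hs : Unif S n s) (m : ℕ)
    {x : G} (hx : x ∈ gam S) : x ∈ lv S (n - (p - 1) * m) ↔ x ^ p ^ m = 1 := by
  induction m generalizing x with
  | zero => simp [lv_eq_bot h (by omega) le_rfl]
  | succ m ih =>
    rw [pow_succ', pow_mul, ← ih (pow_mem hx p), mul_add, mul_one]
    by_cases h1 : x = 1
    · simp [h1]
    obtain ⟨i, hi, hl⟩ := exists_lev h (by omega) hx.1 h1
    obtain ⟨h2, h3⟩ := sm_pow h h5 h3 hs (hl.le_of_mem (j := 1) hx) hl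
    refine ⟨fun e => lv_anti S ?_ h2, fun e => lv_anti S ?_ hl.1⟩
    · have := hl.le_of_mem e; omega
    · by_contra hc
      exact h3 (by omega) (lv_anti S (by omega) e)

end Grp

variable {Ω : Type u} [Group Ω] {S E : Subgroup Ω} [Finite S] {F : FusionSystem S} {p n : ℕ}
  [hp : Fact p.Prime]

theorem twoStep_of_le_three (h : MaxCl p S n) (h4 : 4 ≤ n) (h3 : p ≤ 3) :
    ∀ k, 1 ≤ k → ∀ y ∈ S.lowerCentralSeries k, ∀ t ∈ gam S,
      ⁅y, t⁆ ∈ S.lowerCentralSeries (k + 2) := by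
  obtain ⟨s, hs⟩ := sm_unif h h4 (sm_twoStep h3 h)
  exact fun k hk => sm_step h h3 hs hk

theorem eq_gam_of_le_three (h : MaxCl p S n) (h4 : 4 ≤ n) (h3 : p ≤ 3) (hF : F.IsSaturated p)
    (hE : F.IsEssential p E) (hle : E ≤ gam S) : E = gam S := by
  obtain ⟨M, hc⟩ := exists_essCtx h.hS hF hE
  have := hc.finite
  refine le_antisymm hle (by_contra fun hne => ?_)
  rcases h4.eq_or_lt with rfl | h5
  · exact hne fun g hg => hc.mem_of_comm hg.1 fun x hx => commutatorElement_eq_one_iff_mul_comm.1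
      (eq_one_of_mem h le_rfl le_rfl (gam_comm h le_rfl (hle hx) hg))
  obtain ⟨s, hs⟩ := sm_unif h h4 (sm_twoStep h3 h)
  obtain ⟨t, ht, htE, hn, -⟩ := hc.exists_mem (C := gam S) MaxCl.gam_le
    (hc.le.trans (lv_norm S 1)) hne
  have hp2 := hp.out.two_le
  refine htE (hc.mem_of_inn ht.1 hn (hc.rad.mem_inn_of_chain hc.isPGroup
    (fun m => (lv S (n - (p - 1) * m)).subgroupOf E) 0 n (Nat.zero_le _) (fun m α _ x hx => ?_) ?_ ?_
    (hc.conj_mem ht.1 hn) fun m _ => trivOn_conjAut_of_commutator hn fun x hxE hx => ?_))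
  · rw [mem_subgroupOf, sm_iff h h5 h3 hs m (hle (Subtype.property _))] at hx ⊢
    rw [← coe_pow, ← map_pow, show x ^ p ^ m = 1 from Subtype.ext hx, map_one, coe_one]
  · simp [lv_eq_bot h h4 le_rfl]
  · rw [subgroupOf_eq_top, Nat.sub_eq_zero_of_le (Nat.le_mul_of_pos_left n (by omega))]
    exact hc.le
  · rw [mul_add, mul_one] at hx
    by_cases h1 : n - (p - 1) * m ≤ 4
    · exact lv_anti S h1 (gam_comm h h4 (hle hxE) ht)
    rw [lv_of_two (by omega)] at hx ⊢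
    exact lcs_anti S (by omega) (sm_step h h3 hs (by omega) x hx t ht)

end Cfsg.Agent.MX
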