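import Cfsg.Agent.Lib.MX.TW2
import Cfsg.Agent.Lib.MX.Red
import Cfsg.Agent.Lib.MX.Small

/-!
# S5267: assembly (see notes/MX.md)
-/

set_option autoImplicit false
set_option linter.unusedSectionVars false
set_option linter.unusedVariables false

namespace Cfsg.Agent.MX

open Subgroup Cfsg.Agent.H9 Cfsg.Agent.FT Cfsg.FusionSystem
open scoped commutatorElement

universe u

variable {Ω : Type u} [Group Ω] {S E : Subgroup Ω} [Finite S] {F : FusionSystem S} {p n : ℕ}
  [hp : Fact p.Prime]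

theorem ne_of_le_three (h : MaxCl p S n) (h4 : 4 ≤ n) (h3 : p ≤ 3) : NE S n := by
  rw [ne_iff h h4, lv_of_two (by omega)]
  refine fun t ht => mem_cent.2 fun y hy => commutatorElement_eq_one_iff_mul_comm.1 ?_
  have := twoStep_of_le_three h h4 h3 _ (by omega) y hy t ht
  rwa [h.eq_bot (by omega), mem_bot] at this

theorem five_le (h3 : ¬ p ≤ 3) : 5 ≤ p := by
  by_contra h5
  obtain rfl : p = 4 := by omega
  exact absurd hp.out (by norm_num)

theorem main (h : MaxCl p S n) (h4 : 4 ≤ n) (hF : F.IsSaturated p) (hE : F.IsEssential p E) :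
    PearlT p E ∨ E = gam S ∨ E = cst S (n - 3) := by
  by_cases h3 : p ≤ 3
  · by_cases hle : E ≤ gam S
    · exact Or.inr (Or.inl (eq_gam_of_le_three h h4 h3 hF hE hle))
    obtain ⟨s, hs, hs'⟩ := SetLike.not_le_iff_exists.1 hle
    exact Or.inl (pearl_of_unif h h4 hF hE hs
      (h.unif_of_not_mem_gam h4 (twoStep_of_le_three h h4 h3) (hE.le hs) hs'))
  have h5 : M5 p S n := ⟨h, five_le h3, h4⟩
  by_cases hle : E ≤ gam S
  · exact Or.inr (Or.inl (h5.eq_gam hF hE hle))
  obtain ⟨w, hw, hw'⟩ := SetLike.not_le_iff_exists.1 hle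
  by_cases hle' : E ≤ cst S (n - 3)
  · rcases h5.tw_cases hF hE hle' hw hw' with ⟨-, e⟩ | ⟨-, e⟩
    · exact Or.inr (Or.inr e)
    · exact (h5.not_tw hF hE hle' hw' e).elim
  obtain ⟨s, hs, h1, h2⟩ := exists_not_mem_two hle hle'
  exact Or.inl (pearl_of_unif h h4 hF hE hs (h5.unif (hE.le hs) h1 h2))

theorem main2 (h : MaxCl p S n) (h4 : 4 ≤ n) (hne : ¬ NE S n) (hF : F.IsSaturated p)
    (hE : F.IsEssential p E) (hc : Nat.card E = p ^ 3) (hx : IsExtraspecial p E) : False :=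
  M5.not_extraspecial ⟨h, five_le fun h3 => hne (ne_of_le_three h h4 h3), h4⟩ hne hF hE hc hx

end Cfsg.Agent.MX
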