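import Cfsg.Agent.Lib.H1.Dickson

/-!
# S5267: two semisimple elements with two eigenvalues in a `p'`-group (see notes/MX.md)
-/

set_option autoImplicit false
set_option linter.unusedSectionVars false
set_option linter.unusedVariables false

namespace Cfsg.Agent.MX

open Subgroup MulAction
open scoped MatrixGroups LinearAlgebra.Projectivization

section Klein

variable {G P : Type*} [Group G] [Finite G] [MulAction G P] {q : ℕ} {a b g g' : G} {x y z : P}

theorem kl_arith {N o1 o2 o3 n1 n2 n3 : ℕ} (e1 : o1 * n1 = N) (e2 : o2 * n2 = N)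
    (e3 : o3 * n3 = N) (h : o1 + o2 + o3 = N + 2) (h1 : 4 ≤ n1) (he : Even n1) (h2 : 2 ≤ n2)
    (h3 : 2 ≤ n3) : o1 ≤ 2 ∨ (n1 = 4 ∧ o1 = 6 ∧ n2 ≤ 3 ∧ n3 ≤ 3) := by
  have k : ∀ {o n : ℕ} (r : ℕ), o * n = N → r ≤ n → o * r ≤ N := fun r e h =>
    e ▸ Nat.mul_le_mul_left _ h
  obtain ⟨r, hr⟩ := he
  have a1 := k 4 e1 h1
  have a2 := k 6 e1
  have a3 := k 3 e2
  have a4 := k 4 e2
  have a5 := k 3 e3
  have a6 := k 4 e3
  rcases (show n1 = 4 ∨ 6 ≤ n1 by omega) with rfl | b1 <;>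
    rcases (show n2 = 2 ∨ n2 = 3 ∨ 4 ≤ n2 by omega) with rfl | rfl | b2 <;>
    rcases (show n3 = 2 ∨ n3 = 3 ∨ 4 ≤ n3 by omega) with rfl | rfl | b3 <;> omega

theorem kl_orb (h : H1.DSetup q G P fun _ => ⊥) (h4 : 4 ≤ Nat.card (stabilizer G x))
    (he : Even (Nat.card (stabilizer G x))) :
    (orbit G x).ncard ≤ 2 ∨ (Nat.card (stabilizer G x) = 4 ∧ (orbit G x).ncard = 6 ∧
      ∀ y, 4 ≤ Nat.card (stabilizer G y) → y ∈ orbit G x) := by
  classical
  have m : ∀ z : P, z ∈ h.finite_support.toFinset ↔ 2 ≤ Nat.card (stabilizer G z) := fun z => by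
    rw [Set.Finite.mem_toFinset, Set.mem_ofPred_eq, ← one_lt_card_iff_ne_bot]; rfl
  have s0 := h.sum_eq
  rw [← Finset.sum_fiberwise_of_maps_to (t := h.finite_support.toFinset.image (orbit G))
    (g := orbit G) fun z hz => Finset.mem_image_of_mem _ hz,
    Finset.sum_congr rfl (g := fun O => (Nat.card G : ℤ) - O.ncard) fun O hO => ?_] at s0
  swap
  · obtain ⟨z, hz, rfl⟩ := Finset.mem_image.1 hO
    have := h.sum_orbit z
    rw [card_bot] at this
    rw [show (h.finite_support.toFinset.filter fun i => orbit G i = orbit G z) =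
      (H1.finite_orbit (G := G) z).toFinset from ?_]
    · simp only [card_bot] at this ⊢
      rw [this]
      push_cast
      ring
    ext w
    rw [Finset.mem_filter, Set.Finite.mem_toFinset (H1.finite_orbit z), orbit_eq_iff,
      and_iff_right_iff_imp]
    rintro ⟨g, rfl⟩
    rw [m, H1.card_stabilizer_smul]
    exact (m z).1 hz
  have hx := Finset.mem_image_of_mem (orbit G) ((m x).2 (by omega))
  rw [← Finset.add_sum_erase _ _ hx] at s0
  have e1 := H1.ncard_orbit_mul (G := G) x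
  have hT : ∀ O ∈ (h.finite_support.toFinset.image (orbit G)).erase (orbit G x),
      ∃ n, 2 ≤ n ∧ O.ncard * n = Nat.card G := fun O hO => by
    obtain ⟨z, hz, rfl⟩ := Finset.mem_image.1 (Finset.mem_of_mem_erase hO)
    exact ⟨_, (m z).1 hz, H1.ncard_orbit_mul z⟩
  have hy : ∀ y : P, 4 ≤ Nat.card (stabilizer G y) → y ∉ orbit G x →
      orbit G y ∈ (h.finite_support.toFinset.image (orbit G)).erase (orbit G x) := fun y h1 h2 =>
    Finset.mem_erase.2 ⟨fun e => h2 (orbit_eq_iff.1 e),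
      Finset.mem_image_of_mem _ ((m y).2 (by omega))⟩
  generalize (h.finite_support.toFinset.image (orbit G)).erase (orbit G x) = T at s0 hT hy
  have a1 : (orbit G x).ncard * 4 ≤ Nat.card G := e1 ▸ Nat.mul_le_mul_left _ h4
  have a2 := Nat.card_pos (α := G)
  rcases (show T.card = 0 ∨ T.card = 1 ∨ T.card = 2 ∨ 3 ≤ T.card by omega) with e | e | e | e
  · rw [Finset.card_eq_zero.1 e, Finset.sum_empty] at s0
    omega
  · obtain ⟨O, rfl⟩ := Finset.card_eq_one.1 e
    rw [Finset.sum_singleton] at s0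
    omega
  · obtain ⟨O, O', hO, rfl⟩ := Finset.card_eq_two.1 e
    rw [Finset.sum_pair hO] at s0
    obtain ⟨n2, b1, b2⟩ := hT O (by simp)
    obtain ⟨n3, b3, b4⟩ := hT O' (by simp)
    refine (kl_arith e1 b2 b4 (by omega) h4 he b1 b3).imp_right fun c => ⟨c.1, c.2.1, fun y h1 =>
      by_contra fun h2 => ?_⟩
    have b5 := H1.ncard_orbit_mul (G := G) y
    have b6 : 0 < (orbit G y).ncard := Nat.pos_of_mul_pos_right (b5 ▸ a2)
    rcases Finset.mem_insert.1 (hy y h1 h2) with e | e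
    · rw [← b2, ← e] at b5
      have := Nat.eq_of_mul_eq_mul_left b6 b5
      omega
    · rw [← b4, ← Finset.mem_singleton.1 e] at b5
      have := Nat.eq_of_mul_eq_mul_left b6 b5
      omega
  · have := Finset.card_nsmul_le_sum T (fun O => 2 * ((Nat.card G : ℤ) - O.ncard)) (Nat.card G)
      fun O hO => by
        obtain ⟨n, b1, b2⟩ := hT O hO
        have : O.ncard * 2 ≤ Nat.card G := b2 ▸ Nat.mul_le_mul_left _ b1
        omega
    rw [← Finset.mul_sum, nsmul_eq_mul] at this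
    have b1 : (3 : ℤ) * Nat.card G ≤ T.card * Nat.card G :=
      mul_le_mul_of_nonneg_right (by exact_mod_cast e) (by positivity)
    omega

theorem kl_comm (h : H1.DSetup q G P fun _ => ⊥) (hg : g • x = x) (hg' : g' • x = x) :
    g * g' = g' * g :=
  commutatorElement_eq_one_iff_mul_comm.1 (mem_bot.1 (h.comm x g g' hg hg'))

theorem kl_fix (h : H1.DSetup q G P fun _ => ⊥) (h1 : g ≠ 1) (hg : g • x = x) (hg' : g' • x = x)
    (hz : g • z = z) : g' • z = z := by
  obtain ⟨y, hy, h2⟩ := h.two g x hg h1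
  rcases (h2 z).1 hz with rfl | rfl
  · exact hg'
  · refine ((h2 _).1 (by rw [← mul_smul, kl_comm h hg hg', mul_smul, hz])).resolve_left fun e =>
      hy ((smul_left_cancel_iff g').1 (e.trans hg'.symm))

theorem kl_inv (ha : orderOf a = 4) (hg : g ∈ zpowers a) (h1 : g ≠ 1) (h2 : g * g = 1) :
    g = a ^ 2 := by
  obtain ⟨i, rfl⟩ := mem_zpowers_iff.1 hg
  rw [← zpow_add, ← orderOf_dvd_iff_zpow_eq_one, ha] at h2
  rw [Ne, ← orderOf_dvd_iff_zpow_eq_one, ha] at h1
  rw [← zpow_natCast, zpow_eq_zpow_iff_modEq, ha, Int.ModEq]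
  omega

theorem klein (h : H1.DSetup q G P fun _ => ⊥) {k : ℕ} (hk : 2 ≤ k) (ha : orderOf a = 2 * k)
    (hb : orderOf b = 2 * k) : a ^ k * b ^ k = b ^ k * a ^ k := by
  have ne : ∀ {g : G}, orderOf g = 2 * k → g * g ≠ 1 := fun {g} hg e => by
    have := Nat.le_of_dvd two_pos (orderOf_dvd_of_pow_eq_one ((sq g).trans e))
    omega
  have ne1 : ∀ {g : G}, orderOf g = 2 * k → g ≠ 1 := fun hg e => ne hg (by rw [e, mul_one])
  have dv : ∀ {g : G} {x : P}, orderOf g = 2 * k → g • x = x →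
      2 * k ∣ Nat.card (stabilizer G x) := fun hg hx => hg ▸ Subgroup.orderOf_dvd_natCard _ hx
  have le : ∀ {g : G} {x : P}, orderOf g = 2 * k → g • x = x →
      4 ≤ Nat.card (stabilizer G x) := fun hg hx =>
    le_trans (by omega) (Nat.le_of_dvd Nat.card_pos (dv hg hx))
  by_cases hc : ∃ x : P, a • x = x ∧ b • x = x
  · obtain ⟨x, h1, h2⟩ := hc
    exact Commute.pow_pow (kl_comm h h1 h2) k k
  push Not at hc
  obtain ⟨x, hx⟩ := h.exists_fix a
  obtain ⟨y, hy⟩ := h.exists_fix b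
  rcases kl_orb h (le ha hx) (even_iff_two_dvd.2 ((dvd_mul_right 2 k).trans (dv ha hx))) with
    h1 | ⟨h1, h2, h3⟩
  · refine (hc x hx (kl_fix h (ne hb) (by rw [mul_smul, hy, hy]) hy ?_)).elim
    rw [← index_stabilizer] at h1
    have := (stabilizer G x).index_ne_zero_of_finite
    rcases (show (stabilizer G x).index = 1 ∨ (stabilizer G x).index = 2 by omega) with e | e
    · exact (index_eq_one.1 e).ge (mem_top _)
    · exact mul_self_mem_of_index_two e b
  obtain rfl : k = 2 := by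
    have := Nat.le_of_dvd four_pos (h1 ▸ dv ha hx)
    omega
  have st : ∀ {g : G} {z : P}, orderOf g = 4 → g • z = z → stabilizer G z ≤ zpowers g :=
    fun {g z} hg hz => by
      obtain ⟨t, rfl⟩ := h3 z (le hg hz)
      exact (eq_of_le_of_card_ge (zpowers_le.2 hz) (by
        rw [Nat.card_zpowers, hg, H1.card_stabilizer_smul, h1])).ge
  obtain ⟨x', hx', h4⟩ := h.two a x hx (ne1 ha)
  obtain ⟨y', hy', h5⟩ := h.two b y hy (ne1 hb)
  have hy2 := (h5 y').2 (Or.inr rfl)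
  have fr : ∀ g : G, g • x = x → g • y = y → g = 1 := fun g h6 h7 =>
    by_contra fun e => hc y (kl_fix h e h6 hx h7) hy
  have e1 : orbit (stabilizer G x) y = orbit G x \ {x, x'} := by
    refine Set.eq_of_subset_of_ncard_le ?_ ?_ (H1.finite_orbit x).sdiff
    · rintro _ ⟨u, rfl⟩
      refine ⟨mapsTo_smul_orbit (u : G) x (h3 y (le hb hy)), fun e => hc y ?_ hy⟩
      have h6 : a • (u : G) • y = (u : G) • y := (h4 _).2 e
      rwa [← mul_smul, kl_comm h hx u.2, mul_smul, smul_left_cancel_iff] at h6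
    · have := H1.ncard_orbit_mul (G := stabilizer G x) y
      rw [show stabilizer (stabilizer G x) y = ⊥ from eq_bot_iff.2 fun u hu =>
        Subtype.ext (fr u u.2 hu), card_bot, h1] at this
      rw [Set.ncard_sdiff (Set.pair_subset (mem_orbit_self x)
        (h3 x' (le ha ((h4 x').2 (Or.inr rfl))))), h2, Set.ncard_pair hx'.symm]
      omega
  obtain ⟨⟨g, hg⟩, e2⟩ := e1.ge ⟨h3 y' (le hb hy2), fun e => hc y' ((h4 _).2 e) hy2⟩
  replace e2 : g • y = y' := e2
  have e3 : g • y' = y := by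
    refine ((h5 _).1 (kl_fix h (g := g * b * g⁻¹) (x := y') (by simpa using ne1 hb) ?_ hy2
      ?_)).resolve_right fun e => hy' ((smul_left_cancel_iff g).1 (e.trans e2.symm))
    · rw [← e2, mul_smul, inv_smul_smul, mul_smul, hy]
    · rw [mul_smul, inv_smul_smul, mul_smul, hy2]
  have e4 : g * g = 1 := fr _ (mul_mem hg hg) (by rw [mul_smul, e2, e3])
  have e5 := kl_inv ha (st ha hx hg) (fun e => hy' (by rw [← e2, e, one_smul])) e4
  rw [← e5, ← mul_inv_eq_iff_eq_mul]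
  refine kl_inv hb (st hb hy ?_) (by simpa [sq] using ne hb) ?_
  · rw [mem_stabilizer_iff, inv_eq_of_mul_eq_one_right e4, sq, mul_smul, mul_smul, mul_smul, e2,
      hy2, hy2, e3]
  · rw [conj_mul, ← pow_add, show 2 + 2 = orderOf b from hb.symm, pow_orderOf_eq_one, mul_one,
      mul_inv_cancel]

end Klein

variable {p : ℕ} [hp : Fact p.Prime]

section Closed

variable {X W k : Type*} [Group X] [Finite X] [Field k] [AddCommGroup W] [Module k W]
  {ρ : X →* Module.End k W} {σ : (Fin 2 → k) →ₗ[k] W} {a b : X} {c μ : k} {e : Module.End k W}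
  {w w' : W}

/-- Pairs acting in the same way on the lines of a plane. -/
def klRel (ρ : X →* Module.End k W) (σ : (Fin 2 → k) →ₗ[k] W) (hσ : Function.Injective σ) :
    Subgroup (X × SL(2, k)) where
  carrier := {y | ∃ r : k, r ≠ 0 ∧ ∀ v, ρ y.1 (σ v) = r • σ (y.2 • v)}
  one_mem' := ⟨1, one_ne_zero, fun v => by simp⟩
  mul_mem' := by
    rintro y z ⟨r, hr, h1⟩ ⟨s, hs, h2⟩
    refine ⟨s * r, mul_ne_zero hs hr, fun v => ?_⟩
    rw [Prod.fst_mul, Prod.snd_mul, map_mul, Module.End.mul_apply, h2, map_smul, h1, mul_smul,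
      mul_smul]
  inv_mem' := by
    rintro y ⟨r, hr, h1⟩
    refine ⟨r⁻¹, inv_ne_zero hr, fun v => ?_⟩
    have := congrArg (ρ y.1⁻¹) (h1 (y.2⁻¹ • v))
    rw [smul_inv_smul, (ρ y.1⁻¹).map_smul, ← Module.End.mul_apply, ← map_mul, inv_mul_cancel,
      map_one] at this
    rw [eq_inv_smul_iff₀ hr]
    exact this.symm

variable {hσ : Function.Injective σ} {y z : X × SL(2, k)}

theorem klRel_eq (hy : y ∈ klRel ρ σ hσ) (hz : z ∈ klRel ρ σ hσ) (h : ρ y.1 = ρ z.1) :
    toPermHom SL(2, k) (ℙ k (Fin 2 → k)) y.2 = toPermHom SL(2, k) (ℙ k (Fin 2 → k)) z.2 := by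
  obtain ⟨r, hr, h1⟩ := hy
  obtain ⟨s, hs, h2⟩ := hz
  refine Equiv.ext fun x => ?_
  change y.2 • x = z.2 • x
  rw [← x.mk_rep, Projectivization.smul_mk, Projectivization.smul_mk,
    Projectivization.mk_eq_mk_iff']
  refine ⟨r⁻¹ * s, hσ ?_⟩
  rw [map_smul, mul_smul, ← h2, ← h, h1, inv_smul_smul₀ hr]

theorem klRel_par (hy : y ∈ klRel ρ σ hσ) (hz : z ∈ klRel ρ σ hσ)
    (h : toPermHom SL(2, k) (ℙ k (Fin 2 → k)) y.2 = toPermHom SL(2, k) (ℙ k (Fin 2 → k)) z.2)
    {v : Fin 2 → k} (hv : v ≠ 0) : ∃ t : k, ρ y.1 (σ v) = t • ρ z.1 (σ v) := by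
  obtain ⟨r, hr, h1⟩ := hy
  obtain ⟨s, hs, h2⟩ := hz
  have h3 : y.2 • Projectivization.mk k v hv = z.2 • Projectivization.mk k v hv :=
    DFunLike.congr_fun h (Projectivization.mk k v hv)
  rw [Projectivization.smul_mk, Projectivization.smul_mk, Projectivization.mk_eq_mk_iff'] at h3
  obtain ⟨t, ht⟩ := h3
  refine ⟨r * t * s⁻¹, ?_⟩
  rw [h1, h2, ← ht, map_smul, mul_smul, mul_smul, inv_smul_smul₀ hs]

theorem kl_pow (he : e * e = e) (ha : ρ a = 1 + (c - 1) • e) (j : ℕ) :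
    ρ (a ^ j) = 1 + (c ^ j - 1) • e := by
  induction j with
  | zero => simp
  | succ j ih =>
    rw [pow_succ, map_mul, ih, ha]
    simp only [add_mul, mul_add, one_mul, mul_one, smul_mul_smul_comm, he, add_assoc, ← add_smul]
    congr 2
    ring

theorem kl_elt [IsAlgClosed k] (hσ : Function.Injective σ) (s0 : σ ![1, 0] = w)
    (s1 : σ ![0, 1] = w') (h2 : (2 : k) ≠ 0) (hc : c ≠ 0) (he : e * e = e)
    (ha : ρ a = 1 + (c - 1) • e) (hμ : μ ≠ 0) (h0 : (1 - 2 * e) w = μ • w')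
    (h1 : (1 - 2 * e) w' = μ⁻¹ • w) : ∃ g, (a, g) ∈ klRel ρ σ hσ ∧
      orderOf (toPermHom SL(2, k) (ℙ k (Fin 2 → k)) g) = orderOf c := by
  have hs : ∀ v, σ v = v 0 • w + v 1 • w' := fun v => by
    rw [← s0, ← s1, ← map_smul, ← map_smul, ← map_add]
    congr 1
    ext i
    fin_cases i <;> simp
  have e0 : e w = (2 : k)⁻¹ • (w - μ • w') := by
    rw [eq_inv_smul_iff₀ h2, ← h0]
    simp [two_mul, two_smul]
  have e1 : e w' = (2 : k)⁻¹ • (w' - μ⁻¹ • w) := by
    rw [eq_inv_smul_iff₀ h2, ← h1]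
    simp [two_mul, two_smul]
  obtain ⟨s, hs2⟩ := IsAlgClosed.exists_eq_mul_self c
  have s2 : s ≠ 0 := fun e => hc (by rw [hs2, e, mul_zero])
  obtain ⟨g, hg⟩ : ∃ g, (a, g) ∈ klRel ρ σ hσ := by
    refine ⟨⟨!![s⁻¹ * ((c + 1) / 2), s⁻¹ * ((1 - c) / 2 * μ⁻¹);
      s⁻¹ * ((1 - c) / 2 * μ), s⁻¹ * ((c + 1) / 2)], ?_⟩, s, s2, fun v => ?_⟩
    · rw [Matrix.det_fin_two_of, hs2]
      field_simp
      ring
    · rw [hs, hs, H1.sl_smul_zero, H1.sl_smul_one, ha]
      simp only [LinearMap.add_apply, Module.End.one_apply, LinearMap.smul_apply, map_add, map_smul,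
        e0, e1, Matrix.SpecialLinearGroup.coe_mk, Matrix.of_apply, Matrix.cons_val',
        Matrix.cons_val_zero, Matrix.cons_val_one, Matrix.cons_val_fin_one]
      match_scalars <;> field_simp <;> ring
  refine ⟨g, hg, orderOf_eq_orderOf_iff.2 fun j => ?_⟩
  rw [← map_pow, ← map_one (toPermHom SL(2, k) (ℙ k (Fin 2 → k)))]
  refine ⟨fun h => ?_, fun h => klRel_eq (pow_mem hg j) (one_mem _) ?_⟩
  · obtain ⟨t, ht⟩ := klRel_par (pow_mem hg j) (one_mem _) h (v := ![1, 0])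
      fun e => one_ne_zero (congrFun e 0)
    change ρ (a ^ j) _ = t • ρ 1 _ at ht
    rw [kl_pow he ha, map_one, s0] at ht
    have h3 : σ ![1 + (c ^ j - 1) / 2 - t, -((c ^ j - 1) / 2 * μ)] = σ 0 := by
      simp only [LinearMap.add_apply, Module.End.one_apply, LinearMap.smul_apply, e0] at ht
      rw [hs, map_zero, ← sub_eq_zero.2 ht]
      simp only [Matrix.cons_val_zero, Matrix.cons_val_one]
      match_scalars <;> ring
    simpa [h2, hμ, sub_eq_zero] using congrFun (hσ h3) 1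
  · change ρ (a ^ j) = ρ 1
    rw [kl_pow he ha, h, map_one, sub_self, zero_smul, add_zero]

theorem kl_eigen [IsAlgClosed k] [FiniteDimensional k W] {u : Module.End k W} {N : ℕ}
    (hN : (N : k) ≠ 0) (h : u ^ N = 1) (h4 : u ^ 4 ≠ 1) :
    ∃ (w : W) (l : k), w ≠ 0 ∧ l ^ 4 ≠ 1 ∧ u w = l • w := by
  have hU : ∀ x ∈ LinearMap.range (u ^ 4 - 1), u x ∈ LinearMap.range (u ^ 4 - 1) := by
    rintro _ ⟨x, rfl⟩
    refine ⟨u x, ?_⟩
    rw [← Module.End.mul_apply, ← Module.End.mul_apply, sub_mul, mul_sub, ← pow_succ, ← pow_succ',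
      one_mul, mul_one]
  haveI : Nontrivial (LinearMap.range (u ^ 4 - 1)) := Submodule.nontrivial_iff_ne_bot.2
    fun e => h4 (sub_eq_zero.1 (LinearMap.range_eq_bot.1 e))
  obtain ⟨l, hl⟩ := Module.End.exists_eigenvalue (u.restrict hU)
  obtain ⟨⟨v, x, hx⟩, hv⟩ := hl.exists_hasEigenvector
  have h1 : u v = l • v := congrArg Subtype.val hv.apply_eq_smul
  have h0 : v ≠ 0 := fun e => hv.2 (Subtype.ext e)
  refine ⟨_, l, h0, fun e => h0 ?_, h1⟩
  have h2 : (u ^ 4) v = v := by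
    rw [Module.End.HasEigenvector.pow_apply ⟨Module.End.mem_eigenspace_iff.2 h1, h0⟩, e, one_smul]
  have h3 : ∀ j : ℕ, ((u ^ 4) ^ j) x = x + (j : k) • v := fun j => by
    induction j with
    | zero => simp
    | succ j ih =>
      rw [pow_succ', Module.End.mul_apply, ih, map_add, map_smul, h2, Nat.cast_succ, add_smul,
        one_smul, sub_eq_iff_eq_add.1 (show (u ^ 4) x - x = v from hx)]
      abel
  have h5 := h3 N
  rw [← pow_mul, mul_comm, pow_mul, h, one_pow, Module.End.one_apply, left_eq_add] at h5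
  exact (smul_eq_zero.1 h5).resolve_left hN

theorem four_closed [IsAlgClosed k] [CharP k p] [FiniteDimensional k W] (hX : ¬ p ∣ Nat.card X)
    {m : ℕ} (hm : 2 ≤ m) (hc : orderOf c = 2 * m) {f : Module.End k W} (he : e * e = e)
    (hf : f * f = f) (ha : ρ a = 1 + (c - 1) • e) (hb : ρ b = 1 + (c - 1) • f) :
    ((1 - 2 * e) * (1 - 2 * f)) ^ 4 = 1 := by
  by_contra h4
  have c0 : c ^ (2 * m) = 1 := hc ▸ pow_orderOf_eq_one c
  have c1 : c ^ m ≠ 1 := pow_ne_one_of_lt_orderOf (by omega) (by omega)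
  have c2 : c ^ m = -1 := (mul_self_eq_one_iff.1 (by rw [← pow_add, ← two_mul, c0])).resolve_left c1
  have h2 : (2 : k) ≠ 0 := fun e => c1 (by rw [c2]; linear_combination -e)
  have c3 : c ≠ 0 := fun e => by
    rw [e, zero_pow (by omega)] at c0
    exact zero_ne_one c0
  have k1 : ∀ {a : X} {e : Module.End k W}, e * e = e → ρ a = 1 + (c - 1) • e →
      ρ (a ^ m) = 1 - 2 * e ∧ (1 - 2 * e) * (1 - 2 * e) = 1 := fun {a e} he ha => by
    refine ⟨?_, ?_⟩
    · rw [kl_pow he ha, c2, sub_smul, neg_smul, one_smul, two_mul]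
      abel
    · simp only [two_mul, sub_mul, mul_sub, add_mul, mul_add, one_mul, mul_one, he]
      abel
  obtain ⟨a1, a2⟩ := k1 he ha
  obtain ⟨b1, b2⟩ := k1 hf hb
  obtain ⟨w, l, w0, l4, hw⟩ := kl_eigen (N := Nat.card X)
    (fun e => hX ((CharP.cast_eq_zero_iff k p _).1 e))
    (by rw [← a1, ← b1, ← map_mul, ← map_pow, pow_card_eq_one', map_one]) h4
  have a3 : ∀ v, (1 - 2 * e) ((1 - 2 * e) v) = v := DFunLike.congr_fun a2
  have b3 : ∀ v, (1 - 2 * f) ((1 - 2 * f) v) = v := DFunLike.congr_fun b2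
  obtain ⟨w', hw'⟩ : ∃ w', (1 - 2 * e) w = w' := ⟨_, rfl⟩
  have f0 : (1 - 2 * f) w = l • w' := by
    rw [← hw', ← map_smul, ← hw, Module.End.mul_apply, a3]
  have l0 : l ≠ 0 := fun e => w0 (by rw [← b3 w, f0, e, zero_smul, map_zero])
  have f1 : (1 - 2 * f) w' = l⁻¹ • w := by rw [eq_inv_smul_iff₀ l0, ← map_smul, ← f0, b3]
  have e1 : (1 - 2 * e) w' = w := by rw [← hw', a3]
  have ind : ∀ s t : k, s • w + t • w' = 0 → s = 0 ∧ t = 0 := fun s t h => by
    have h1 := congrArg (fun v => (1 - 2 * e) ((1 - 2 * f) v)) h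
    simp only [map_add, map_smul, f0, f1, e1, hw', map_zero] at h1
    have h3 : (s * (l * l - 1)) • w = 0 := by
      rw [← sub_eq_zero.2 (congrArg (l • ·) h1), smul_zero, sub_zero, ← sub_zero (l • _), ← h]
      match_scalars <;> field_simp <;> ring
    obtain rfl : s = 0 := (mul_eq_zero.1 ((smul_eq_zero.1 h3).resolve_right w0)).resolve_right
      fun e => l4 (by linear_combination (l * l + 1) * e)
    rw [zero_smul, zero_add] at h
    exact ⟨rfl, (smul_eq_zero.1 h).resolve_right fun e => w0 (by rw [← e1, e, map_zero])⟩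
  let σ : (Fin 2 → k) →ₗ[k] W :=
    (LinearMap.proj 0).smulRight w + (LinearMap.proj 1).smulRight w'
  have hσ : Function.Injective σ := (injective_iff_map_eq_zero σ).2 fun v hv => by
    obtain ⟨h0, h1⟩ := ind (v 0) (v 1) hv
    ext i
    fin_cases i
    exacts [h0, h1]
  obtain ⟨g, g1, g2⟩ := kl_elt (μ := 1) hσ (w := w) (w' := w') (by simp [σ]) (by simp [σ]) h2 c3 he
    ha one_ne_zero (by rw [one_smul, hw']) (by rw [inv_one, one_smul, e1])
  obtain ⟨g', g3, g4⟩ := kl_elt hσ (w := w) (w' := w') (by simp [σ]) (by simp [σ]) h2 c3 hf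
    hb l0 f0 f1
  let H := (klRel ρ σ hσ).map (MonoidHom.snd _ _)
  haveI : Finite (H1.projIm H) := Set.Finite.subset (Set.finite_iUnion (ι := X)
    (f := fun x => {π | ∃ g, (x, g) ∈ klRel ρ σ hσ ∧ toPermHom SL(2, k) (ℙ k (Fin 2 → k)) g = π})
    fun x => Set.Subsingleton.finite (by
      rintro _ ⟨g, hg, rfl⟩ _ ⟨g', hg', rfl⟩
      exact klRel_eq hg hg' rfl)) (by
    rintro _ ⟨_, ⟨y, hy, rfl⟩, rfl⟩
    exact Set.mem_iUnion.2 ⟨y.1, y.2, hy, rfl⟩)
  have hD := H1.dSetup_proj (p := p) H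
  rw [show H1.projU H = fun _ => ⊥ from funext fun x => eq_bot_iff.2 fun u hu => ?_] at hD
  swap
  · have h5 := hD.pow x u hu
    obtain ⟨_, _, ⟨y, hy, rfl⟩, rfl⟩ := u
    have h6 := klRel_eq (pow_mem hy (Nat.card X)) (one_mem _) (by
      rw [Prod.pow_fst, pow_card_eq_one', Prod.fst_one])
    rw [Prod.pow_snd, map_pow, Prod.snd_one, map_one] at h6
    have h7 := pow_gcd_eq_one.2 ⟨h5, Subtype.ext h6⟩
    rwa [(hp.out.coprime_iff_not_dvd.2 hX).gcd_eq_one, pow_one] at h7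
  have h5 := congrArg Subtype.val (klein hD hm (a := ⟨_, g, ⟨_, g1, rfl⟩, rfl⟩)
    (b := ⟨_, g', ⟨_, g3, rfl⟩, rfl⟩) ((orderOf_coe _).symm.trans (g2.trans hc))
    ((orderOf_coe _).symm.trans (g4.trans hc)))
  obtain ⟨t, ht⟩ := klRel_par (mul_mem (pow_mem g1 m) (pow_mem g3 m))
    (mul_mem (pow_mem g3 m) (pow_mem g1 m)) (by
      simp only [Prod.snd_mul, Prod.pow_snd, map_mul, map_pow]
      exact h5) (v := ![1, 1]) fun e => one_ne_zero (congrFun e 0)
  change ρ (a ^ m * b ^ m) _ = t • ρ (b ^ m * a ^ m) _ at ht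
  rw [map_mul, map_mul, a1, b1, show σ ![1, 1] = w + w' by simp [σ]] at ht
  simp only [Module.End.mul_apply, map_add, map_smul, f0, f1, e1, hw'] at ht
  obtain ⟨h6, h7⟩ := ind (l - t * l⁻¹) (l⁻¹ - t * l) (by
    rw [← sub_eq_zero.2 ht]
    module)
  have h8 := mul_inv_cancel₀ l0
  exact l4 (by linear_combination l ^ 3 * h6 - l * h7 + (t * l ^ 2 + 1) * h8)

end Closed

theorem four_of_coprime {X V : Type*} [Group X] [Finite X] [AddCommGroup V] [Module (ZMod p) V]
    [Finite V] (h5 : 5 ≤ p) (hX : ¬ p ∣ Nat.card X) (ρ : X →* Module.End (ZMod p) V) {c : ZMod p}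
    (hc : orderOf c = p - 1) {a b : X} {e f : Module.End (ZMod p) V} (he : e * e = e)
    (hf : f * f = f) (ha : ρ a = 1 + (c - 1) • e) (hb : ρ b = 1 + (c - 1) • f) :
    ((1 - 2 * e) * (1 - 2 * f)) ^ 4 = 1 := by
  obtain ⟨m, hm⟩ := hp.out.odd_of_ne_two (by omega)
  let k := AlgebraicClosure (ZMod p)
  let Φ := Module.End.baseChangeHom (ZMod p) k V
  have hΦ : Function.Injective Φ := LinearMap.baseChangeHom_injective (ZMod p) V k
  have key : ∀ {a : X} {e : Module.End (ZMod p) V}, ρ a = 1 + (c - 1) • e →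
      (Φ.toMonoidHom.comp ρ) a = 1 + (algebraMap (ZMod p) k c - 1) • Φ e := fun {a e} ha => by
    change Φ (ρ a) = _
    rw [ha, map_add, map_one, map_smul, ← map_one (algebraMap (ZMod p) k), ← map_sub,
      algebraMap_smul]
  have := four_closed (m := m) hX (by omega) ((orderOf_injective
    (algebraMap (ZMod p) k).toMonoidHom (algebraMap (ZMod p) k).injective c).trans (by omega))
    (by rw [← map_mul, he]) (by rw [← map_mul, hf]) (key ha) (key hb)
  refine hΦ ?_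
  simpa only [map_pow, map_mul, map_sub, map_one, map_ofNat] using this

end Cfsg.Agent.MX
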