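import Cfsg.Agent.Lib.MX.Defs

/-!
# S5267: weights of homomorphisms (see notes/MX.md)
-/

set_option autoImplicit false
set_option linter.unusedSectionVars false
set_option linter.unusedVariables false

namespace Cfsg.Agent.MX

open Subgroup Cfsg.Agent.H9 Cfsg.Agent.FT Cfsg.FusionSystem
open Cfsg.Agent.EX (pw PAct NC)
open scoped commutatorElement

universe u

variable {G : Type u} [Group G] {p : ℕ} [hp : Fact p.Prime] {S : Subgroup G} [Finite S]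
  {n i j l : ℕ} {f : G → G} {w w' a b : ZMod p} {x y u : G}

/-- The map `f` acts on the level `i` as the scalar `w`. -/
def FWt (S : Subgroup G) (f : G → G) (i : ℕ) (w : ZMod p) : Prop :=
  ∀ y ∈ lv S i, (pw y w)⁻¹ * f y ∈ lv S (i + 1)

theorem pw_eq_zpow (x : G) (a : ZMod p) : pw x a = x ^ (a.val : ℤ) := (zpow_natCast _ _).symm

theorem cong_symm {K : Subgroup G} (h : x⁻¹ * y ∈ K) : y⁻¹ * x ∈ K := by simpa using inv_mem h

variable (h : MaxCl p S n) (h4 : 4 ≤ n)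
include h h4

theorem zpow_cong_pw (hx : x ∈ lv S i) {c : ℤ} (hc : (c : ZMod p) = a) :
    (x ^ c)⁻¹ * pw x a ∈ lv S (i + 1) := cong_symm (hc ▸ pw_cong_zpow h h4 hx c)

theorem fwt_of_lev (hf : IsHomOn (lv S i) f) (hm : ∀ y ∈ lv S (i + 1), f y ∈ lv S (i + 1))
    (hu : Lev S i u) (h1 : (pw u w)⁻¹ * f u ∈ lv S (i + 1)) : FWt S f i w := fun y hy => by
  obtain ⟨c, hc⟩ := exists_cong h h4 hu hy
  simp only [pw_eq_zpow] at *
  have hn := fun k : ℤ => lv_norm S (i + 1) (zpow_mem hu.mem k)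
  have h2 := inv_mem (cong_zpow (hn _) hc w.val)
  have h3 := cong_zpow (hn _) h1 c.val
  have h4 := hm _ hc
  rw [hf.map_mul (inv_mem (zpow_mem hu.1 _)) hy, hf.map_inv (zpow_mem hu.1 _),
    hf.map_zpow hu.1] at h4
  rw [← zpow_mul, mul_comm (w.val : ℤ)] at h3
  rw [mul_inv_rev, inv_inv, ← zpow_mul] at h2
  exact cong_trans (cong_trans h2 h3) h4

theorem exists_fwt (hf : IsHomOn (lv S i) f) (h0 : ∀ y ∈ lv S i, f y ∈ lv S i)
    (hm : ∀ y ∈ lv S (i + 1), f y ∈ lv S (i + 1)) : ∃ w : ZMod p, FWt S f i w := by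
  by_cases hi : i < n
  · obtain ⟨u, hu⟩ := exists_lev_of_lt h h4 hi
    obtain ⟨c, hc⟩ := exists_cong h h4 hu (h0 u hu.1)
    exact ⟨c, fwt_of_lev h h4 hf hm hu hc⟩
  · refine ⟨1, fun y hy => ?_⟩
    have := h0 y hy
    rw [eq_one_of_mem h h4 (not_lt.1 hi) this, eq_one_of_mem h h4 (not_lt.1 hi) hy]
    simp [EX.pw]

theorem FWt.eq (hw : FWt S f i w) (hy : Lev S i y) (h1 : (pw y w')⁻¹ * f y ∈ lv S (i + 1)) :
    w = w' := cong_uniq h h4 hy (hw y hy.1) h1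

theorem FWt.uniq (hw : FWt S f i w) (hw' : FWt S f i w') (hi : i < n) : w = w' := by
  obtain ⟨u, hu⟩ := exists_lev_of_lt h h4 hi
  exact hw.eq h h4 hu (hw' u hu.1)

theorem FWt.of_le (hi : n ≤ i) (h0 : f 1 = 1) : FWt S f i w := fun y hy => by
  rw [eq_one_of_mem h h4 hi hy, h0]; simp [EX.pw]

/-- Bilinearity of the commutator. -/
theorem bilin {A B : Subgroup G} (hA : A ≤ S) (hB : B ≤ S) (nA : S ≤ 𝒩(A)) (nB : S ≤ 𝒩(B))
    (hx : x ∈ S) (hy : y ∈ S) (hc : ⁅x, y⁆ ∈ lv S l) (h1 : ∀ c ∈ A, ⁅c, y⁆ ∈ lv S (l + 1))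
    (h2 : ∀ d ∈ B, ⁅x, d⁆ ∈ lv S (l + 1)) (h3 : ∀ c ∈ A, ∀ d ∈ B, ⁅c, d⁆ ∈ lv S (l + 1))
    {x' y' : G} (hx' : (pw x a)⁻¹ * x' ∈ A) (hy' : (pw y b)⁻¹ * y' ∈ B) :
    (pw ⁅x, y⁆ (a * b))⁻¹ * ⁅x', y'⁆ ∈ lv S (l + 1) := by
  have k1 := H9.conj_mem_of_mem_normalizer (nA (EX.pw_mem hx a)) hx'
  have k2 := H9.conj_mem_of_mem_normalizer (nB (EX.pw_mem hy b)) hy'
  have k3 := commutator_bilin (lv_norm S (l + 1)) hx (hA k1) hy (hB k2)
    (fun g hg => comm_mem_succ' hg hc) (h1 _ k1) (h2 _ k2) (h3 _ k1 _ k2) a.val b.val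
  simp only [pw_eq_zpow, mul_inv_cancel_left, inv_mul_cancel_right] at k3
  exact cong_trans (cong_symm (zpow_cong_pw h h4 hc (by simp))) k3

end Cfsg.Agent.MX
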