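import Cfsg.Agent.Lib.MX.Om
import Cfsg.Agent.Lib.MX.W0

/-!
# S5267: the top missing level acts quadratically on `Ω₁ Z(E)` (see notes/MX.md)
-/

set_option autoImplicit false
set_option linter.unusedSectionVars false
set_option linter.unusedVariables false

namespace Cfsg.Agent.MX

open Subgroup Cfsg.Agent.H9 Cfsg.Agent.FT
open Cfsg.Agent.EX (pw PAct NC)
open scoped commutatorElement
open Polynomial

universe u

variable {G : Type u} [Group G] [Finite G] {p : ℕ} [hp : Fact p.Prime] {S E : Subgroup G}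
  {n k : ℕ}

theorem M5.quad (h : M5 p S n) (hE : E ≤ gam S) (hk : Top n S E k) {t y : G} (ht : t ∈ lv S k)
    (hy : y ∈ E) (hyc : y ∈ 𝒞(E)) (hyp : y ^ p = 1) : Commute t ⁅t, y⁆ := by
  have hm := h.mc
  have h4 := h.h4
  have hk2 := hk.two
  have hkn := hk.le
  have hyS : y ∈ S := (hE hy).1
  have htS := lv_le S k ht
  by_cases h1 : y ∈ lv S k
  swap
  · obtain ⟨i, hik, hi⟩ := exists_lev_of_not_mem hyS h1
    have := le_of_normal hm h4 (H1.le_normalizer_inf le_normalizer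
      (H1.le_normalizer_centralizer (lv_norm S (k + 1)))) (hi.le_of_mem (hE hy))
      ⟨hyS, cent_le_cent hk.succ hyc⟩ hi
    exact (mem_cent.1 (this (lv_anti S hik.le ht)).2 _ (comm_mem_succ ht hyS)).symm
  have h2 : y ∈ lv S (k + 1) := by_contra fun e =>
    hk.not_le (Lev.le_of_mem' hm h4 ⟨h1, e⟩ hy hk.succ)
  have hyB : y ∈ Om p (lv S (k + 1)) := ⟨h2, cent_le_cent hk.succ hyc, hyp⟩
  obtain ⟨j, hj1, hjn, e⟩ := eq_lv_of_normal hm h4 ((lv_norm S (k + 1)).trans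
    (norm_le_norm_Om (p := p))) (Om_le.trans (lv_le_gam (by omega)))
  have hs0 := exists_sec_Om p (lv S (k + 1))
  have hC : lv S (k + 1) ≤ 𝒞(lv S j) := e ▸ le_cent_Om
  have hj2 : 2 ≤ j := by
    by_contra h3
    obtain rfl : j = 1 := by omega
    exact hk.not_le ((lv_le_gam (by omega)).trans (e.ge.trans (Om_le.trans hk.succ)))
  have hw0 := h.sub_lt hj2 fun x hx => (e.ge hx).2.2
  rw [e] at hs0 hyB
  obtain ⟨V, _, _, _, ⟨σ⟩⟩ := hs0
  have hN := lv_norm S j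
  have hmul : ∀ {a b : G}, a ∈ S → b ∈ S → σ.ρ (a * b) = σ.ρ a * σ.ρ b := fun ha hb =>
    σ.ρ_mul (hN ha) (mem_norm_bot _) (hN hb) (mem_norm_bot _)
  have htriv : ∀ {a : G}, a ∈ lv S (k + 1) → σ.ρ a = 1 := fun ha =>
    (sec_eq_one_iff σ (hN (lv_le S _ ha))).2 (hC ha)
  have hcomm : ∀ {a g : G}, a ∈ lv S k → g ∈ S → σ.ρ a * σ.ρ g = σ.ρ g * σ.ρ a := fun {a g} ha hg => by
    have haS := lv_le S k ha
    have k1 := comm_mem_succ ha hg
    rw [← hmul haS hg, show a * g = ⁅a, g⁆ * (g * a) by simp [commutatorElement_def],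
      hmul (lv_le S _ k1) (mul_mem hg haS), htriv k1, one_mul, hmul hg haS]
  obtain ⟨s, hs⟩ := h.exists_unif
  obtain ⟨v₀, w, hc, hw⟩ := h.exists_cyc hj1 σ hs
  obtain ⟨r, hr⟩ := exists_lev_of_lt hm h4 (i := k - 1) (by omega)
  have ht₀ : Lev S k ⁅s⁻¹, r⁆ := by
    have := (h.step hr (inv_mem hs.mem) (fun e => hm.not_mem_gam h4 hs (inv_mem_iff.1 e)) (by omega)
      (Or.inl (by omega))).comm_symm
    rwa [show k - 1 + 1 = k by omega] at this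
  have hT : (σ.ρ ⁅s⁻¹, r⁆ - 1) * (σ.ρ ⁅s⁻¹, r⁆ - 1) = 0 := by
    obtain ⟨f, hf⟩ := hc.exists_aeval (B := σ.ρ ⁅s⁻¹, r⁆ - 1)
      ((Commute.sub_left (hcomm ht₀.1 hs.mem) (Commute.one_left _)).sub_right (Commute.one_right _))
    by_cases hf0 : f = 0
    · rw [hf, hf0, map_zero, zero_mul]
    obtain ⟨m, g, rfl, hg⟩ := H3.MC.exists_X_pow_mul hf0
    have hz : w ≤ m + m → (σ.ρ ⁅s⁻¹, r⁆ - 1) * (σ.ρ ⁅s⁻¹, r⁆ - 1) = 0 := fun hle => by
      rw [hf, ← map_mul, show X ^ m * g * (X ^ m * g) = X ^ (m + m) * (g * g) by ring, map_mul,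
        map_pow, aeval_X, (hc.nil _).2 hle, zero_mul]
    by_cases hmw : w ≤ m
    · exact hz (by omega)
    rcases m with _ | m
    · have hu : IsUnit (σ.ρ ⁅s⁻¹, r⁆ - 1) := by
        rw [hf, pow_zero, one_mul]; exact H3.MC.isUnit_aeval hc.isNilpotent hg
      have := (hu.pow (n - j)).mul_right_inj (b := 1) (c := 0)
      rw [sec_nil hm h4 σ ht₀.mem, zero_mul, zero_mul] at this
      rw [← one_mul (_ * _), this.1 rfl, zero_mul]
    have hrS := hr.mem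
    refine hz (le_trans (hc.le_of_conj (m := m) (Y := σ.ρ r) ?_ hg ?_ ?_ ?_) (by omega))
    · rw [Ne, ZMod.natCast_eq_zero_iff]
      exact fun e => absurd (Nat.le_of_dvd (by omega) e) (by omega)
    · exact ⟨⟨σ.ρ r, σ.ρ r⁻¹, by rw [← hmul hrS (inv_mem hrS), mul_inv_cancel, σ.ρ_one],
        by rw [← hmul (inv_mem hrS) hrS, inv_mul_cancel, σ.ρ_one]⟩, rfl⟩
    · rw [← hf, mul_sub, sub_mul, hcomm ht₀.1 hrS, mul_one, one_mul]
    · have k1 : σ.ρ r * σ.ρ s = σ.ρ s * σ.ρ ⁅s⁻¹, r⁆ * σ.ρ r := by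
        rw [← hmul hrS hs.mem, ← hmul hs.mem ht₀.mem, ← hmul (mul_mem hs.mem ht₀.mem) hrS]
        congr 1
        simp [commutatorElement_def, mul_assoc]
      rw [← hf, mul_sub, k1]
      noncomm_ring
  obtain ⟨a, ha⟩ := exists_cong hm h4 ht₀ ht
  have hρt : σ.ρ t - 1 = ((a.val : ℤ) : Module.End (ZMod p) V) * (σ.ρ ⁅s⁻¹, r⁆ - 1) := by
    have k1 := H3.MC.one_add_zpow (secHom σ hN fun g _ => mem_norm_bot g) (x := ⟨_, ht₀.mem⟩)
      (add_sub_cancel _ _).symm hT a.val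
    have k2 : σ.ρ (pw ⁅s⁻¹, r⁆ a) = _ := (congrArg σ.ρ (pw_eq_zpow _ a)).trans k1
    rw [show t = pw ⁅s⁻¹, r⁆ a * ((pw ⁅s⁻¹, r⁆ a)⁻¹ * t) by group,
      hmul (EX.pw_mem ht₀.mem a) (lv_le S _ ha), htriv ha, mul_one, k2, add_sub_cancel_left]
    rfl
  have hq : (σ.ρ t - 1) * (σ.ρ t - 1) = 0 := by
    rw [hρt, mul_assoc, ← mul_assoc (σ.ρ ⁅s⁻¹, r⁆ - 1), ← (Int.cast_commute _ _).eq, mul_assoc, hT,
      mul_zero, mul_zero]
  have k1 : ⁅t, y⁆ ∈ lv S j := lv_succ_le S j (comm_mem_succ' htS hyB)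
  have k2 := σ.π_comm (hN htS) (mem_norm_bot t) k1
  rw [σ.π_comm (hN htS) (mem_norm_bot t) hyB] at k2
  have k3 := LinearMap.congr_fun hq (σ.π y)
  refine commutatorElement_eq_one_iff_commute.1 (mem_bot.1 ((σ.π_eq_zero _
    (lv_succ_le S j (comm_mem_succ' htS k1))).1 (k2.trans ?_)))
  simpa using k3

end Cfsg.Agent.MX
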