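import Cfsg.Agent.Lib.MX.T0

/-!
# S5267: two opposite quadratic elements central in TI Sylow subgroups
-/

set_option autoImplicit false
set_option linter.unusedSectionVars false
set_option linter.unusedVariables false

namespace Cfsg.Agent.MX

open Subgroup Cfsg.Agent.H7 Cfsg.Agent.H9 Cfsg.Agent.H3.MC MatrixGroups

variable {p : ℕ} [hp : Fact p.Prime]

theorem t_matUnit_inj {K R : Type*} [CommRing K] [Ring R] (ι : K →+* R) (hι : Function.Injective ι)
    (e : Fin 2 → Fin 2 → R) (hc : ∀ k i j, e i j * ι k = ι k * e i j)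
    (hm : ∀ i j k l, e i j * e k l = if j = k then e i l else 0) (h1 : e 0 0 + e 1 1 = 1) :
    Function.Injective (H1.matUnitHom ι e hc hm h1) := by
  rw [injective_iff_map_eq_zero]
  intro m h0
  change ∑ i, ∑ j, ι (m i j) * e i j = 0 at h0
  have key : ∀ (a : K) (k i i' j' j : Fin 2), e k i * (ι a * e i' j') * e j k =
      if i = i' then if j' = j then ι a * e k k else 0 else 0 := fun a k i i' j' j => by
    rw [← mul_assoc, hc, mul_assoc (ι a), hm, mul_assoc]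
    split_ifs with h h'
    · rw [hm, if_pos h']
    · rw [hm, if_neg h', mul_zero]
    · rw [zero_mul, mul_zero]
  have h2 : ∀ i j k, ι (m i j) * e k k = 0 := fun i j k => by
    have := congrArg (fun r => e k i * r * e j k) h0
    simp only [Finset.mul_sum, Finset.sum_mul, key, mul_zero, zero_mul] at this
    simpa using this
  ext i j
  refine hι ?_
  rw [← mul_one (ι _), ← h1, mul_add, h2, h2, add_zero, Matrix.zero_apply, map_zero]

theorem t_unit {Γ R : Type*} [Group Γ] [Ring R] [Finite R] [Nontrivial R] (hp5 : 5 ≤ p)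
    (hR : (p : R) = 0) (ρ : Γ →* R) (hρ : Function.Injective ρ) {P : Subgroup Γ} {a b : Γ}
    (h : TIS p P a) (h1 : (ρ a - 1) * (ρ a - 1) = 0) (h2 : (ρ b - 1) * (ρ b - 1) = 0)
    (hu : IsUnit (cc ρ a b)) : ∃ x, (ρ x - 1) * (ρ x - 1) = 0 ∧ cc ρ b x = 1 := by
  have ea : ρ a = 1 + (ρ a - 1) := by abel
  have eb : ρ b = 1 + (ρ b - 1) := by abel
  simp only [cc] at hu ⊢
  generalize ρ a - 1 = α at *
  generalize ρ b - 1 = β at *
  set c := α * β + β * α with hc
  have cα : Commute α c := by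
    show α * c = c * α
    simp only [hc, mul_add, add_mul, ← mul_assoc, h1, zero_mul]
    simp only [mul_assoc, h1, mul_zero, zero_add, add_zero]
  have cβ : Commute β c := by
    show β * c = c * β
    simp only [hc, mul_add, add_mul, ← mul_assoc, h2, zero_mul]
    simp only [mul_assoc, h2, mul_zero, zero_add, add_zero]
  obtain ⟨n, hn⟩ : ∃ n, c ^ n * c = 1 := by
    obtain ⟨u, hu⟩ := hu
    rw [← hu]
    obtain ⟨n, hn, e⟩ := (isOfFinOrder_of_finite u).exists_pow_eq_one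
    obtain ⟨n, rfl⟩ := Nat.exists_eq_succ_of_ne_zero hn.ne'
    exact ⟨n, by rw [← pow_succ, ← Units.val_pow_eq_pow_val, e, Units.val_one]⟩
  let ev : Polynomial ℤ →+* R := (Polynomial.aeval c).toRingHom
  let ι := RingHom.kerLift ev
  have hι : Function.Injective ι := RingHom.kerLift_injective ev
  have : Finite (Polynomial ℤ ⧸ RingHom.ker ev) := Finite.of_injective _ hι
  have : Nontrivial (Polynomial ℤ ⧸ RingHom.ker ev) := ι.domain_nontrivial
  have hcm : ∀ {r : R}, Commute r c → ∀ k, Commute r (ι k) := fun {r} hr k => by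
    obtain ⟨q, rfl⟩ := Ideal.Quotient.mk_surjective k
    rw [RingHom.kerLift_mk]
    show Commute r (Polynomial.aeval c q)
    induction q using Polynomial.induction_on' with
    | add a b ha hb => rw [map_add]; exact ha.add_right hb
    | monomial i a =>
      rw [Polynomial.aeval_monomial]
      exact (Int.cast_commute a r).symm.mul_right (hr.pow_right i)
  let γ : Polynomial ℤ ⧸ RingHom.ker ev := Ideal.Quotient.mk _ Polynomial.X
  have hγ : ι γ = c := by rw [RingHom.kerLift_mk]; exact Polynomial.aeval_X c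
  have cδ : ∀ k, Commute (c ^ n) (ι k) := hcm ((Commute.refl c).pow_left n)
  let Φ := H1.matUnitHom ι ![![c ^ n * (α * β), c ^ n * α], ![β, c ^ n * (β * α)]] (fun k i j => by
      fin_cases i <;> fin_cases j
      · exact ((cδ k).mul_left ((hcm cα k).mul_left (hcm cβ k))).eq
      · exact ((cδ k).mul_left (hcm cα k)).eq
      · exact (hcm cβ k).eq
      · exact ((cδ k).mul_left ((hcm cβ k).mul_left (hcm cα k))).eq)
    (H1.matUnit_aux h1 h2 (cα.pow_right n).eq (cβ.pow_right n).eq hn)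
    (by show c ^ n * (α * β) + c ^ n * (β * α) = 1; rw [← mul_add, hn])
  have hΦ : Function.Injective Φ := t_matUnit_inj ι hι _ _ _ _
  have e1 : c ^ n * (α * β) + c ^ n * (β * α) = 1 := by rw [← mul_add, hn]
  have hU : ∀ r, Φ (slU r).1 = 1 + ι r * c ^ n * α := fun r => by
    simp only [Φ, H1.matUnitHom, coe_slU, RingHom.coe_mk, MonoidHom.coe_mk, OneHom.coe_mk,
      Fin.sum_univ_two]
    rw [← e1]; simp [mul_assoc]; abel
  have hL : Φ (slL 1).1 = 1 + β := by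
    simp only [Φ, H1.matUnitHom, coe_slL, RingHom.coe_mk, MonoidHom.coe_mk, OneHom.coe_mk,
      Fin.sum_univ_two]
    rw [← e1]; simp; abel
  let Y : Subgroup SL(2, Polynomial ℤ ⧸ RingHom.ker ev) :=
    { carrier := {g | ∃ x, Φ g.1 = ρ x}
      one_mem' := ⟨1, by rw [map_one]; exact map_one Φ⟩
      mul_mem' := by
        rintro g g' ⟨x, hx⟩ ⟨x', hx'⟩
        exact ⟨x * x', by rw [map_mul, ← hx, ← hx', ← map_mul]; rfl⟩
      inv_mem' := by
        rintro g ⟨x, hx⟩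
        refine ⟨x⁻¹, ?_⟩
        have : Φ (g⁻¹).1 * Φ g.1 = 1 := by
          rw [← map_mul, ← Matrix.SpecialLinearGroup.coe_mul, inv_mul_cancel]; exact map_one Φ
        rw [← mul_one (Φ _), ← map_one ρ, ← mul_inv_cancel x, map_mul, ← mul_assoc, ← hx, this,
          one_mul] }
  have hn' : c * c ^ n = 1 := by rw [← pow_succ', pow_succ, hn]
  have hs : ∀ g : Y, Φ g.1.1 = ρ (Exists.choose g.2) := fun g => Exists.choose_spec g.2
  let ψ : Y →* Γ := MonoidHom.mk' (fun g => Exists.choose g.2) fun g g' => hρ (by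
    rw [map_mul, ← hs, ← hs, ← hs, ← map_mul]; rfl)
  have hψ : ∀ g : Y, ρ (ψ g) = Φ g.1.1 := fun g => (hs g).symm
  have haY : slU γ ∈ Y := ⟨a, by rw [hU, hγ, hn', one_mul, ea]⟩
  have hbY : slL 1 ∈ Y := ⟨b, by rw [hL, eb]⟩
  obtain ⟨x, hx⟩ := t_sl2 hp5 (hι (by rw [map_natCast, hR, map_zero])) Y.subtype
    Subtype.val_injective
    (h.comap ψ (fun g g' e => Subtype.ext (Subtype.ext (hΦ (by rw [← hψ, ← hψ, e]))))
      (a' := ⟨_, haY⟩) (hρ (by rw [hψ, hU, hγ, hn', one_mul, ea])))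
    (IsUnit.of_mul_eq_one (γ ^ n) (hι (by rw [map_mul, map_pow, hγ, hn', map_one]))) rfl
    (b := ⟨_, hbY⟩) rfl
  have e2 : ρ (ψ x) - 1 = c ^ n * α := by
    rw [hψ, show x.1 = slU 1 from hx, hU, map_one, one_mul, add_sub_cancel_left]
  refine ⟨ψ x, ?_, ?_⟩
  · rw [e2, mul_assoc, ← mul_assoc α, (cα.pow_right n).eq, mul_assoc, h1, mul_zero, mul_zero]
  · rw [e2, ← mul_assoc β, (cβ.pow_right n).eq, mul_assoc, mul_assoc, add_comm, e1]

/-- The braid relations kill `x ^ 12` in every cyclic quotient. -/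
theorem t_rel {Γ R R₂ : Type*} [Group Γ] [Ring R] [Monoid R₂] (ρ : Γ →* R)
    (hρ : Function.Injective ρ) (ρ₂ : Γ →* R₂) {x y : Γ} (hα : (ρ x - 1) * (ρ x - 1) = 0)
    (hβ : (ρ y - 1) * (ρ y - 1) = 0) (hm : cc ρ x y = 1) {i : ℤ} (hi : ρ₂ y = ρ₂ (x ^ i)) :
    ρ₂ x ^ 12 = 1 := by
  obtain ⟨e1, e2⟩ := H1.ring_sl2_aux hα hβ hm
  rw [← map_inv_quad ρ hβ, add_sub_cancel] at e1 e2
  have m1 : (x * y⁻¹ * x) ^ 4 = 1 := hρ (by
    rw [map_pow, map_mul, map_mul, show 4 = 2 * 2 from rfl, pow_mul, e1]; simp)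
  have m2 : (x * (x * y⁻¹ * x)) ^ 3 = 1 := hρ (by
    rw [map_pow, map_mul, map_mul, map_mul, e2, map_one])
  let f := ρ₂.toHomUnits
  have hi' : f y = f x ^ i := by rw [← map_zpow]; exact Units.ext hi
  have n1 := congrArg f m1
  have n2 := congrArg f m2
  simp only [map_pow, map_mul, map_inv, hi', map_one] at n1 n2
  have : f x ^ 12 = 1 := by
    generalize f x = u at n1 n2
    have f1 : u ^ (8 - 4 * i) = 1 := by rw [← n1]; group
    have f2 : u ^ (9 - 3 * i) = 1 := by rw [← n2]; group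
    have : u ^ 12 = (u ^ (9 - 3 * i)) ^ (4 : ℤ) * (u ^ (8 - 4 * i)) ^ (-3 : ℤ) := by group
    rw [this, f1, f2]; simp
  have h := congrArg Units.val this
  rwa [Units.val_pow_eq_pow_val] at h

theorem t_aux {X R : Type*} [Group X] [Ring R] [Finite R] (hp5 : 5 ≤ p) (hR : (p : R) = 0)
    (ρ : X →* R) (hρ : Function.Injective ρ) {P : Subgroup X} {a : X} (h : TIS p P a)
    (hA : (ρ a - 1) * (ρ a - 1) = 0) {g : X} (hg : g ∉ P) (hB : (ρ g - 1) * (ρ g - 1) = 0) {M : ℕ}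
    (hM : 0 < M) {e : R} (he : cc ρ a g ^ M = e) (hee : e * e = e) (hc : ∀ x, x * e = e * x) :
    ∃ x : X, (ρ x - 1) * (ρ x - 1) = 0 ∧ cc ρ a x = e ∧ (ρ a - 1) * e = ρ a - 1 ∧
      (ρ x - 1) * e = ρ x - 1 := by
  have hc' : ∀ x, x * (1 - e) = (1 - e) * x := fun x => by
    rw [mul_sub, sub_mul, hc, mul_one, one_mul]
  set φ₁ := (cutCon e hc).mk' with hφ₁
  set φ₂ := (cutCon (1 - e) hc').mk' with hφ₂
  have inj : ∀ {x y}, φ₁ x = φ₁ y → φ₂ x = φ₂ y → x = y := fun {x y} h1 h2 => by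
    rw [hφ₁, cut_eq] at h1
    rw [hφ₂, cut_eq, mul_sub, mul_sub, h1, mul_one, mul_one] at h2
    exact sub_left_injective h2
  have e1 : φ₁ e = 1 := by rw [← map_one φ₁, hφ₁, cut_eq, hee, one_mul]
  have e2 : φ₂ e = 0 := by
    rw [← map_zero φ₂, hφ₂, cut_eq, mul_sub, hee, mul_one, sub_self, zero_mul]
  let ρ₁ := φ₁.toMonoidHom.comp ρ
  let ρ₂ := φ₂.toMonoidHom.comp ρ
  have r1 : ∀ x, ρ₁ x = φ₁ (ρ x) := fun _ => rfl
  have r2 : ∀ x, ρ₂ x = φ₂ (ρ x) := fun _ => rfl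
  have s1 : ∀ x, ρ₁ x - 1 = φ₁ (ρ x - 1) := fun x => by rw [map_sub, map_one, r1]
  have s2 : ∀ x, ρ₂ x - 1 = φ₂ (ρ x - 1) := fun x => by rw [map_sub, map_one, r2]
  have c1 : ∀ x y, cc ρ₁ x y = φ₁ (cc ρ x y) := fun x y => by
    simp only [cc, s1, map_add, map_mul]
  have c2 : ∀ x y, cc ρ₂ x y = φ₂ (cc ρ x y) := fun x y => by
    simp only [cc, s2, map_add, map_mul]
  have hA1 : (ρ₁ a - 1) * (ρ₁ a - 1) = 0 := by rw [s1, ← map_mul, hA, map_zero]
  have hA2 : (ρ₂ a - 1) * (ρ₂ a - 1) = 0 := by rw [s2, ← map_mul, hA, map_zero]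
  have hap : a ^ p = 1 := hρ (by rw [map_pow, t_pow_p hR ρ hA, map_one])
  have hgp : g ^ p = 1 := hρ (by rw [map_pow, t_pow_p hR ρ hB, map_one])
  have haH : a ∈ normalizer (P : Set X) := le_normalizer h.mem
  obtain ⟨g, hg, hu, hb⟩ := exists_iter ρ₁ ρ₂ hA1 hA2 (fun b => b ∉ normalizer (P : Set X))
    (fun b hb h' => hb (h.se haH h.ne hap h')) (g := g)
    (fun h' => hg (h.mem_of_norm (h.se haH h.ne hap h') (k := 1) (by rwa [pow_one])))
    (by
      rw [cc_conj ρ₁ hA1 (by rw [s1, ← map_mul, hB, map_zero]), c1]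
      exact (((isUnit_pow_iff hM.ne').1 (by rw [← map_pow, he, e1]; exact isUnit_one)).pow 2).neg)
    (by
      rw [cc_conj ρ₂ hA2 (by rw [s2, ← map_mul, hB, map_zero]), c2]
      exact (IsNilpotent.pow_succ 1 ⟨M, by rw [← map_pow, he, e2]⟩).neg)
  have hB1 := quad_conj ρ₁ hA1 g
  have hb' := h.conj g
  generalize g * a * g⁻¹ = b at hg hu hb hB1 hb'
  have : Finite (cutCon e hc).Quotient := Finite.of_surjective _ (cutCon e hc).mk'_surjective
  let Γ : Subgroup X :=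
    { carrier := {x | ∃ m : ℤ, ρ₂ x = ρ₂ (a ^ m)}
      one_mem' := ⟨0, by rw [zpow_zero]⟩
      mul_mem' := by
        rintro x y ⟨i, hi⟩ ⟨j, hj⟩
        exact ⟨i + j, by rw [zpow_add, map_mul, map_mul, hi, hj]⟩
      inv_mem' := by
        rintro x ⟨i, hi⟩
        refine ⟨-i, ?_⟩
        rw [← mul_one (ρ₂ x⁻¹), ← map_one ρ₂, ← mul_inv_cancel (a ^ i), map_mul, ← mul_assoc, ← hi,
          ← map_mul, inv_mul_cancel, map_one, one_mul, zpow_neg] }
  have haΓ : a ∈ Γ := ⟨1, by rw [zpow_one]⟩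
  have hbΓ : b ∈ Γ := ⟨1, by rw [zpow_one, hb]⟩
  have injX : ∀ {x y}, ρ₁ x = ρ₁ y → ρ₂ x = ρ₂ y → x = y := fun h1 h2 => hρ (inj h1 h2)
  have : Nontrivial (cutCon e hc).Quotient := by
    by_contra hn
    rw [not_nontrivial_iff_subsingleton] at hn
    exact hg (injX (Subsingleton.elim _ _) hb ▸ haH)
  have ker1 : ∀ x ∈ Γ, ρ₁ x = 1 → x = 1 := by
    rintro x ⟨i, hi⟩ hx
    by_contra hx1
    have cm : ∀ y, ρ₂ y = ρ₂ a → y * x * y⁻¹ = x := fun y hy => by
      rw [mul_inv_eq_iff_eq_mul]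
      refine injX (by rw [map_mul, map_mul, hx, one_mul, mul_one]) ?_
      rw [map_mul, map_mul, hy, hi, ← map_mul, ← map_mul, (Commute.zpow_self a i).eq]
    have hxH : x ∈ normalizer (P : Set X) := h.se haH h.ne hap (by
      rwa [show x * a * x⁻¹ = a by rw [mul_inv_eq_iff_eq_mul, ← mul_inv_eq_iff_eq_mul.1 (cm a rfl)]])
    refine hg (h.se hxH hx1 (injX (by rw [map_pow, hx, one_pow, map_one]) ?_) (by rwa [cm b hb]))
    rw [map_pow, hi, ← map_pow, ← zpow_natCast, ← zpow_mul, mul_comm, zpow_mul, zpow_natCast, hap,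
      one_zpow]
  have hρ₁ : Function.Injective (ρ₁.comp Γ.subtype) := (injective_iff_map_eq_one _).2
    fun x hx => Subtype.ext (ker1 x.1 x.2 hx)
  obtain ⟨⟨x, i, hi⟩, hx1, hx2⟩ := t_unit hp5 (by rw [← map_natCast φ₁, hR, map_zero])
    (ρ₁.comp Γ.subtype) hρ₁ (hb'.comap Γ.subtype Subtype.val_injective (a' := ⟨b, hbΓ⟩) rfl)
    (b := ⟨a, haΓ⟩) hB1 hA1 (by rw [cc, add_comm] at hu; exact hu)
  have ha2 : ρ₂ a = 1 := t_twelve hp5 (t_rel _ hρ₁ (ρ₂.comp Γ.subtype) (x := ⟨a, haΓ⟩) hA1 hx1 hx2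
    (i := i) hi) (by rw [← map_pow, hap, map_one])
  have hx3 : ρ₂ x = 1 := by
    rw [hi, one_add_zpow ρ₂ (α := 0) (by rw [ha2, add_zero]) (mul_zero _), mul_zero, add_zero]
  replace hx1 : (ρ₁ x - 1) * (ρ₁ x - 1) = 0 := hx1
  replace hx2 : cc ρ₁ a x = 1 := hx2
  refine ⟨x, inj ?_ ?_, inj ?_ ?_, inj ?_ ?_, inj ?_ ?_⟩
  · rw [map_mul, ← s1, hx1, map_zero]
  · rw [map_mul, ← s2, hx3, sub_self, zero_mul, map_zero]
  · rw [← c1, hx2, e1]
  · rw [← c2, cc, ha2, e2]; simp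
  · rw [map_mul, e1, mul_one]
  · rw [map_mul, e2, mul_zero, ← s2, ha2, sub_self]
  · rw [map_mul, e1, mul_one]
  · rw [map_mul, e2, mul_zero, ← s2, hx3, sub_self]

theorem t_main {X R : Type*} [Group X] [Ring R] [Finite R] (hp5 : 5 ≤ p) (hR : (p : R) = 0)
    (ρ : X →* R) (hρ : Function.Injective ρ) {P : Subgroup X} {a : X} (h : TIS p P a)
    (hA : (ρ a - 1) * (ρ a - 1) = 0) {b : X} (hb : b ∉ P) (hB : (ρ b - 1) * (ρ b - 1) = 0) {M : ℕ}
    (hM : 0 < M) {e : R} (he : cc ρ a b ^ M = e) (hee : e * e = e) :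
    ∃ x : X, (ρ x - 1) * (ρ x - 1) = 0 ∧ cc ρ a x = e ∧ (ρ a - 1) * e = ρ a - 1 ∧
      e * (ρ a - 1) = ρ a - 1 ∧ (ρ x - 1) * e = ρ x - 1 ∧ e * (ρ x - 1) = ρ x - 1 := by
  have cα : Commute (ρ a - 1) (cc ρ a b) := by
    show _ * _ = _ * _
    simp only [cc, mul_add, add_mul, ← mul_assoc, hA, zero_mul]
    simp only [mul_assoc, hA, mul_zero, zero_add, add_zero]
  have cβ : Commute (ρ b - 1) (cc ρ a b) := by
    show _ * _ = _ * _
    simp only [cc, mul_add, add_mul, ← mul_assoc, hB, zero_mul]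
    simp only [mul_assoc, hB, mul_zero, zero_add, add_zero]
  let C := Subring.centralizer ({e} : Set R)
  have memC : ∀ {x}, x ∈ C ↔ Commute x e := by
    intro x; simp [C, Subring.mem_centralizer_iff, Commute, SemiconjBy, eq_comm]
  let Y : Subgroup X :=
    { carrier := {x | ρ x ∈ C}
      one_mem' := by show ρ 1 ∈ C; rw [map_one]; exact C.one_mem
      mul_mem' := fun {x y} hx hy => by show ρ _ ∈ C; rw [map_mul]; exact C.mul_mem hx hy
      inv_mem' := fun {x} hx => by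
        refine memC.2 ?_
        have := (memC.1 hx).eq
        show _ * _ = _ * _
        calc ρ x⁻¹ * e = ρ x⁻¹ * (e * ρ x) * ρ x⁻¹ := by
              rw [mul_assoc, mul_assoc, ← map_mul, mul_inv_cancel, map_one, mul_one]
          _ = e * ρ x⁻¹ := by rw [← this, ← mul_assoc, ← map_mul, inv_mul_cancel, map_one, one_mul] }
  have haY : a ∈ Y := memC.2 (by
    simpa [he] using (cα.pow_right M).add_left (Commute.one_left _))
  have hbY : b ∈ Y := memC.2 (by
    simpa [he] using (cβ.pow_right M).add_left (Commute.one_left _))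
  let ρ' : Y →* C := MonoidHom.codRestrict (ρ.comp Y.subtype) C fun x => x.2
  have heC : e ∈ C := memC.2 (Commute.refl e)
  obtain ⟨x, h1, h2, h3, h4⟩ := t_aux hp5 (Subtype.ext hR : (p : C) = 0) ρ'
    (fun x y h => Subtype.ext (hρ (congrArg Subtype.val h)))
    (h.comap Y.subtype Subtype.val_injective (a' := ⟨a, haY⟩) rfl) (Subtype.ext hA)
    (g := ⟨b, hbY⟩) hb (Subtype.ext hB) hM (e := ⟨e, heC⟩) (Subtype.ext he) (Subtype.ext hee)
    fun x => Subtype.ext (memC.1 x.2).eq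
  have h3' : (ρ a - 1) * e = ρ a - 1 := congrArg Subtype.val h3
  have h4' : (ρ x - 1) * e = ρ x - 1 := congrArg Subtype.val h4
  exact ⟨x, congrArg Subtype.val h1, congrArg Subtype.val h2, h3', by
    rw [← ((memC.1 haY).sub_left (Commute.one_left e)).eq, h3'], h4', by
    rw [← ((memC.1 x.2).sub_left (Commute.one_left e)).eq, h4']⟩

end Cfsg.Agent.MX
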