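import Cfsg.Agent.Lib.H3.MC3
import Cfsg.Agent.Lib.FT.BG02
import Cfsg.Agent.Lib.MX.T1

/-!
# S5267: Lemma T, a quadratic central element of a TI Sylow subgroup (see notes/MX.md)
-/

set_option autoImplicit false
set_option linter.unusedSectionVars false
set_option linter.unusedVariables false

namespace Cfsg.Agent.MX

open Subgroup Cfsg.Agent.H9 Cfsg.Agent.FT

variable {p : ℕ} [hp : Fact p.Prime]

theorem t_word {R : Type*} [Ring R] {A B e : R} (hA : A * A = 0) (hB : B * B = 0)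
    (h : A * B + B * A = e) (hAe : A * e = A) (heA : e * A = A) (hBe : B * e = B)
    (heB : e * B = B) {c d : ℤ} (hcd : (c : R) * (d : R) = 1) :
    (1 + (c : R) * A) * (1 + ((-d : ℤ) : R) * B) * (1 + (c : R) * A) = 1 - e + (c • A - d • B) := by
  have h1 : ∀ r : R, c • d • r = r := fun r => by
    rw [zsmul_eq_mul, zsmul_eq_mul, ← mul_assoc, hcd, one_mul]
  have h2 : ∀ r : R, d • c • r = r := fun r => by rw [smul_comm, h1]
  have h3 : A * (B * A) = A := by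
    have := congrArg (A * ·) h
    simpa only [mul_add, ← mul_assoc, hA, zero_mul, zero_add, hAe] using this
  simp only [← zsmul_eq_mul, mul_add, add_mul, one_mul, mul_one, smul_mul_assoc, mul_smul_comm,
    neg_smul, smul_neg, neg_mul, mul_neg, smul_add, h1, h2, hA, smul_zero, mul_assoc, h3, ← h]
  abel

/-- `P` is the preimage of a TI Sylow subgroup of `ρ(X)`, `t` is central in it and quadratic. -/
theorem lemT {X R : Type*} [Group X] [Finite X] [Ring R] [Finite R] (h5 : 5 ≤ p) (hR : (p : R) = 0)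
    (ρ : X →* R) {P : Subgroup X} (hker : ∀ x, ρ x = 1 → x ∈ P)
    (hP : ∀ x ∈ P, ∃ k : ℕ, ρ x ^ p ^ k = 1) (hi : ¬ p ∣ P.index)
    (hTI : ∀ x ∈ P, ρ x ≠ 1 → ∀ g, g * x * g⁻¹ ∈ P → g ∈ 𝒩(P))
    {t : X} (ht : t ∈ P) (htc : ∀ u ∈ P, ρ u * ρ t = ρ t * ρ u)
    (hA : (ρ t - 1) * (ρ t - 1) = 0) {g : X} (hg : g * t * g⁻¹ ∉ P) :
    ∃ B e : R, B * B = 0 ∧ (ρ t - 1) * B + B * (ρ t - 1) = e ∧ e * e = e ∧
      (ρ t - 1) * e = ρ t - 1 ∧ e * (ρ t - 1) = ρ t - 1 ∧ B * e = B ∧ e * B = B ∧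
      (ρ (g * t * g⁻¹) - 1) * e = ρ (g * t * g⁻¹) - 1 ∧
      ∀ c d : ℤ, (c : R) * (d : R) = 1 →
        ∃ h : X, ρ h = 1 - e + (c : R) * ((ρ t - 1) * B) + (d : R) * (B * (ρ t - 1)) := by
  let π := ρ.toHomUnits.rangeRestrict
  have hπ : Function.Surjective π := ρ.toHomUnits.rangeRestrict_surjective
  let σ : ρ.toHomUnits.range →* R := (Units.coeHom R).comp ρ.toHomUnits.range.subtype
  have hσ : Function.Injective σ := fun x y h => Subtype.ext (Units.ext h)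
  have hσπ : ∀ x, σ (π x) = ρ x := fun _ => rfl
  have hm : ∀ {x}, π x ∈ P.map π ↔ x ∈ P := fun {x} => ⟨by
    rintro ⟨y, hy, e⟩
    have : y⁻¹ * x ∈ P := hker _ (by rw [← hσπ, map_mul, map_inv, e, inv_mul_cancel, map_one])
    simpa using P.mul_mem hy this, fun h => ⟨x, h, rfl⟩⟩
  have ht1 : π t ≠ 1 := fun e => hg (hker _ (by
    rw [← hσπ, map_mul π, map_mul π, e, mul_one, ← map_mul, mul_inv_cancel, map_one, map_one]))
  have hpg : IsPGroup p (P.map π) := by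
    rintro ⟨_, x, hx, rfl⟩
    obtain ⟨k, hk⟩ := hP x hx
    exact ⟨k, Subtype.ext (hσ ((map_pow σ _ _).trans (hk.trans (map_one σ).symm)))⟩
  have hti : ∀ x ∈ P.map π, x ≠ 1 → ∀ g, g * x * g⁻¹ ∈ P.map π → g ∈ 𝒩(P.map π) := by
    rintro _ ⟨x, hx, rfl⟩ h1 g hg
    obtain ⟨g, rfl⟩ := hπ g
    rw [← map_inv, ← map_mul, ← map_mul, hm] at hg
    exact le_normalizer_map π ⟨g, hTI x hx (fun e => h1 (hσ (e.trans (map_one σ).symm))) g hg, rfl⟩
  have hs : H7.SylowIn p (P.map π) ⊤ := H7.sylowIn_of_not_dvd_relIndex le_top hpg (by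
    rw [relIndex_top_right]; exact fun h => hi (h.trans (index_map_dvd P hπ)))
  have hT : TIS p (P.map π) (π t) :=
    { mem := hm.2 ht
      ne := ht1
      cen := by
        rintro _ ⟨y, hy, rfl⟩
        exact hσ (by rw [map_mul, map_mul]; exact htc y hy)
      pg := hpg
      ti := hti
      syl := fun Q hQ htQ y hy => by
        obtain ⟨b, -, hb⟩ := hs.exists_conj hQ le_top
        exact (mem_normalizer_iff.1 (hti _ (hm.2 ht) ht1 b (hb _ htQ)) y).2 (hb y hy) }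
  have hB := H3.MC.quad_conj ρ hA g
  obtain ⟨M, hM, hee⟩ := H3.MC.exists_idempotent_pow (H3.MC.cc ρ t (g * t * g⁻¹))
  set e := H3.MC.cc ρ t (g * t * g⁻¹) ^ M with he
  obtain ⟨x, h1, h2, h3, h4, h6, h7⟩ := t_main h5 hR σ hσ hT hA (b := π (g * t * g⁻¹))
    (fun h => hg (hm.1 h)) hB hM he.symm hee
  have hT' := hT.conj (π g)
  rw [← map_inv π g, ← map_mul, ← map_mul] at hT'
  obtain ⟨-, -, -, h8, -⟩ := t_main h5 hR σ hσ hT' hB (b := π t) (fun h => by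
      have hc := hT'.cen _ h
      obtain ⟨k, hk⟩ := hT'.pow_eq hT'.mem
      refine hg (hm.1 (hT.mem_of_conj ?_ hk))
      rw [← hc, mul_inv_cancel_right]; exact hT.mem) hA hM (e := e)
    (by rw [he, H3.MC.cc, H3.MC.cc, add_comm]; rfl) hee
  obtain ⟨x, rfl⟩ := hπ x
  rw [hσπ] at h1 h3 h4 h6 h7 h8
  replace h2 : (ρ t - 1) * (ρ x - 1) + (ρ x - 1) * (ρ t - 1) = e := h2
  refine ⟨ρ x - 1, e, h1, h2, hee, h3, h4, h6, h7, h8, fun c d hcd => ?_⟩
  have z1 : ∀ m : ℤ, ρ (t ^ m) = 1 + m * (ρ t - 1) := H3.MC.one_add_zpow ρ (by abel) hA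
  have z2 : ∀ m : ℤ, ρ (x ^ m) = 1 + m * (ρ x - 1) := H3.MC.one_add_zpow ρ (by abel) h1
  refine ⟨t ^ c * x ^ (-d) * t ^ c * (t ^ (-1 : ℤ) * x ^ (-(-1) : ℤ) * t ^ (-1 : ℤ)), ?_⟩
  simp only [map_mul, z1, z2]
  rw [t_word hA h1 h2 h3 h4 h6 h7 hcd, t_word hA h1 h2 h3 h4 h6 h7 (c := -1) (d := -1) (by simp)]
  generalize ρ t - 1 = A at *
  generalize ρ x - 1 = B at *
  simp only [← zsmul_eq_mul, mul_add, add_mul, mul_sub, sub_mul, one_mul, mul_one, smul_mul_assoc,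
    mul_smul_comm, neg_smul, one_smul, smul_neg, neg_mul, mul_neg, hA, h1, h3, h4, h6, h7, hee,
    smul_zero]
  abel

end Cfsg.Agent.MX
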