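import Cfsg.Agent.Lib.H3.MC1

/-!
# S5267: a central element of a TI Sylow subgroup inside `SL₂(K)`
-/

set_option autoImplicit false
set_option linter.unusedSectionVars false
set_option linter.unusedVariables false

namespace Cfsg.Agent.MX

open Subgroup Cfsg.Agent.H7 Cfsg.Agent.H9 Cfsg.Agent.H3.MC MatrixGroups

/-- `a ≠ 1` is central in the TI Sylow `p`-subgroup `P`. -/
structure TIS (p : ℕ) {Γ : Type*} [Group Γ] (P : Subgroup Γ) (a : Γ) : Prop where
  mem : a ∈ P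
  ne : a ≠ 1
  cen : ∀ y ∈ P, y * a = a * y
  pg : IsPGroup p P
  ti : ∀ x ∈ P, x ≠ 1 → ∀ g, g * x * g⁻¹ ∈ P → g ∈ normalizer (P : Set Γ)
  syl : ∀ Q : Subgroup Γ, IsPGroup p Q → a ∈ Q → Q ≤ P

variable {p : ℕ} [hp : Fact p.Prime]

namespace TIS

variable {Γ Γ' : Type*} [Group Γ] [Group Γ'] {P : Subgroup Γ} {a : Γ}

theorem comap (h : TIS p P a) (φ : Γ' →* Γ) (hφ : Function.Injective φ) {a' : Γ'}
    (ha : φ a' = a) : TIS p (P.comap φ) a' where
  mem := by rw [mem_comap, ha]; exact h.mem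
  ne := fun e => h.ne (by rw [← ha, e, map_one])
  cen := fun y hy => hφ (by rw [map_mul, map_mul, ha]; exact h.cen _ hy)
  pg := h.pg.comap_of_injective φ hφ
  ti := fun x hx h1 g hg => by
    have := h.ti (φ x) hx (fun e => h1 (hφ (e.trans (map_one φ).symm))) (φ g)
      (by simpa [mem_comap] using hg)
    rw [mem_normalizer_iff] at this ⊢
    intro y
    simpa [mem_comap] using this (φ y)
  syl := fun Q hQ haQ => map_le_iff_le_comap.1 (h.syl _ (hQ.map φ) ⟨a', haQ, ha⟩)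

theorem conj (h : TIS p P a) (g : Γ) :
    TIS p (P.comap (MulAut.conj g⁻¹).toMonoidHom) (g * a * g⁻¹) :=
  h.comap _ (MulAut.conj g⁻¹).injective (by simp [mul_assoc])

theorem sylowIn (h : TIS p P a) : SylowIn p P ⊤ :=
  ⟨le_top, h.pg, fun Q hQ hPQ _ => h.syl Q hQ (hPQ h.mem)⟩

theorem mem_of_norm (h : TIS p P a) {x : Γ} (hx : x ∈ normalizer (P : Set Γ)) {k : ℕ}
    (hk : x ^ p ^ k = 1) : x ∈ P :=
  h.sylowIn.mem_of_mem_normalizer (mem_top x) hx hk

theorem mem_of_conj (h : TIS p P a) {x : Γ} (hx : x * a * x⁻¹ ∈ P) {k : ℕ}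
    (hk : x ^ p ^ k = 1) : x ∈ P :=
  h.mem_of_norm (h.ti a h.mem h.ne x hx) hk

theorem pow_eq (h : TIS p P a) {x : Γ} (hx : x ∈ P) : ∃ k, x ^ p ^ k = 1 := by
  obtain ⟨k, hk⟩ := h.pg ⟨x, hx⟩; exact ⟨k, congrArg Subtype.val hk⟩

theorem se (h : TIS p P a) {x : Γ} (hx : x ∈ normalizer (P : Set Γ)) (h1 : x ≠ 1) (hxp : x ^ p = 1)
    {g : Γ} (hg : g * x * g⁻¹ ∈ normalizer (P : Set Γ)) : g ∈ normalizer (P : Set Γ) :=
  h.ti x (h.mem_of_norm hx (k := 1) (by rwa [pow_one])) h1 g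
    (h.mem_of_norm hg (k := 1) (by rw [pow_one, conj_pow, hxp]; simp))

end TIS

theorem t_one {Γ R : Type*} [Group Γ] [Monoid R] (ρ : Γ →* R) {m : Γ} (hm : ¬ p ∣ orderOf m)
    {k : ℕ} (hk : ρ m ^ p ^ k = 1) : ρ m = 1 := by
  have h1 : ρ m ^ orderOf m = 1 := by rw [← map_pow, pow_orderOf_eq_one, map_one]
  have h3 := pow_gcd_eq_one.2 ⟨hk, h1⟩
  rwa [show Nat.gcd (p ^ k) (orderOf m) = 1 from
    ((Nat.Prime.coprime_iff_not_dvd hp.out).2 hm).pow_left k, pow_one] at h3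

theorem t_twelve {R : Type*} [Monoid R] (h5 : 5 ≤ p) {r : R} (h1 : r ^ 12 = 1) (h2 : r ^ p = 1) :
    r = 1 := by
  have h3 := pow_gcd_eq_one.2 ⟨h1, h2⟩
  have c2 : Nat.Coprime 2 p := (Nat.coprime_primes Nat.prime_two hp.out).2 (by omega)
  have c3 : Nat.Coprime 3 p := (Nat.coprime_primes Nat.prime_three hp.out).2 (by omega)
  rwa [show Nat.gcd 12 p = 1 from (c2.mul_left c2).mul_left c3, pow_one] at h3

theorem t_pow_p {Γ R : Type*} [Group Γ] [Ring R] (hR : (p : R) = 0) (ρ : Γ →* R) {a : Γ}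
    (hA : (ρ a - 1) * (ρ a - 1) = 0) : ρ a ^ p = 1 := by
  rw [← map_pow, ← zpow_natCast, one_add_zpow ρ (α := ρ a - 1) (by abel) hA, Int.cast_natCast, hR,
    zero_mul, add_zero]

/-- A quadratic element and its conjugate under a normal `p'`-subgroup are never opposite. -/
theorem t_hh {Γ R : Type*} [Group Γ] [Ring R] [Finite R] [Nontrivial R] (h5 : 5 ≤ p)
    (hR : (p : R) = 0) (ρ : Γ →* R) {a : Γ} (hA : (ρ a - 1) * (ρ a - 1) = 0) (M : Subgroup Γ)
    [hMn : M.Normal] (hM : ∀ m ∈ M, ¬ p ∣ orderOf m) {κ : Γ} (hκ : κ ∈ M) :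
    ¬ IsUnit (cc ρ a (κ * a * κ⁻¹)) := fun hu => by
  have : CharP R p := (CharP.charP_iff_prime_eq_zero hp.out).2 hR
  let W : Subgroup Γ := zpowers a ⊔ M
  have haW : a ∈ W := mem_sup_left (mem_zpowers a)
  have hκW : κ ∈ W := mem_sup_right hκ
  have hbW : κ * a * κ⁻¹ ∈ W := W.mul_mem (W.mul_mem hκW haW) (W.inv_mem hκW)
  have z : ∀ m : ℤ, ρ (a ^ m) = 1 + m * (ρ a - 1) := one_add_zpow ρ (by abel) hA
  have hB := quad_conj ρ hA κ
  obtain ⟨m, hm⟩ := exists_int_cc h5 hR (ρ.comp W.subtype) (a := ⟨a, haW⟩) (b := ⟨_, hbW⟩) hA hB hu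
    (by
      rintro ⟨x, hxW⟩ k (hx : ρ x = 1 + k * (ρ a - 1)) (hk : k * (ρ a - 1) = (ρ a - 1) * k)
      show ∃ j : ℤ, ρ x = 1 + j * (ρ a - 1)
      obtain ⟨_, ⟨i, rfl⟩, y, hy, rfl⟩ := mem_sup_of_normal_right.1 hxW
      refine ⟨i, ?_⟩
      have e : ρ y = 1 + (k - i) * (ρ a - 1) := by
        have : y = a ^ (-i) * (a ^ i * y) := by group
        rw [this, map_mul, hx, z]
        generalize ρ a - 1 = A at hA hk ⊢
        have h0 : A * (k * A) = 0 := by rw [hk, ← mul_assoc, hA, zero_mul]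
        simp only [add_mul, mul_add, sub_mul, mul_one, one_mul, Int.cast_neg, neg_mul, mul_assoc,
          h0, mul_zero]
        abel
      obtain ⟨j, hj⟩ := exists_one_add_pow_eq_one (p := p) (n := (k - i) * (ρ a - 1)) ⟨2, by
        generalize ρ a - 1 = A at hA hk ⊢
        have hc : (k - i) * A = A * (k - i) := by
          rw [sub_mul, mul_sub, hk, (Int.cast_commute i A).eq]
        rw [sq, mul_assoc, hc, ← mul_assoc A, hA, zero_mul, mul_zero]⟩
      show ρ (a ^ i * y) = _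
      rw [map_mul, t_one ρ (hM y hy) (e ▸ hj), mul_one, z])
  have h12 := rel_twelve (ρ.comp W.subtype) (x := ⟨a, haW⟩) (y := ⟨_, hbW⟩) (α := ρ a - 1)
    (β := ρ (κ * a * κ⁻¹) - 1) (show ρ a = _ by abel) (show ρ _ = _ by simp) hA hB hm
    (M.subgroupOf W ⊔ (ρ.comp W.subtype).toHomUnits.ker)
    (fun x hx => mem_sup_right (Units.ext hx)) (mem_sup_left (by
      show a⁻¹ * (κ * a * κ⁻¹) ∈ M
      rw [← mul_assoc, ← mul_assoc]
      exact M.mul_mem (by simpa using hMn.conj_mem _ hκ a⁻¹) (M.inv_mem hκ)))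
  obtain ⟨k, hk0, k', hk', e⟩ := mem_sup_of_normal_right.1 h12
  have e1 : ρ k' = 1 := congrArg Units.val hk'
  have e2 : ρ k = ρ a ^ 12 := by
    have := congrArg (fun x : W => ρ x) e
    simpa [e1] using this
  have hp1 := t_pow_p hR ρ hA
  have e3 : ρ k = 1 := t_one ρ (hM k hk0) (k := 1) (by
    rw [e2, pow_one, ← pow_mul, mul_comm, pow_mul, hp1, one_pow])
  have e4 : ρ a = 1 := t_twelve h5 (e2 ▸ e3) hp1
  rw [cc, e4] at hu
  simp at hu

theorem t_cc_slU {Γ K : Type*} [Group Γ] [CommRing K] (σ : Γ →* SL(2, K)) {a : Γ} {γ : K}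
    (ha : σ a = slU γ) (g : Γ) :
    cc (Matrix.SpecialLinearGroup.coeMonoidHom.comp σ) a (g * a * g⁻¹) =
      Matrix.scalar (Fin 2) (-(γ * σ g 1 0) ^ 2) := by
  rw [cc, map_conj_sub]
  change ((σ a).1 - 1) * ((σ g).1 * ((σ a).1 - 1) * (σ g⁻¹).1) +
    ((σ g).1 * ((σ a).1 - 1) * (σ g⁻¹).1) * ((σ a).1 - 1) = _
  have hi : (σ g⁻¹).1 = !![σ g 1 1, -σ g 0 1; -σ g 1 0, σ g 0 0] := by
    rw [map_inv, Matrix.SpecialLinearGroup.SL2_inv_expl]; rfl
  rw [ha, hi, coe_slU]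
  ext i j; fin_cases i <;> fin_cases j <;>
    simp [Matrix.mul_apply, Fin.sum_univ_two, Matrix.one_apply] <;> ring

section SL

variable {Γ K : Type*} [Group Γ] [Finite Γ] [CommRing K] [Finite K] (h5 : 5 ≤ p) (hK : (p : K) = 0)
  (σ : Γ →* SL(2, K)) (hσ : Function.Injective σ) {P : Subgroup Γ} {a b : Γ} (h : TIS p P a)
  {γ : K} (hγ : IsUnit γ) (ha : σ a = slU γ) (hb : σ b = slL 1)
include h5 hK hσ h hγ ha

theorem t_mem {x : Γ} (hx : x ∈ P) : σ x = slU (σ x 0 1) := by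
  obtain ⟨k, hk⟩ := h.pow_eq hx
  exact eq_slU_of_comm h5 hK hγ (by rw [← ha, ← map_mul, ← map_mul, h.cen x hx]) (k := k)
    (by rw [← map_pow, hk, map_one])

include hb in
theorem t_ker {F : Type*} [Field F] (f : K →+* F) {m : Γ}
    (hm : Matrix.SpecialLinearGroup.map f (σ m) = 1) : ¬ p ∣ orderOf m := fun hd => by
  have ho := orderOf_pow_orderOf_div (orderOf_pos m).ne' hd
  set τ := (Matrix.SpecialLinearGroup.map (n := Fin 2) f).comp σ with hτ
  have hτ' : ∀ x, τ x = Matrix.SpecialLinearGroup.map f (σ x) := fun _ => rfl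
  have hy : τ (m ^ (orderOf m / p)) = 1 := by rw [map_pow, hτ', hm, one_pow]
  generalize m ^ (orderOf m / p) = y at ho hy
  have hy1 : y ≠ 1 := fun e => hp.out.ne_one (by rw [← ho, e, orderOf_one])
  have hyp : ∀ g, (g * y * g⁻¹) ^ p ^ 1 = 1 := fun g => by
    rw [pow_one, conj_pow, ← ho, pow_orderOf_eq_one]; simp
  let u : Multiplicative F →* SL(2, F) := MonoidHom.mk' (fun r => slU r.toAdd) fun a b =>
    slU_add _ _
  have hPW : P ≤ u.range.comap τ := fun x hx =>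
    ⟨Multiplicative.ofAdd (f (σ x 0 1)), by
      rw [hτ', t_mem h5 hK σ hσ h hγ ha hx, map_slU]
      simp [u, coe_slU]⟩
  have key : ∀ g, ∃ w ∈ u.range.comap τ, w * g * y * (w * g)⁻¹ ∈ P := fun g => by
    obtain ⟨w, hw, h1⟩ := (h.sylowIn.mono_right hPW le_top).exists_conj
      (isPGroup_zpowers_of_pow (hyp g)) (zpowers_le.2 (by
        rw [mem_comap, map_mul, map_mul, hy, mul_one, ← map_mul, mul_inv_cancel, map_one]
        exact one_mem _))
    exact ⟨w, hw, by simpa [mul_assoc] using h1 _ (mem_zpowers _)⟩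
  obtain ⟨w, hw, h1⟩ := key 1
  obtain ⟨w', hw', h2⟩ := key (b * w)
  have h3 := h.ti _ h1 (by simpa using hy1) (w' * b) (by simpa [mul_assoc] using h2)
  have h4 := hPW ((mem_normalizer_iff.1 h3 a).1 h.mem)
  have h5' : b * a * b⁻¹ ∈ u.range.comap τ := by
    have := mul_mem (mul_mem (inv_mem hw') h4) hw'
    simpa [mul_assoc] using this
  obtain ⟨r, hr⟩ := h5'
  have h6 : slU r.toAdd * slL 1 = slL 1 * slU (f γ) := by
    have : τ (b * a * b⁻¹) * τ b = τ b * τ a := by rw [← map_mul, ← map_mul]; simp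
    rw [← hr, hτ', hτ', ha, hb, map_slU, map_slL, map_one] at this
    exact this
  have h7 := congrArg (fun g : SL(2, F) => g 1 1) h6
  simp [coe_slU, coe_slL, Matrix.mul_apply, Fin.sum_univ_two] at h7
  exact (hγ.map f).ne_zero h7

include hb in
theorem t_sl2 [Nontrivial K] : ∃ x, σ x = slU 1 := by
  have : CharP K p := (CharP.charP_iff_prime_eq_zero hp.out).2 hK
  obtain ⟨J, hJ⟩ := Ideal.exists_maximal K
  have hfin : ∀ I : Ideal K, Finite (K ⧸ I) := fun I =>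
    Finite.of_surjective _ Ideal.Quotient.mk_surjective
  letI := Ideal.Quotient.field J
  set f := Ideal.Quotient.mk J
  have hF : (p : K ⧸ J) = 0 := by rw [← map_natCast f, hK, map_zero]
  have : CharP (K ⧸ J) p := (CharP.charP_iff_prime_eq_zero hp.out).2 hF
  set τ := (Matrix.SpecialLinearGroup.map (n := Fin 2) f).comp σ with hτ
  have hτ' : ∀ x, τ x = Matrix.SpecialLinearGroup.map f (σ x) := fun _ => rfl
  have h1 : slU 1 ∈ (⊤ : Subgroup Γ).map τ := dickson_five h5 (hγ.map f).ne_zero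
    ⟨a, mem_top _, by rw [hτ', ha, map_slU]⟩ ⟨b, mem_top _, by rw [hτ', hb, map_slL, map_one]⟩
  let u : Multiplicative (K ⧸ J) →* SL(2, K ⧸ J) :=
    MonoidHom.mk' (fun r => slU r.toAdd) fun a b => slU_add _ _
  have hs := h.sylowIn.map τ
  have hU : IsPGroup p u.range := by
    rintro ⟨_, r, rfl⟩
    exact ⟨1, Subtype.ext (by rw [pow_one]; exact slU_pow_p hF _)⟩
  have := hs.eq_of_le (K := u.range ⊓ (⊤ : Subgroup Γ).map τ) (hU.to_le inf_le_left)
    (le_inf (by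
      rintro _ ⟨x, hx, rfl⟩
      exact ⟨Multiplicative.ofAdd (f (σ x 0 1)), by
        rw [hτ', t_mem h5 hK σ hσ h hγ ha hx, map_slU]
        simp [u, coe_slU]⟩) hs.le) inf_le_right
  obtain ⟨x, hx, e⟩ : slU (1 : K ⧸ J) ∈ P.map τ :=
    this ▸ (⟨⟨Multiplicative.ofAdd 1, rfl⟩, h1⟩ : slU 1 ∈ u.range ⊓ (⊤ : Subgroup Γ).map τ)
  have ex := t_mem h5 hK σ hσ h hγ ha hx
  generalize σ x 0 1 = θ at ex
  rw [hτ', ex, map_slU] at e
  replace e := slU_inj e
  obtain ⟨κ, hκ⟩ : relK θ ∈ σ.range := relK_mem ⟨x, ex⟩ ⟨b, hb⟩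
  have hκ0 : κ ∈ τ.ker := by rw [MonoidHom.mem_ker, hτ', hκ, map_relK, e, relK_one]
  have hM : ∀ m ∈ τ.ker, ¬ p ∣ orderOf m := fun m hm => t_ker h5 hK σ hσ h hγ ha hb f hm
  have hn : IsNilpotent (1 - θ) := nilpotent_iff_mem_prime.2 fun I hI => by
    letI := (Finite.isField_of_domain (K ⧸ I)).toField
    set f' := Ideal.Quotient.mk I
    by_contra hne
    rw [← Ideal.Quotient.eq_zero_iff_mem] at hne
    let σ' := (Matrix.SpecialLinearGroup.map (n := Fin 2) f').comp σ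
    have ha' : σ' a = slU (f' γ) := by rw [MonoidHom.comp_apply, ha]; exact map_slU _ _
    refine t_hh h5 (R := Matrix (Fin 2) (Fin 2) (K ⧸ I))
      (by rw [← map_natCast (Matrix.scalar (Fin 2)), ← map_natCast f', hK, map_zero, map_zero])
      (Matrix.SpecialLinearGroup.coeMonoidHom.comp σ') (a := a) ?_ τ.ker hM hκ0 ?_
    · show ((σ' a).1 - 1) * ((σ' a).1 - 1) = 0
      rw [ha']
      ext i j; fin_cases i <;> fin_cases j <;>
        simp [coe_slU, Matrix.mul_apply, Fin.sum_univ_two, Matrix.one_apply]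
    · rw [t_cc_slU σ' ha']
      refine IsUnit.map _ (IsUnit.neg (IsUnit.pow _ ((hγ.map f').mul (Ne.isUnit ?_))))
      show Matrix.SpecialLinearGroup.map f' (σ κ) 1 0 ≠ 0
      rw [hκ, map_relK]
      simpa [coe_relK] using hne
  have e' : (relK θ).1 = 1 + (1 - θ) • !![θ + θ * (1 - θ), θ * (1 - θ); 1 - θ, -θ] := by
    ext a b; fin_cases a <;> fin_cases b <;> simp [coe_relK] <;> ring
  obtain ⟨k, hk⟩ := exists_one_add_pow_eq_one (p := p)
    (n := (1 - θ) • !![θ + θ * (1 - θ), θ * (1 - θ); 1 - θ, -θ])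
    (by obtain ⟨r, hr⟩ := hn; exact ⟨r, by rw [smul_pow, hr, zero_smul]⟩)
  have h2 : relK θ = 1 := hκ ▸ t_one σ (hM κ hκ0) (k := k) (Subtype.ext (by
    rw [Matrix.SpecialLinearGroup.coe_pow, hκ, e', hk]; rfl))
  have h3 : θ * (1 - θ) = 0 := by
    have := congrArg (fun g : SL(2, K) => g 1 1) h2
    simpa [coe_relK] using this
  have hu : IsUnit θ := by simpa using hn.isUnit_one_sub
  exact ⟨x, by rw [ex, sub_eq_zero.1 (hu.mul_right_eq_zero.1 h3)]⟩

end SL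

end Cfsg.Agent.MX
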