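import Cfsg.Agent.Lib.MX.U
import Cfsg.Agent.S5316

/-!
# S5267: essential subgroups of `C_S(Z₂)` outside `γ₁`, first part (see notes/MX.md)
-/

set_option autoImplicit false
set_option linter.unusedSectionVars false
set_option linter.unusedVariables false

namespace Cfsg.Agent.MX

open Subgroup Cfsg.Agent.H9 Cfsg.Agent.FT Cfsg.FusionSystem
open scoped commutatorElement

universe u

variable {Ω : Type u} [Group Ω] {S E : Subgroup Ω} [Finite S] {F : FusionSystem S} {p n : ℕ}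
  [hp : Fact p.Prime]

/-- `K` is invariant under `Aut_F(E)`. -/
def TwInv (F : FusionSystem S) (E K : Subgroup Ω) : Prop :=
  ∀ g, F.IsIso E E g → ∀ x ∈ E, x ∈ K → g x ∈ K

theorem TwInv.of_comm {A B K : Subgroup Ω} (hA : TwInv F E A) (hB : TwInv F E B) (hAE : A ≤ E)
    (h : ∀ x ∈ E, x ∈ K ↔ ∀ y ∈ A, ⁅y, x⁆ ∈ B) : TwInv F E K := fun g hg x hx hK => by
  obtain ⟨g', hg', -, e⟩ := hg.exists_symm
  refine (h _ (hg.mapsTo x hx)).2 fun y hy => ?_
  have h1 := hg'.mapsTo y (hAE hy)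
  rw [← e y (hAE hy), ← hg.mor.map_commutatorElement h1 hx]
  exact hB g hg _ (E.mul_mem (E.mul_mem (E.mul_mem h1 hx) (E.inv_mem h1)) (E.inv_mem hx))
    ((h x hx).1 hK _ (hA g' hg' y (hAE hy) hy))

theorem twInv_bot : TwInv F E ⊥ := fun g hg x hx h => by
  rw [mem_bot.1 h, hg.mor.map_one]; exact one_mem _

theorem twInv_self : TwInv F E E := fun g hg x hx _ => hg.mapsTo x hx

theorem M5.tw_eq (h : M5 p S n) (hES : E ≤ S) (hZ : lv S (n - 1) ≤ E) {w : Ω} (hw : w ∈ E)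
    (hw' : w ∉ gam S) : ∃ j, 1 ≤ j ∧ j ≤ n ∧ E ⊓ gam S = lv S j ∧ E = lv S j ⊔ zpowers w := by
  have hn := lv_norm S 1 (hES hw)
  obtain ⟨j, h1, h2, e⟩ := eq_lv_of_normal h.mc h.h4 (h.normal_of_mem (E := E ⊓ gam S) inf_le_right
    (le_inf hZ (lv_le_gam (by have := h.h4; omega))) (hES hw) hw'
    (inf_normalizer_le_normalizer_inf ⟨le_normalizer hw, hn⟩)) inf_le_right
  refine ⟨j, h1, h2, e, le_antisymm (fun x hx => ?_) (sup_le (e ▸ inf_le_left) (zpowers_le.2 hw))⟩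
  obtain ⟨y, hy, i, rfl⟩ := (mem_sup_zpowers hn).1
    ((Lev.sup_eq h.mc h.h4 (i := 0) ⟨hES hw, hw'⟩).ge (hES hx))
  exact mul_mem (mem_sup_left (e.le ⟨(mul_mem_cancel_right (zpow_mem hw i)).1 hx, hy⟩))
    (mem_sup_right (zpow_mem_zpowers w i))

section
variable (h : M5 p S n) (hES : E ≤ S) {w : Ω} (hw : w ∈ E) (hw' : w ∉ gam S) {j : ℕ} (hj : 1 ≤ j)
  (e : E ⊓ gam S = lv S j)
include h hES hw hw' hj e

theorem M5.tw_mem {i : ℕ} (hi : j < i) (hn : i + 2 ≤ n) {x : Ω} (hx : x ∈ E)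
    (hc : ∀ y ∈ E, ⁅y, x⁆ ∈ lv S (i + 1)) : x ∈ lv S i := by
  have h1 : x ∈ lv S j := e.le ⟨hx, by_contra fun h1 => by
    obtain ⟨y, hy⟩ := exists_lev_of_lt h.mc h.h4 (i := j) (by omega)
    have := (h.step hy (hES hx) h1 hj (Or.inl (by omega))).le_of_mem (hc y (e.ge hy.1).1)
    omega⟩
  by_contra h2
  obtain ⟨l, hl, h3⟩ := exists_lev_of_not_mem (hES hx) h2
  have := (h.step h3 (hES hw) hw' (hj.trans (h3.le_of_mem h1)) (Or.inl (by omega))).le_of_mem
    (commutator_mem_comm (hc w hw))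
  omega

theorem M5.tw_inv (hle : E ≤ 𝒞(lv S (n - 2))) {i : ℕ} (hi : j < i) (hn : i + 2 ≤ n) :
    TwInv F E (lv S i) := by
  obtain ⟨d, hd⟩ : ∃ d, i + d + 2 = n := ⟨n - 2 - i, by omega⟩
  induction d generalizing i with
  | zero =>
    refine twInv_self.of_comm twInv_bot le_rfl fun x hx => ⟨fun h1 y hy => ?_, fun h1 =>
      h.tw_mem hES hw hw' hj e hi hn hx fun y hy => bot_le (a := lv S (i + 1)) (h1 y hy)⟩
    exact commutator_mem_of_comm _ (mem_cent.1 (hle hy) x (by rwa [show n - 2 = i by omega])).symm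
  | succ d ih =>
    exact twInv_self.of_comm (ih (i := i + 1) (by omega) (by omega) (by omega)) le_rfl fun x hx =>
      ⟨fun h1 y hy => comm_mem_succ' (hES hy) h1, h.tw_mem hES hw hw' hj e hi hn hx⟩

theorem M5.tw_inv' {a : ℕ} {B : Subgroup Ω} (ha : j ≤ a) (hn : a + 3 ≤ n) (hA : TwInv F E (lv S a))
    (hB : TwInv F E B) (h1 : B ≤ lv S (a + 2)) (h2 : ∀ y ∈ lv S a, ∀ x ∈ lv S j, ⁅y, x⁆ ∈ B) :
    TwInv F E (lv S j) := by
  refine hA.of_comm hB ((lv_anti S ha).trans (e ▸ inf_le_left)) fun x hx =>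
    ⟨fun h3 y hy => h2 y hy x h3, fun h3 => e.le ⟨hx, by_contra fun h4 => ?_⟩⟩
  obtain ⟨y, hy⟩ := exists_lev_of_lt h.mc h.h4 (i := a) (by omega)
  exact (h.step hy (hES hx) h4 (hj.trans ha) (Or.inl hn)).2 (h1 (h3 y hy.1))

end

theorem M5.tw_chain (h : M5 p S n) (hE : F.IsEssential p E) {j : ℕ} (hj : 2 ≤ j) (hn : j + 2 ≤ n)
    (e : E ⊓ gam S = lv S j) (hinv : ∀ i, j ≤ i → i + 2 ≤ n → TwInv F E (lv S i)) {Z : Subgroup Ω}
    (h1 : Z ≤ lv S (n - 1)) (h2 : TwInv F E Z)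
    (h3 : ∀ x ∈ lv S (n - 2), ∀ t ∈ lv S (j - 1), ⁅x, t⁆ ∈ Z) : False := by
  obtain ⟨j, rfl⟩ := Nat.exists_eq_add_of_le' (show 1 ≤ j by omega)
  obtain ⟨t, ht⟩ := exists_lev_of_lt h.mc h.h4 (i := j) (by omega)
  have hc : ∀ x : Ω, x⁻¹ * (t * x * t⁻¹) = ⁅x⁻¹, t⁆ := fun x => by
    simp [commutatorElement_def, mul_assoc]
  have hE' : ∀ x ∈ E, ⁅x⁻¹, t⁆ ∈ lv S (j + 1) := fun x hx =>
    comm_mem_succ' (inv_mem (hE.le hx)) ht.1
  have := H9.finite_of_le hE.le
  let C : ℕ → Subgroup Ω := fun i => match i with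
    | 0 => ⊥
    | 1 => Z
    | i + 2 => if j + i + 3 ≤ n then lv S (n - 2 - i) else ⊤
  refine ht.2 (e.le ⟨hE.isCentric.mem_of_chain h.mc.hS (hE.isRadical h.mc.hS) (C := C)
    (monotone_nat_of_le_succ fun i => ?_) (inf_bot_eq _) (n := n + 2) ?_ (fun g hg i => ?_) ht.mem
    (mem_normalizer_of_conj_mem fun x hx => ?_) fun i x hx hx' => ?_, lv_le_gam (by omega) ht.1⟩)
  · match i with
    | 0 => exact bot_le
    | 1 => simpa [C, show j + 3 ≤ n by omega] using h1.trans (lv_anti S (by omega))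
    | i + 2 =>
      simp only [C]
      split_ifs
      exacts [lv_anti S (by omega), le_top, by omega, le_rfl]
  · simp [C, show ¬ j + n + 3 ≤ n by omega]
  · match i with
    | 0 => exact twInv_bot g hg
    | 1 => exact h2 g hg
    | i + 2 =>
      simp only [C]
      split_ifs
      exacts [hinv _ (by omega) (by omega) g hg, fun _ _ _ => trivial]
  · simpa [← hc] using mul_mem hx (e.ge (hE' x hx)).1
  rw [hc]
  match i with
  | 0 => exact commutator_mem_of_comm _ (commute_center h.mc h.h4 (inv_mem (h1 hx')) ht.mem).symm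
  | 1 => exact h3 _ (inv_mem (by simpa [C, show j + 3 ≤ n by omega] using hx')) t ht.1
  | i + 2 =>
    simp only [C] at hx' ⊢
    split_ifs at hx' ⊢
    · rw [show n - 2 - i = n - 2 - (i + 1) + 1 by omega]
      exact comm_mem_succ (inv_mem hx') ht.mem
    · rw [show n - 2 - i = j + 1 by omega]
      exact hE' x hx
    all_goals trivial

theorem M5.tw_cases (h : M5 p S n) (hF : F.IsSaturated p) (hE : F.IsEssential p E)
    (hle : E ≤ cst S (n - 3)) {w : Ω} (hw : w ∈ E) (hw' : w ∉ gam S) :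
    (n = 6 ∧ E = cst S (n - 3)) ∨ (Nat.card E = p ^ 4 ∧ E = lv S (n - 3) ⊔ zpowers w) := by
  have hm := h.mc
  have h4 := h.h4
  have hne : ¬ NE S n := fun e => hw' (e.ge (hle hw))
  obtain ⟨h1, h6, -, hpair⟩ := h.exc hne
  have hC : E ≤ 𝒞(lv S (n - 2)) := hle.trans ((cst_eq hm h4).le.trans inf_le_right)
  have hZ : lv S (n - 2) ≤ E := fun x hx => centralizer_le_of_isCentric hE.isCentric (lv_le S _ hx)
    fun y hy => (mem_cent.1 (hC hy) x hx).symm
  obtain ⟨j, hj, hj', e, e'⟩ := h.tw_eq hE.le ((lv_anti S (by omega)).trans hZ) hw hw'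
  have h2 : 2 ≤ j := by
    obtain ⟨y, hy⟩ := exists_lev_of_lt hm h4 (i := 1) (by omega)
    by_contra h2
    have := e.ge (lv_anti S (show j ≤ 1 by omega) hy.1)
    exact hy.2 ((gam_inf_cst hm h4 hne).le ⟨this.2, hle this.1⟩)
  have h3 : j + 2 ≤ n := by
    obtain ⟨y, hy⟩ := exists_lev_of_lt hm h4 (i := n - 2) (by omega)
    have := hy.le_of_mem (e.le ⟨hZ hy.1, lv_le_gam (by omega) hy.1⟩)
    omega
  have hc : Nat.card E = p ^ (n - (j - 1)) := by
    rw [e', lv_of_two h2, hm.card_tw h.h5 (hE.le hw) hw' (by omega) (by omega)]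
  have hinv := fun i => h.tw_inv (F := F) hE.le hw hw' hj e hC (i := i)
  rcases (by omega : j + 2 = n ∨ j + 3 = n ∨ (n = 6 ∧ j = 2) ∨ (3 ≤ j ∧ j + 4 ≤ n) ∨
    (j = 2 ∧ 7 ≤ n)) with h5 | h5 | ⟨h5, rfl⟩ | ⟨h5, h7⟩ | ⟨rfl, h7⟩
  · rw [show n - (j - 1) = 3 by omega] at hc
    have := S5316.result p h.h5 hm.hS n hm.card (by omega) hm.ne F hF E hE (by
      rintro (⟨h7, -⟩ | ⟨-, h7, -⟩)
      · simp [hc, Nat.pow_right_inj hp.out.one_lt] at h7
      refine IsExtraspecial.not_isMulCommutative h7 (H7.isMulCommutative_iff_forall.2 fun a ha b hb => ?_)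
      rw [show j = n - 2 by omega] at e'
      have k : ∀ b ∈ lv S (n - 2), ∀ a ∈ E, b * a = a * b := fun b hb a ha => mem_cent.1 (hC ha) b hb
      exact mul_comm_of_sup_zpowers e'.symm (fun c hc => k c hc b hb)
        (mul_comm_of_sup_zpowers e'.symm (fun c hc => k c hc w hw) rfl hb).symm ha)
    rw [hc, Nat.pow_le_pow_iff_right hp.out.one_lt] at this
    omega
  · exact Or.inr ⟨by rw [hc]; congr 1; omega, by rwa [show n - 3 = j by omega]⟩
  · refine Or.inl ⟨h5, le_antisymm hle fun x hx => ?_⟩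
    obtain ⟨y, hy, i, rfl⟩ := (mem_sup_zpowers (lv_norm S 1 (hE.le hw))).1
      ((Lev.sup_eq hm h4 (i := 0) ⟨hE.le hw, hw'⟩).ge hx.1)
    exact mul_mem (e.ge ((gam_inf_cst hm h4 hne).le
      ⟨hy, (mul_mem_cancel_right (hle (zpow_mem hw i))).1 hx⟩)).1 (zpow_mem hw i)
  · refine (h.tw_chain hE h2 h3 e (fun i hi hi' => ?_) bot_le twInv_bot fun x hx t ht =>
      commutator_mem_of_comm _ (commute_of_le hm h4 (by omega) (by omega) (by omega) hx ht)).elim
    rcases hi.eq_or_lt with rfl | hi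
    · exact h.tw_inv' hE.le hw hw' hj e (a := n - 3) (by omega) (by omega)
        (hinv _ (by omega) (by omega)) twInv_bot bot_le fun y hy x hx =>
          commutator_mem_of_comm _ (commute_of_le hm h4 (by omega) (by omega) (by omega) hy hx)
    · exact hinv i hi hi'
  have k2 : TwInv F E (lv S 2) := h.tw_inv' hE.le hw hw' hj e (a := 3) (by omega) (by omega)
    (hinv _ (by omega) (by omega)) (hinv 5 (by omega) (by omega)) le_rfl fun y hy x hx =>
      comm_mem_add hm h4 (by omega) (by omega) hy hx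
  refine (h.tw_chain hE h2 h3 e (fun i hi hi' => ?_) le_rfl (fun g hg x hx hx' => ?_)
    fun x hx t ht => ?_).elim
  · rcases hi.eq_or_lt with rfl | hi
    exacts [k2, hinv i hi hi']
  · obtain ⟨a, ha⟩ := exists_lev_of_lt hm h4 (i := 2) (by omega)
    obtain ⟨b, hb⟩ := exists_lev_of_lt hm h4 (i := n - 3) (by omega)
    have haE := (e.ge ha.1).1
    have hbE := (e.ge (lv_anti S (by omega) hb.1)).1
    have k : ∀ a ∈ lv S 2, ∀ b ∈ lv S (n - 3), ⁅a, b⁆ ∈ lv S (n - 1) := fun a ha b hb =>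
      lv_anti S (by omega) (comm_mem_add hm h4 (by omega) (by omega) ha hb)
    refine (Lev.le_of_mem' hm h4 (K := hg.mor.isHomOn.preim (lv S (n - 1))) (lev_center hm h4
      (k a ha.1 b hb.1) (hpair 2 (n - 3) (by omega) (by omega) (by omega) a b ha hb))
      ⟨hZ (lv_anti S (by omega) (k a ha.1 b hb.1)), ?_⟩ ?_ hx').2
    · rw [hg.mor.map_commutatorElement haE hbE]
      exact k _ (k2 g hg a haE ha.1) _ (hinv _ (by omega) (by omega) g hg b hbE hb.1)
    · rw [lv_eq_bot hm h4 (by omega)]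
      exact bot_le
  · rw [show n - 1 = n - 2 + 1 by omega]
    exact comm_mem_succ hx (lv_le S _ ht)

/-- An essential subgroup inside `γ₁` is large. -/
theorem M5.card_of_le_gam (h : M5 p S n) (h5 : 5 ≤ n) (hF : F.IsSaturated p)
    (hE : F.IsEssential p E) (hle : E ≤ gam S) : p ^ 4 ≤ Nat.card E := by
  refine S5316.result p h.h5 h.mc.hS n h.mc.card h5 h.mc.ne F hF E hE fun hc => ?_
  obtain ⟨M, H⟩ := exists_essCtx h.mc.hS hF hE
  obtain ⟨-, s, hs, hs'⟩ := H.pearl (hc.imp And.left fun hc =>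
    ⟨hc.1, IsExtraspecial.not_isMulCommutative hc.2.1⟩) h.mc.card
  exact h.mc.not_mem_gam h.h4 hs' (hle hs)

/-- The large essential subgroups outside `γ₁`. -/
theorem M5.eq_of_card (h : M5 p S n) (hF : F.IsSaturated p) (hE : F.IsEssential p E)
    (hc : p ^ 4 < Nat.card E) : E ≤ gam S ∨ (n = 6 ∧ E = cst S (n - 3)) := by
  refine or_iff_not_imp_left.2 fun h1 => ?_
  by_cases h2 : E ≤ cst S (n - 3)
  · obtain ⟨w, hw, hw'⟩ := SetLike.not_le_iff_exists.1 h1
    exact (h.tw_cases hF hE h2 hw hw').resolve_right fun e => by omega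
  obtain ⟨s, hs, h3, h4⟩ := exists_not_mem_two h1 h2
  rcases pearl_of_unif h.mc h.h4 hF hE hs (h.unif (hE.le hs) h3 h4) with ⟨e, -⟩ | ⟨e, -⟩ <;>
    rw [e, Nat.pow_lt_pow_iff_right hp.out.one_lt] at hc <;> omega

end Cfsg.Agent.MX
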