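import Cfsg.Agent.Lib.MX.TW1
import Cfsg.Agent.Lib.MX.W0
import Cfsg.Agent.Lib.H7.Alperin
import Cfsg.Agent.Lib.H9.Weight

/-!
# S5267: essential subgroups of `C_S(Z₂)` outside `γ₁`, second part (see notes/MX.md)
-/

set_option autoImplicit false
set_option linter.unusedSectionVars false
set_option linter.unusedVariables false

namespace Cfsg.Agent.MX

open Subgroup Cfsg.Agent.H9 Cfsg.Agent.FT Cfsg.FusionSystem
open Cfsg.Agent.EX (pw)
open scoped commutatorElement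

universe u

variable {Ω : Type u} [Group Ω] {S E : Subgroup Ω} [Finite S] {F : FusionSystem S} {p n i : ℕ}
  [hp : Fact p.Prime] {g : Ω → Ω} {w x y : Ω}

theorem map_mem_lv (hg : F.IsIso S S g) (hx : x ∈ lv S i) : g x ∈ lv S i := by
  match i with
  | 0 => exact hg.mapsTo x hx
  | 1 => exact IsIso.map_mem_gam hg hx
  | i + 2 => exact IsMor.map_mem_lcs hg.mor le_rfl hg.mapsTo hx

theorem neg_cong (h : MaxCl p S n) (h4 : 4 ≤ n) (hx : x ∈ lv S i) (e : x * y ∈ lv S (i + 1)) :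
    (pw x (-1 : ZMod p))⁻¹ * y ∈ lv S (i + 1) :=
  cong_trans (cong_symm (zpow_cong_pw h h4 hx (c := -1) (by simp))) (by simpa using e)

theorem M5.fwt_succ (h : M5 p S n) (hg : F.IsIso S S g) (hw : w ∈ S) (hw' : w ∉ gam S)
    (e : w * g w ∈ gam S) (hi : 1 ≤ i) (hn : i + 3 ≤ n) {a : ZMod p} (ha : FWt S g i a) :
    FWt S g (i + 1) (-a) := by
  obtain ⟨y, hy⟩ := exists_lev_of_lt h.mc h.h4 (i := i) (by omega)
  have hc := h.step hy hw hw' hi (Or.inl hn)
  refine fwt_of_lev h.mc h.h4 (hg.mor.mono (lv_le S _)).isHomOn (fun _ => map_mem_lv hg) hc ?_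
  rw [hg.mor.map_commutatorElement hy.mem hw, ← mul_neg_one]
  exact bilin h.mc h.h4 (lv_le S (i + 1)) (lv_le S 1) (lv_norm S _) (lv_norm S _) hy.mem hw hc.1
    (fun c hc => comm_mem_succ hc hw) (fun d hd => h.comm_gam hi (Or.inl hn) hy.1 hd)
    (fun c hc d hd => comm_mem_succ hc hd.1) (ha y hy.1) (neg_cong h.mc h.h4 (i := 0) hw e)

theorem M5.not_tw (h : M5 p S n) (hF : F.IsSaturated p) (hE : F.IsEssential p E)
    (hle : E ≤ cst S (n - 3)) {w : Ω} (hw' : w ∉ gam S) (he : E = lv S (n - 3) ⊔ zpowers w) :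
    False := by
  have hm := h.mc
  have h4 := h.h4
  have hp5 := h.h5
  have hwE : w ∈ E := he ▸ mem_sup_right (mem_zpowers w)
  have hw := hE.le hwE
  obtain ⟨⟨r, hr⟩, h6, -, hpair⟩ := h.exc fun e => hw' (e.ge (hle hwE))
  have h3E : lv S (n - 3) ≤ E := he ▸ le_sup_left
  have h2E : lv S (n - 2) ≤ E := (lv_anti S (by omega)).trans h3E
  have hC : E ≤ 𝒞(lv S (n - 2)) := hle.trans (by rw [cst_eq hm h4]; exact inf_le_right)
  have he' : E = S.lowerCentralSeries (n - 4) ⊔ zpowers w := by rw [he, lv_of_two (by omega)]; rfl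
  have hγ : ∀ x ∈ E, x ∈ gam S → x ∈ lv S (n - 3) := fun x hx hx' => by
    rw [lv_of_two (by omega)]
    exact hm.mem_of_mem_tw hp5 hw hw' (by omega) (by omega) (he' ▸ hx) hx'
  have hcard : Nat.card E = p ^ 4 := by
    rw [he', hm.card_tw hp5 hw hw' (by omega) (by omega), show n - (n - 4) = 4 by omega]
  obtain ⟨u, hu⟩ := exists_lev_of_lt hm h4 (i := n - 3) (by omega)
  obtain ⟨t, ht⟩ := exists_lev_of_lt hm h4 (i := n - 4) (by omega)
  have e3 : n - 3 + 1 = n - 2 := by omega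
  have e4 : n - 4 + 1 = n - 3 := by omega
  have hst : ∀ x y, Lev S (n - 3) x → y ∈ S → y ∉ gam S → Lev S (n - 2) ⁅x, y⁆ :=
    fun x y hx hy hy' => e3 ▸ h.step hx hy hy' (by omega) (Or.inl (by omega))
  have htE : t ∉ E := fun e => ht.2 (e4.symm ▸ hγ t e (lv_le_gam (by omega) ht.1))
  obtain ⟨M, H⟩ := exists_essCtx hm.hS hF hE
  have := H.finite
  have htn : t ∈ 𝒩(E) := mem_normalizer_of_conj_mem fun x hx => by
    have := mul_mem (h3E (e4 ▸ comm_mem_succ ht.1 (hE.le hx))) hx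
    rwa [commutatorElement_def, inv_mul_cancel_right] at this
  set K := (lv S (n - 2)).subgroupOf E with hK
  have hKc : K = center E := by
    ext x
    rw [mem_center_iff]
    refine ⟨fun hx y => Subtype.ext (mem_cent.1 (hC y.2) x hx).symm, fun hx => by_contra fun hx' => ?_⟩
    have k : ∀ y ∈ E, ⁅y, (x : Ω)⁆ = 1 := fun y hy =>
      commutatorElement_eq_one_iff_mul_comm.2 (congrArg Subtype.val (hx ⟨y, hy⟩))
    by_cases h1 : (x : Ω) ∈ gam S
    · exact (hst x w ⟨hγ x x.2 h1, e3.symm ▸ hx'⟩ hw hw').comm_symm.ne_one (k w hwE)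
    · exact (hst u x hu (hE.le x.2) h1).ne_one (k u (h3E hu.1))
  have hKA : AInv (F.autGroup E) K := hKc ▸ AInv.of_characteristic _ _
  have hKi : K.index = p ^ 2 := by
    have := H1.card_mul_relIndex h2E
    rw [card_lv hm h4 (by omega), hcard, show n - (n - 2) = 2 by omega,
      show 4 = 2 + 2 from rfl, pow_add] at this
    exact Nat.eq_of_mul_eq_mul_left (pow_pos hp.out.pos 2) this
  have hΦ : Phi p ⊤ ≤ K := Phi_le_center_of_index (fun e => (hst u w hu hw hw').ne_one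
    (commutatorElement_eq_one_iff_mul_comm.2 (congrArg Subtype.val
      (e.1.1 (⟨u, h3E hu.1⟩ : E) ⟨w, hwE⟩)))) hKc.le hKi
  have htA := H.conj_mem ht.mem htn
  have htK : ∀ x ∈ K, conjAut E htn x = x := fun x hx => Subtype.ext (by
    rw [coe_conjAut, (commute_of_le hm h4 (by omega) (by omega) (by omega) ht.1
      (mem_subgroupOf.1 hx)).eq,
      mul_inv_cancel_right])
  obtain ⟨k, hk⟩ := H.conj_pElt ht.mem htn
  obtain ⟨α, hα, x, hs, -⟩ := exists_sl2Sec (AInv.top _) hKA le_top hΦ (by rwa [relIndex_top_right])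
    htA hk fun M hM _ _ h2 h3 => htE (H.mem_of_inn ht.mem htn
      (H.rad.mem_inn_of_chain3 H.isPGroup hM hKA htA h2 h3 (TrivOn.of_fixed htK _)))
  obtain ⟨τ, hτ, hneg⟩ := hs.exists_neg
  have hst0 : conjAut E htn ∈ stab _ K ⊥ (AInv.bot (F.autGroup E)) := ⟨htA, TrivOn.bot_iff.2 htK⟩
  obtain ⟨hτA, hτK⟩ := (closure_le (stab _ K ⊥ (AInv.bot (F.autGroup E)))).2 (by
    rintro _ (rfl | rfl)
    exacts [hst0, (stab_normalIn hKA (AInv.bot _)).2 α hα _ hst0]) hτ
  rw [TrivOn.bot_iff] at hτK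
  have hfix : ∀ β : MulAut E, (∀ x ∈ K, β x = x) → ∀ x ∈ K, β⁻¹ x = x := fun β hβ x hx => by
    rw [MulAut.inv_apply, MulEquiv.symm_apply_eq, hβ x hx]
  obtain ⟨f, hf, ef, hft⟩ := H.exists_ext_of_comm hτA ht.mem htn (i := 1) (by
    rw [zpow_one]
    refine H.rad.mem_inn_of_chain2 H.isPGroup hKA (mul_mem (inv_mem htA)
      (mul_mem (mul_mem hτA htA) (inv_mem hτA))) (fun x _ => ?_) (TrivOn.of_fixed (fun x hx => ?_) _)
    · have k1 := hKA _ (inv_mem htA) _ (hneg (conjAut E htn (τ⁻¹ x)) (mem_top _))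
      have k2 := hneg (τ⁻¹ x) (mem_top _)
      simpa [mul_assoc] using mul_mem (inv_mem k2) k1
    · simp only [MulAut.mul_apply]
      rw [hfix τ hτK x hx, htK x hx, hτK x hx, hfix _ htK x hx])
  rw [zpow_one] at hft
  have f1 : ∀ x ∈ E, x * f x ∈ lv S (n - 2) := fun x hx => by
    rw [ef ⟨x, hx⟩]; exact hneg ⟨x, hx⟩ (mem_top _)
  have f2 : ∀ x ∈ lv S (n - 2), f x = x := fun x hx => by
    rw [ef ⟨x, h2E hx⟩, hτK ⟨x, h2E hx⟩ hx]
  have hZ : ∀ x ∈ lv S (n - 1), f x = x := fun x hx => f2 x (lv_anti S (by omega) hx)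
  have key : ∀ s a, Lev S 2 s → (pw s (1 : ZMod p))⁻¹ * a ∈ lv S 3 → ⁅a, f u⁆ ≠ ⁅s, u⁆ :=
    fun s a hs ha e => by
    have k1 : ⁅s, u⁆ ∈ lv S (n - 1) :=
      lv_anti S (by omega) (comm_mem_add hm h4 (by omega) (by omega) hs.1 hu.1)
    have k2 := bilin hm h4 (lv_le S 3) (lv_le S (n - 3 + 1)) (lv_norm S _) (lv_norm S _) hs.mem hu.mem
      k1 (fun c hc => lv_anti S (by omega) (comm_mem_add hm h4 (by omega) (by omega) hc hu.1))
      (fun d hd => lv_anti S (by omega) (comm_mem_add hm h4 (by omega) (by omega) hs.1 hd))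
      (fun c hc d hd => lv_anti S (by omega) (comm_mem_add hm h4 (by omega) (by omega) hc hd)) ha
      (neg_cong hm h4 hu.1 (e3.symm ▸ f1 u (h3E hu.1)))
    have k3 := cong_uniq hm h4 (lev_center hm h4 k1 (hpair 2 _ (by omega) (by omega) (by omega) s u hs hu))
      (e ▸ k2) (d := 1) (by rw [EX.pw_one, inv_mul_cancel]; exact one_mem _)
    have k4 : ((2 : ℕ) : ZMod p) = 0 := by push_cast; linear_combination -k3
    exact absurd (Nat.le_of_dvd two_pos ((ZMod.natCast_eq_zero_iff _ _).1 k4)) (by omega)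
  have hEP : E ≤ E ⊔ zpowers t := le_sup_left
  have htP : t ∈ E ⊔ zpowers t := mem_sup_right (mem_zpowers t)
  by_cases hn6 : n = 6
  · subst hn6
    have k1 : ⁅t, u⁆ ∈ lv S 5 := comm_mem_add hm h4 (by omega) (by omega) ht.1 hu.1
    have k2 : ⁅f t, f u⁆ = ⁅t, u⁆ := by
      rw [← hf.map_commutatorElement htP (hEP (h3E hu.1)), hZ _ k1]
    refine key t (f t) ht ?_ k2
    rw [EX.pw_one]
    refine hγ _ hft (mul_mem (inv_mem (lv_le_gam (by omega) ht.1)) (by_contra fun k3 => ?_))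
    exact (hst _ _ (hu.inv.of_cong (by simpa using f1 u (h3E hu.1))) (hf.mem htP) k3).comm_symm.2
      (k2 ▸ k1)
  obtain ⟨g, hg, eg⟩ := hF.alperin_induction hm.hS (P := E ⊔ zpowers t)
    (M := fun f => ∃ g, F.IsIso S S g ∧ ∀ y ∈ E ⊔ zpowers t, f y = g y)
    (fun f g ⟨m, h1, h2⟩ e => ⟨m, h1, fun y hy => (e y hy).symm.trans (h2 y hy)⟩)
    ⟨id, F.isIso_id le_rfl, fun _ _ => rfl⟩ (fun f Q g hf ⟨m, h1, h2⟩ hQ hg hPQ => by
      rcases hQ with rfl | hQ
      · exact ⟨g ∘ m, hg.comp' h1, fun y hy => congrArg g (h2 y hy)⟩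
      have := H9.finite_of_le hf.le
      have hc : Nat.card E < Nat.card (img (E ⊔ zpowers t) f) := hf.isIso_img.card_eq ▸
        card_lt_of_lt (lt_of_le_of_ne hEP fun e => htE (e ▸ htP))
      have := H9.finite_of_le hQ.le
      rcases h.eq_of_card hF hQ (hcard ▸ hc.trans_le (card_le_of_le (img_le_iff.2 hPQ))) with k | k
      · obtain ⟨m', k1, k2, -⟩ := h1.exists_symm
        have k3 := IsIso.map_mem_gam k1 (k (hPQ w (hEP hwE)))
        rw [h2 w (hEP hwE), k2 w hw] at k3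
        exact absurd k3 hw'
      · exact absurd k.1 hn6) hf
  obtain ⟨a, ha⟩ := exists_fwt hm h4 (i := 2) (hg.mor.mono (lv_le S _)).isHomOn
    (fun _ => map_mem_lv hg) fun _ => map_mem_lv hg
  have hwg : w * g w ∈ gam S := eg w (hEP hwE) ▸ lv_le_gam (by omega) (f1 w hwE)
  have hch : ∀ d, 2 + 2 * d + 2 ≤ n → FWt S g (2 + 2 * d) a := fun d => by
    induction d with
    | zero => exact fun _ => ha
    | succ d ih =>
      intro hd
      have := h.fwt_succ hg hw hw' hwg (by omega) (by omega)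
        (h.fwt_succ hg hw hw' hwg (by omega) (by omega) (ih (by omega)))
      rwa [neg_neg] at this
  obtain ⟨v, hv⟩ := exists_lev_of_lt hm h4 (i := n - 2) (by omega)
  have k1 := hch (r - 2) (by omega)
  rw [show 2 + 2 * (r - 2) = n - 2 by omega] at k1
  obtain rfl : a = 1 := k1.eq hm h4 hv (by
    rw [← eg v (hEP (h2E hv.1)), f2 v hv.1]; simp [EX.pw_one])
  obtain ⟨s, hs⟩ := exists_lev_of_lt hm h4 (i := 2) (by omega)
  have k2 : ⁅s, u⁆ ∈ lv S (n - 1) :=
    lv_anti S (by omega) (comm_mem_add hm h4 (by omega) (by omega) hs.1 hu.1)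
  refine key s (g s) hs (ha s hs.1) ?_
  rw [eg u (hEP (h3E hu.1)), ← hg.mor.map_commutatorElement hs.mem hu.mem,
    ← eg _ (hEP (h2E (lv_anti S (by omega) k2))), hZ _ k2]

end Cfsg.Agent.MX
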