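import Cfsg.Agent.Lib.MX.Loc
import Cfsg.Agent.Lib.MX.T
import Cfsg.Agent.Lib.MX.Qd

/-!
# S5267: the torus element (see notes/MX.md)
-/

set_option autoImplicit false
set_option linter.unusedSectionVars false
set_option linter.unusedVariables false

namespace Cfsg.Agent.MX

open Subgroup Cfsg.Agent.H9 Cfsg.Agent.FT
open Cfsg.Agent.EX (pw PAct NC)
open scoped commutatorElement

universe u

variable {G : Type u} [Group G] [Finite G] {p : ℕ} [hp : Fact p.Prime] {S E Γ Δ : Subgroup G}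
  {n k : ℕ}

theorem Loc.exists_tor (h : Loc p n S E Γ Δ) (hr : ¬ RC n S E Γ) (hk : Top n S E k) {t : G}
    (ht : Lev S k t) {c : ZMod p} (hc : c ≠ 0) : ∃ m y, Tor n S E Δ t c m y := by
  obtain ⟨V, _, _, _, ⟨σ⟩⟩ := exists_sec_Om p E
  have hEY : 𝒩(E) ≤ 𝒩(Om p E) := norm_le_norm_Om
  have hΓY : Γ ≤ 𝒩(Om p E) := h.ΓN.trans hEY
  let ρ := secHom σ hΓY fun g _ => mem_norm_bot g
  have hρ1 : ∀ g : Γ, ρ g = 1 ↔ (g : G) ∈ 𝒞(Om p E) := fun g => sec_eq_one_iff σ (hΓY g.2)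
  have hact : ∀ g : Γ, ∀ a ∈ Om p E, ρ g (σ.π a) = σ.π (g * a * (g : G)⁻¹) := fun g a ha =>
    σ.ρ_π g (hΓY g.2) (mem_norm_bot _) a ha
  obtain ⟨P, hP⟩ : ∃ P, P = (S ⊓ 𝒩(E)) ⊔ 𝒞(Om p E) := ⟨_, rfl⟩
  have hCP : 𝒞(Om p E) ≤ P := hP ▸ le_sup_right
  have hNP : S ⊓ 𝒩(E) ≤ P := hP ▸ le_sup_left
  have hNC : NC S E ≤ P := sup_le hNP ((cent_le_cent Om_le).trans hCP)
  have memP : ∀ {x}, x ∈ P → ∃ a ∈ S ⊓ 𝒩(E), ∃ b ∈ 𝒞(Om p E), a * b = x := fun hx =>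
    (H9.mem_sup_of_le_normalizer (H1.le_normalizer_centralizer (inf_le_right.trans hEY))).1 (hP ▸ hx)
  have key : ∀ g ∈ Γ, ∀ x ∈ S ⊓ 𝒩(E), x ∉ E → g * x * g⁻¹ ∈ P →
      ∃ b ∈ 𝒞(Om p E), b ∈ Γ ∧ b * g ∈ 𝒩(NC S E) := fun g hg x hx hxE h1 => by
    obtain ⟨a, ha, e⟩ := exists_conj_of_pAct (K := Γ ⊓ P) (inf_le_left.trans h.ΓN)
      (inf_le_right.trans le_sup_right)
      (not_dvd_relIndex_of_le inf_le_left (inf_le_inf_left _ hNC) h.sylΓ)
      (zpowers_le.2 ⟨Γ.mul_mem (Γ.mul_mem hg (h.NΓ hx)) (Γ.inv_mem hg), h1⟩)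
      (pAct_zpowers_conj h.mc.hS hx.1 g)
    have h2 := h.ti (mul_mem ha.1 hg) hx hxE (by simpa [mul_assoc, NC] using e _ (mem_zpowers _))
    obtain ⟨u, hu, b, hb, rfl⟩ := memP ha.2
    refine ⟨b, hb, (mul_mem_cancel_left (h.NΓ hu)).1 ha.1, ?_⟩
    simpa [mul_assoc] using mul_mem (inv_mem (le_normalizer (mem_NC_of_mem hu))) h2
  have hPn : ∀ g ∈ Γ, g ∈ 𝒩(NC S E) → g ∈ 𝒩(P) := fun g hg h1 => by
    have e : P = NC S E ⊔ 𝒞(Om p E) := le_antisymm (hP ▸ sup_le_sup_right le_sup_left _)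
      (sup_le hNC hCP)
    rw [e]
    exact H1.le_normalizer_sup (zpowers_le.2 h1)
      (H1.le_normalizer_centralizer (zpowers_le.2 (hΓY hg))) (mem_zpowers g)
  have htN := h.top_mem hk ht.1
  have htE := h.top_not_mem hk ht
  have hmul : ∀ (x : Γ) {a b : G} (ha : a ∈ Γ), b ∈ 𝒞(Om p E) → a * b = x → ρ x = ρ ⟨a, ha⟩ :=
    fun x a b ha hb e => by
      have hbΓ : b ∈ Γ := (mul_mem_cancel_left ha).1 (e ▸ x.2)
      rw [show x = ⟨a, ha⟩ * ⟨b, hbΓ⟩ from Subtype.ext e.symm, map_mul, (hρ1 ⟨b, hbΓ⟩).2 hb, mul_one]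
  obtain ⟨g, hg, hgt⟩ := h.exists_not_cent hr htN htE
  have hZY : lv S (n - 1) ≤ Om p E := fun z hz => ⟨h.Z_le hz, mem_cent.2 fun x hx =>
    commute_center h.mc h.h4 hz (h.le_S hx), center_pow h.mc h.h4 hz⟩
  have hPZ : P ≤ 𝒞(lv S (n - 1)) :=
    hP ▸ sup_le (inf_le_left.trans (le_cent_center h.mc h.h4)) (cent_le_cent hZY)
  have hcm : ∀ a ∈ Om p E, ⁅t, a⁆ ∈ Om p E := fun a ha => by
    simpa [commutatorElement_def] using
      mul_mem (H9.conj_mem_of_mem_normalizer (hEY htN.2) ha) (inv_mem ha)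
  have hA : ∀ a ∈ Om p E, (ρ ⟨t, h.NΓ htN⟩ - 1) (σ.π a) = σ.π ⁅t, a⁆ := fun a ha =>
    (σ.π_comm (hEY htN.2) (mem_norm_bot t) ha).symm
  have hA0 : ∀ a ∈ Om p E, Commute t a → (ρ ⟨t, h.NΓ htN⟩ - 1) (σ.π a) = 0 := fun a ha e => by
    rw [hA a ha, commutatorElement_eq_one_iff_commute.2 e, σ.π_one]
  have : Finite (Module.End (ZMod p) V) := DFunLike.finite _
  obtain ⟨B, e, hB, hAB, hee, hAe, heA, hBe, heB, hB', htor⟩ := lemT h.h5 H3.MC.natCast_end ρ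
    (P := P.subgroupOf Γ) (fun x hx => hCP ((hρ1 x).1 hx))
    (fun x hx => by
      obtain ⟨a, ha, b, hb, e⟩ := memP hx
      obtain ⟨j, hj⟩ := H9.exists_pow_eq_one h.mc.hS ha.1
      exact ⟨j, by rw [hmul x (h.NΓ ha) hb e, ← map_pow,
        show (⟨a, h.NΓ ha⟩ : Γ) ^ p ^ j = 1 from Subtype.ext hj, map_one]⟩)
    (fun e => h.sylΓ (e.trans (relIndex_dvd_of_le_left Γ hNC)))
    (fun x hx hx1 g hg => by
      obtain ⟨a, ha, b, hb, e⟩ := memP (mem_subgroupOf.1 hx)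
      have haE : a ∉ E := fun e' => hx1 ((hρ1 x).2 (e ▸ mul_mem (le_cent_Om e') hb))
      have h1 : g * a * (g : G)⁻¹ ∈ P := by
        have k1 := hCP (H9.conj_mem_of_mem_normalizer (H1.le_normalizer_centralizer hΓY g.2) hb)
        have k2 : (g : G) * x * (g : G)⁻¹ ∈ P := hg
        rw [← e] at k2
        simpa [mul_assoc] using mul_mem k2 (inv_mem k1)
      obtain ⟨b', k1, k2, k3⟩ := key g g.2 a ha haE h1
      have k4 : (g : G) ∈ 𝒩(P) :=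
        (mul_mem_cancel_left (le_normalizer (hCP k1))).1 (hPn _ (mul_mem k2 g.2) k3)
      exact mem_normalizer_of_conj_mem fun y hy =>
        mem_subgroupOf.2 (H9.conj_mem_of_mem_normalizer k4 (mem_subgroupOf.1 hy)))
    (t := ⟨t, h.NΓ htN⟩) (hNP htN)
    (fun u hu => by
      obtain ⟨a, ha, b, hb, e⟩ := memP hu
      have k1 := hk.succ (comm_mem_succ' ha.1 ht.1)
      rw [hmul u (h.NΓ ha) hb e, ← map_mul, ← map_mul]
      exact hmul _ (mul_mem (h.NΓ htN) (h.NΓ ha)) (H9.conj_mem_of_mem_normalizer'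
        (H1.le_normalizer_centralizer hΓY (mul_mem (h.NΓ htN) (h.NΓ ha))) (le_cent_Om k1))
        (by simp [commutatorElement_def, mul_assoc]))
    (by
      ext v
      obtain ⟨a, ha, rfl⟩ := σ.surj v
      rw [Module.End.mul_apply, hA a ha]
      exact hA0 _ (hcm a ha) (h.m5.quad h.le hk ht.1 ha.1 ha.2.1 ha.2.2))
    (g := ⟨g, hg⟩) (fun e => hgt (hPZ e))
  set A := ρ ⟨t, h.NΓ htN⟩ - 1 with hAdef
  have hAA : A * A = 0 := by
    ext v
    obtain ⟨a, ha, rfl⟩ := σ.surj v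
    rw [Module.End.mul_apply, hA a ha]
    exact hA0 _ (hcm a ha) (h.m5.quad h.le hk ht.1 ha.1 ha.2.1 ha.2.2)
  obtain ⟨x, hx⟩ := htor c.val c⁻¹.val (by
    rw [← Int.cast_mul, ← map_intCast (algebraMap (ZMod p) (Module.End (ZMod p) V))]
    simp [hc])
  have hx' : ρ x = 1 - e + c • (A * B) + c⁻¹ • (B * A) := by
    rw [hx, Algebra.smul_def, Algebra.smul_def,
      ← map_intCast (algebraMap (ZMod p) (Module.End (ZMod p) V)),
      ← map_intCast (algebraMap (ZMod p) (Module.End (ZMod p) V))]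
    simp
  have hABA : A * B * A = A := by
    have : (A * B + B * A) * A = A := by rw [hAB, heA]
    rwa [add_mul, mul_assoc B, hAA, mul_zero, add_zero] at this
  have hBAB : B * A * B = B := by
    have : (A * B + B * A) * B = B := by rw [hAB, heB]
    rwa [add_mul, mul_assoc A, hB, mul_zero, zero_add] at this
  have hxA : ρ x * A = c • A := by
    rw [hx', add_mul, add_mul, sub_mul, one_mul, heA, smul_mul_assoc, smul_mul_assoc, hABA,
      mul_assoc B, hAA]; simp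
  have hxB : ρ x * B = c⁻¹ • B := by
    rw [hx', add_mul, add_mul, sub_mul, one_mul, heB, smul_mul_assoc, smul_mul_assoc, hBAB,
      mul_assoc A, hB]; simp
  have hAx : A * ρ x = c⁻¹ • A := by
    rw [hx', mul_add, mul_add, mul_sub, mul_one, hAe, mul_smul_comm, mul_smul_comm, ← mul_assoc,
      ← mul_assoc, hAA, hABA]; simp
  -- the torus element normalizes `P`
  have hxt : (x : G) * t * (x : G)⁻¹ ∈ P := by
    have k1 := H3.MC.one_add_zpow ρ (x := ⟨t, h.NΓ htN⟩) (α := A) (add_sub_cancel _ _).symm hAA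
      (c * c).val
    have k2 : ρ x * ρ ⟨t, h.NΓ htN⟩ = ρ (⟨t, h.NΓ htN⟩ ^ ((c * c).val : ℤ)) * ρ x := by
      rw [k1, show ρ ⟨t, h.NΓ htN⟩ = 1 + A by rw [hAdef, add_sub_cancel], mul_add, add_mul, mul_one,
        one_mul, hxA, mul_assoc, hAx, ← map_intCast (algebraMap (ZMod p) (Module.End (ZMod p) V)),
        ← Algebra.smul_def, smul_smul]
      simp [hc]
    have k3 : ρ ((⟨t, h.NΓ htN⟩ ^ ((c * c).val : ℤ))⁻¹ * (x * ⟨t, h.NΓ htN⟩ * x⁻¹)) = 1 := by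
      rw [map_mul, map_mul, map_mul, k2, mul_assoc, ← map_mul, mul_inv_cancel, map_one, mul_one,
        ← map_mul, inv_mul_cancel, map_one]
    exact (mul_mem_cancel_left (inv_mem (zpow_mem (hNP htN) _))).1 (hCP ((hρ1 _).1 k3))
  obtain ⟨b, hb, hbΓ, hbx⟩ := key x x.2 t htN htE hxt
  obtain ⟨m, hm, em⟩ := h.ext _ (mul_mem hbΓ x.2) t htN htE
    (H9.conj_mem_of_mem_normalizer hbx (mem_NC_of_mem htN))
  have hmx : ∀ a ∈ Om p E, m * a * m⁻¹ = x * a * (x : G)⁻¹ := fun a ha => by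
    have := mem_cent.1 hb _ (H9.conj_mem_of_mem_normalizer (hΓY x.2) ha)
    rw [← em a ha.1]
    calc b * x * a * (b * x)⁻¹ = b * (x * a * (x : G)⁻¹) * b⁻¹ := by group
      _ = _ := by rw [← this]; group
  have hmY : ∀ a ∈ Om p E, m * a * m⁻¹ ∈ Om p E := fun a ha =>
    hmx a ha ▸ H9.conj_mem_of_mem_normalizer (hΓY x.2) ha
  have hπ : ∀ a ∈ Om p E, σ.π (m * a * m⁻¹) = ρ x (σ.π a) := fun a ha => by
    rw [hact x a ha, hmx a ha]
  have heig : ∀ a ∈ Om p E, ∀ d : ZMod p, ρ x (σ.π a) = d • σ.π a → m * a * m⁻¹ = pw a d :=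
    fun a ha d e => sec_inj σ (hmY a ha) (EX.pw_mem ha d) (by rw [hπ a ha, e, σ.π_pw ha])
  have hxv : ∀ v, A v = 0 → ρ x v - v = (c - 1) • A (B v) ∧ e v = A (B v) := fun v hv => by
    have k1 : e v = A (B v) := by rw [← hAB]; simp [hv]
    refine ⟨?_, k1⟩
    rw [hx']
    simp only [LinearMap.add_apply, LinearMap.sub_apply, LinearMap.smul_apply, Module.End.mul_apply,
      hv, k1, map_zero, Module.End.one_apply, smul_zero]
    module
  obtain ⟨z, hz, hz'⟩ : ∃ z ∈ lv S (n - 1), e (σ.π z) ≠ 0 := by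
    by_contra! hz
    refine hgt (mem_cent.2 fun z hz' => ?_)
    have k1 := LinearMap.congr_fun hB' (σ.π z)
    rw [Module.End.mul_apply, hz z hz', map_zero, LinearMap.sub_apply, hact _ z (hZY hz'), eq_comm,
      sub_eq_zero] at k1
    exact (mul_inv_eq_iff_eq_mul.1 (sec_inj σ (H9.conj_mem_of_mem_normalizer
      (hΓY (⟨g, hg⟩ * ⟨t, h.NΓ htN⟩ * (⟨g, hg⟩ : Γ)⁻¹).2) (hZY hz')) (hZY hz') k1)).symm
  have hAz := hA0 z (hZY hz) (commute_center h.mc h.h4 hz htN.1)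
  obtain ⟨y, hy, ey⟩ := σ.surj (B (σ.π z))
  have hty : σ.π ⁅t, y⁆ = A (B (σ.π z)) := by rw [← hA y hy, ey]
  refine ⟨m, y, hm, hy.1, hy.2.1, hy.2.2, fun e' => hz' ?_,
    h.m5.quad h.le hk ht.1 hy.1 hy.2.1 hy.2.2, heig y hy _ ?_, heig _ (hcm y hy) _ ?_,
    fun v h1 h2 h3 h4 => ?_, fun h1 => ⟨z, hz, fun e' => hz' ?_⟩⟩
  · rw [(hxv _ hAz).2, ← hty, e', σ.π_one]
  · rw [ey, ← Module.End.mul_apply, hxB]; rfl
  · rw [hty, ← Module.End.mul_apply, hxA]; rfl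
  · have hv : v ∈ Om p E := ⟨h1, h2, h3⟩
    refine heig _ (mul_mem (hmY v hv) (inv_mem hv)) c ?_
    rw [σ.π_mul _ (hmY v hv) _ (inv_mem hv), σ.π_inv hv, hπ v hv, ← sub_eq_add_neg,
      (hxv _ (hA0 v hv h4)).1, map_smul, ← Module.End.mul_apply, hxA, smul_comm]
    rfl
  · have k1 := (hxv _ hAz).1
    rw [← hπ z (hZY hz), e', sub_self, eq_comm, smul_eq_zero, ← (hxv _ hAz).2] at k1
    exact k1.resolve_left (sub_ne_zero.2 h1)

end Cfsg.Agent.MX
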