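import Cfsg.Agent.Lib.MX.W0
import Cfsg.Agent.Lib.H9.SmallEss

/-!
# S5267: essential subgroups containing a uniform element (see notes/MX.md)
-/

set_option autoImplicit false
set_option linter.unusedSectionVars false
set_option linter.unusedVariables false

namespace Cfsg.Agent.MX

open Subgroup Cfsg.Agent.H9 Cfsg.Agent.FT Cfsg.FusionSystem
open scoped commutatorElement

universe u

variable {Ω : Type u} [Group Ω] {S E : Subgroup Ω} [Finite S] {F : FusionSystem S} {p n : ℕ}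
  [hp : Fact p.Prime]

theorem pearl_of_unif (h : MaxCl p S n) (h4 : 4 ≤ n) (hF : F.IsSaturated p)
    (hE : F.IsEssential p E) {s : Ω} (hsE : s ∈ E) (hs : Unif S n s) : PearlT p E := by
  obtain ⟨M, H⟩ := exists_essCtx h.hS hF hE
  have := H.finite
  have h0 := hp.out.one_lt
  obtain ⟨m, hm⟩ := exists_card_eq_pow H.isPGroup
  have h1 := card_lt_of_lt' H.lt
  have h2 := card_le_of_le' (sup_le (h.center_eq ▸ H.center_le) (zpowers_le.2 hsE) :
    S.lowerCentralSeries (n - 2) ⊔ zpowers s ≤ E)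
  rw [hm, h.card, Nat.pow_lt_pow_iff_right h0] at h1
  rw [hm, h.card_tower hs (by omega), Nat.pow_le_pow_iff_right h0] at h2
  obtain ⟨g, ⟨hg, hn⟩, hg'⟩ := SetLike.exists_of_lt (lt_normalizerIn h.hS H.lt)
  have hr := H.radT hg hn hg'
  rcases (by omega : m = 2 ∨ m = 3 ∨ 4 ≤ m) with rfl | rfl | h5
  · exact Or.inl ⟨hm, Phi_subgroup_top_eq_bot_iff.1 (hr.card_sq hm).1⟩
  · rcases hr.card_cube hm with h3 | ⟨h3, h5, h6⟩ | ⟨rfl, ⟨e⟩⟩
    · have := H9.finite_of_le (inf_le_left : S ⊓ centralizer ({s} : Set Ω) ≤ S)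
      have h5 := card_le_of_le' (show E ≤ S ⊓ centralizer ({s} : Set Ω) from fun e he =>
        ⟨H.le he, mem_centralizer_singleton_iff.2 ((isElementaryAbelian_iff.1
          (Phi_subgroup_top_eq_bot_iff.1 h3)).1 e he s hsE)⟩)
      rw [hm, h.card_centralizer hs, Nat.pow_le_pow_iff_right h0] at h5
      omega
    · have : Nontrivial E := Finite.one_lt_card_iff_nontrivial.1 (hm ▸ Nat.one_lt_pow (by omega) h0)
      exact Or.inr ⟨hm, h5, fun _ => (Monoid.exponent_eq_prime_iff hp.out).2 fun g hg =>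
        orderOf_eq_prime (h6 g) hg, fun e => absurd (e ▸ h3) (by decide)⟩
    · refine Or.inr ⟨hm, isExtraspecial_of_card_cube hm fun hc => ?_, fun e => absurd rfl e,
        fun _ => ⟨e⟩⟩
      have := congrArg e (hc.is_comm.comm (e.symm (QuaternionGroup.a 1))
        (e.symm (QuaternionGroup.xa 0)))
      simp only [map_mul, MulEquiv.apply_symm_apply] at this
      exact absurd this (by decide)
  exfalso
  have e := h.eq_tower hs H.le hsE (k := n - m) (by omega) (by rw [hm]; congr 1; omega)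
  have hΦ : S.lowerCentralSeries (n - m + 1) ≤ Phi p E := h.lcs_succ_le hs (by omega)
    fun j hj y hy => commutator_mem_Phi (e.ge (mem_sup_left (lcs_anti S hj hy))) hsE
  have hi : AInv (F.autGroup E) ((S.lowerCentralSeries (n - m)).subgroupOf E) :=
    aInv_subgroupOf_iff.2 fun α hα y _ hy => h.map_mem_of_tower (F := F) hs (by omega) (by omega)
      (by rw [← e]; exact isIso_of_mem_autGroup H.le hα) hy
  refine hg' (H.mem_of_inn hg hn (H.rad.mem_inn_of_chain3 H.isPGroup (AInv.top _) hi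
    (H.conj_mem hg hn) (TrivOn.top_top _) (trivOn_conjAut_top _ fun y hy =>
      h.mem_of_mem_tower hs (by omega) (e.le ?_) (commutator_mem_lcs (k := 0) (H.le hy) hg)) ?_))
  · simpa [commutatorElement_def, mul_assoc] using
      mul_mem hy (H9.conj_mem_of_mem_normalizer hn (inv_mem hy))
  · rw [← Phi_subgroupOf]
    exact trivOn_conjAut_of_commutator _ fun y _ hy => hΦ (commutator_mem_lcs hy hg)

theorem iso_map_lv {f : Ω → Ω} (hf : F.IsIso S S f) (i : ℕ) : ∀ x ∈ lv S i, f x ∈ lv S i := by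
  match i with
  | 0 => exact hf.mapsTo
  | 1 => exact fun x hx => IsIso.map_mem_gam hf hx
  | i + 2 => exact fun x hx => IsMor.map_mem_lcs hf.mor le_rfl hf.mapsTo hx

/-- An automorphism inverting `E / Φ(E)` extends over any element of `N_S(E)`. -/
theorem exists_ext_of_neg {M : Subgroup (MulAut E)} (H : EssCtx p F E M) {τ : MulAut E}
    (hτ : τ ∈ F.autGroup E) (h1 : ∀ v, v * τ v ∈ Phi p (⊤ : Subgroup E)) {u : Ω} (hu : u ∈ S)
    (hn : u ∈ 𝒩(E)) : ∃ f, F.IsIso (E ⊔ zpowers u) (E ⊔ zpowers u) f ∧ ∀ x : E, f x = τ x := by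
  have := H.finite
  have hc := H.conj_mem hu hn
  obtain ⟨f, hf, ef, hfu⟩ := H.exists_ext_of_comm hτ hu hn (i := 1) (by
    rw [zpow_one]
    refine H.rad.mem_inn_of_chain1 H.isPGroup
      (mul_mem (inv_mem hc) (mul_mem (mul_mem hτ hc) (inv_mem hτ))) fun x _ => ?_
    have k1 := h1 (τ⁻¹ x)
    have k2 := (AInv.top (F.autGroup E)).Phi _ (inv_mem hc) _ (h1 (conjAut E hn (τ⁻¹ x)))
    have := mul_mem (inv_mem k1) k2
    simpa [mul_assoc] using this)
  refine ⟨f, hf.isIso_self (hf.isHomOn.mapsTo_sup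
    (fun x hx => mem_sup_left (ef ⟨x, hx⟩ ▸ Subtype.prop _)) ?_), ef⟩
  rintro _ ⟨i, rfl⟩
  simp only
  rw [hf.map_zpow (mem_sup_right (mem_zpowers u))]
  exact zpow_mem ((mul_mem_cancel_left (inv_mem (mem_sup_right (zpow_mem_zpowers u 1)))).1
    (mem_sup_left hfu)) i

theorem pw_neg_one_cong {K : Subgroup Ω} {x y : Ω} (hx : x ^ p ∈ K) (h : x * y ∈ K) :
    (EX.pw x (-1 : ZMod p))⁻¹ * y ∈ K := by
  have h1 : (-1 : ZMod p).val = p - 1 := by
    obtain ⟨m, rfl⟩ : ∃ m, p = m + 1 := ⟨p - 1, (Nat.succ_pred_eq_of_pos hp.out.pos).symm⟩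
    exact ZMod.val_neg_one m
  have h2 : x ^ p = x ^ (p - 1) * x := by
    rw [← pow_succ, Nat.sub_add_cancel hp.out.pos]
  have := mul_mem (inv_mem hx) h
  rw [EX.pw, h1]
  rwa [h2, mul_inv_rev, ← (Commute.refl x).pow_left (p - 1) |>.inv_inv.eq, mul_assoc,
    inv_mul_cancel_left] at this

/-- An exceptional group has no extraspecial pearl. -/
theorem M5.not_extraspecial (h : M5 p S n) (hne : ¬ NE S n) (hF : F.IsSaturated p)
    (hE : F.IsEssential p E) (hc : Nat.card E = p ^ 3) (hx : IsExtraspecial p E) : False := by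
  have hm := h.mc
  have h4 := h.h4
  obtain ⟨hev, h6, -, hpair⟩ := h.exc hne
  obtain ⟨M, H⟩ := exists_essCtx hm.hS hF hE
  have := H.finite
  have hna := IsExtraspecial.not_isMulCommutative hx
  have hpc : IsPearlCard p E := Or.inr ⟨hc, hna⟩
  obtain ⟨-, s, hsE, hs⟩ := H.pearl hpc hm.card
  obtain ⟨k, -, -, e, -, hk⟩ := H.eq_tower hpc hm hsE hs
  obtain rfl := hk hc
  obtain ⟨hZ, hΦ⟩ := H.center_eq_of_card_cube hc hna
  rw [center_eq hm h4] at hZ
  obtain ⟨u, hu, hu'⟩ := SetLike.exists_of_lt (lt_normalizerIn hm.hS H.lt)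
  have hN : E ⊔ zpowers u = normalizerIn S E := by
    refine sup_zpowers_eq_of_relIndex_prime hp.out ?_ (le_normalizerIn H.le) hu hu'
    rw [relIndex_eq_of_card (le_normalizerIn H.le) (a := 3) (b := 1) hp.out.pos ?_ hc, pow_one]
    rw [e, hm.normalizer_tower hs (by omega), hm.card_tower hs (by omega)]
    congr 1
    omega
  obtain ⟨x, y, hS, -⟩ := (H.radT hu.1 hu.2 hu').exists_sl2Sec_top H.isPGroup
    (index_eq_of_card (a := 1) hp.out.pos hc (by
      rw [← Phi_subgroupOf, card_subgroupOf_of_le (Phi_le E), hΦ, pow_one]))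
  obtain ⟨τ, hτ, h1⟩ := hS.exists_neg
  obtain ⟨f, hf, ef⟩ := exists_ext_of_neg H hτ (fun v => h1 v (mem_top v)) hu.1 hu.2
  obtain ⟨g, hg, eg⟩ := H.exists_ext_of_pearl hpc (hN ▸ hf)
  have h2 : ∀ v ∈ E, (EX.pw v (-1 : ZMod p))⁻¹ * g v ∈ lv S (k + 3) := fun v hv => by
    have h3 := h1 ⟨v, hv⟩ (mem_top _)
    rw [← Phi_subgroupOf, mem_subgroupOf] at h3
    rw [eg v (le_normalizerIn H.le hv), ef ⟨v, hv⟩, show k + 3 = k + 4 - 1 from rfl, hZ]
    exact pw_neg_one_cong (pow_mem_Phi hv) h3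
  have hc0 : ∀ a ∈ S, ∀ d ∈ lv S (k + 3), ⁅a, d⁆ = 1 := fun a ha d hd =>
    commutatorElement_eq_one_iff_mul_comm.2 (commute_center hm h4 hd ha)
  have hom := fun i => hg.mor.isHomOn.mono (lv_le S i)
  have step : ∀ i (w : ZMod p), 1 ≤ i → i ≤ k + 2 → FWt S g i w → FWt S g (i + 1) (w * -1) := by
    intro i w hi hi' hw
    obtain ⟨y, hy⟩ := exists_lev_of_lt hm h4 (i := i) (by omega)
    have h3 := hy.comm_unif hm h4 hs hi (by omega)
    refine fwt_of_lev hm h4 (hom _) (iso_map_lv hg _) h3 ?_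
    rw [hg.mor.map_commutatorElement hy.mem hs.mem]
    exact bilin hm h4 (lv_le S (i + 1)) (lv_le S (k + 3)) (lv_norm S _) (lv_norm S _) hy.mem hs.mem
      h3.1 (fun c hc => comm_mem_succ hc hs.mem) (fun d hd => hc0 y hy.mem d hd ▸ one_mem _)
      (fun c hc d hd => hc0 c (lv_le S _ hc) d hd ▸ one_mem _) (hw y hy.1) (h2 s hsE)
  obtain ⟨a, ha⟩ := exists_fwt hm h4 (hom 1) (iso_map_lv hg 1) (iso_map_lv hg 2)
  have all : ∀ j, j ≤ k + 1 → FWt S g (j + 1) (a * (-1) ^ j) := by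
    intro j
    induction j with
    | zero => intro _; simpa using ha
    | succ j ih =>
      intro hj
      rw [pow_succ, ← mul_assoc]
      exact step _ _ (by omega) (by omega) (ih (by omega))
  have w2 : FWt S g (k + 2) (-1 : ZMod p) := fun v hv =>
    h2 v (e.ge (mem_sup_left (by rwa [lv_succ (by omega)] at hv)))
  have w3 := step _ _ (by omega) le_rfl w2
  obtain ⟨x, hx⟩ := exists_lev_of_lt hm h4 (i := 1) (by omega)
  obtain ⟨y, hy⟩ := exists_lev_of_lt hm h4 (i := k + 2) (by omega)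
  have h3 : Lev S (k + 3) ⁅x, y⁆ := lev_center hm h4 (comm_mem_succ' hx.mem hy.1)
    (hpair 1 (k + 2) le_rfl (by omega) (by omega) x y hx hy)
  have e1 : (-1 : ZMod p) * -1 = a * -1 := by
    refine w3.eq hm h4 h3 ?_
    rw [hg.mor.map_commutatorElement hx.mem hy.mem]
    exact bilin hm h4 (lv_le S 2) (lv_le S (k + 3)) (lv_norm S _) (lv_norm S _) hx.mem hy.mem h3.1
      (fun c hc => lv_anti S (by omega) (comm_mem_add hm h4 (by omega) (by omega) hc hy.1))
      (fun d hd => hc0 x hx.mem d hd ▸ one_mem _)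
      (fun c hc d hd => hc0 c (lv_le S _ hc) d hd ▸ one_mem _) (ha x hx.1) (w2 y hy.1)
  have e2 := (all (k + 1) le_rfl).uniq hm h4 w2 (by omega)
  rw [Odd.neg_one_pow (by obtain ⟨r, hr⟩ := hev; exact ⟨r - 2, by omega⟩)] at e2
  have e3 : ((2 : ℕ) : ZMod p) = 0 := by push_cast; linear_combination e1 + e2
  have := Nat.le_of_dvd two_pos ((ZMod.natCast_eq_zero_iff _ _).1 e3)
  have := h.h5
  omega

end Cfsg.Agent.MX
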